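import Groth.Agent.Lib.Helper28.EffDesc.RepFppf
import Groth.Agent.Lib.Helper16.EtChartSp
import Groth.Agent.Lib.Helper16.DiagProps
import Groth.Agent.Lib.Helper16.RepSpace

/-!
# Effective descent (helper28): the diagonal of an fppf sheaf with an fppf cover by an algebraic space is representable
-/

set_option autoImplicit false
set_option maxHeartbeats 3200000
set_option backward.isDefEq.respectTransparency false
set_option backward.isDefEq.respectTransparency.types false
universe u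
open CategoryTheory CategoryTheory.Limits AlgebraicGeometry Opposite

namespace Groth.Agent.Lib.Helper28.SheafDesc

open AlgSp Desc Groth.Agent.Lib.Helper15 Groth.Agent.Lib.Helper16 Groth.Agent.Lib.Helper28.EffDesc

variable {S : Scheme.{u}}

theorem representable_of_fppf_cover {F X : Sp S} (hX : IsAlgSpace X) (p : X ⟶ F)
    (hp : RepBySpWith (IsSurjectiveMor ⊓ LocP @Flat ⊓ LocP @LocallyOfFinitePresentation) p.hom)
    {T₁ : Over S} (α : (yon S).obj T₁ ⟶ F) : Representable α := by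
  rw [repBySpWith_hom_iff] at hp
  intro T₂ β
  -- the product `T₁ × T₂`
  have hc1 : prodComparison (yon S) T₁ T₂ ≫ prod.fst = (yon S).map prod.fst := prod.lift_fst _ _
  have hc2 : prodComparison (yon S) T₁ T₂ ≫ prod.snd = (yon S).map prod.snd := prod.lift_snd _ _
  have hlift : ∀ {Q' : Sp S} (m₁ : Q' ⟶ (yon S).obj T₁) (m₂ : Q' ⟶ (yon S).obj T₂),
      ∃ m : Q' ⟶ (yon S).obj (T₁ ⨯ T₂), m ≫ (yon S).map prod.fst = m₁ ∧
        m ≫ (yon S).map prod.snd = m₂ := by
    intro Q' m₁ m₂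
    refine ⟨prod.lift m₁ m₂ ≫ inv (prodComparison (yon S) T₁ T₂), ?_, ?_⟩
    · rw [← hc1, Category.assoc, IsIso.inv_hom_id_assoc, prod.lift_fst]
    · rw [← hc2, Category.assoc, IsIso.inv_hom_id_assoc, prod.lift_snd]
  have hext : ∀ {Q' : Sp S} (m m' : Q' ⟶ (yon S).obj (T₁ ⨯ T₂)),
      m ≫ (yon S).map prod.fst = m' ≫ (yon S).map prod.fst →
      m ≫ (yon S).map prod.snd = m' ≫ (yon S).map prod.snd → m = m' := by
    intro Q' m m' h1 h2
    rw [← cancel_mono (prodComparison (yon S) T₁ T₂)]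
    apply Limits.prod.hom_ext
    · rw [Category.assoc, Category.assoc, hc1]
      exact h1
    · rw [Category.assoc, Category.assoc, hc2]
      exact h2
  obtain ⟨T, τ₁, τ₂, hlift', hext'⟩ : ∃ (T : Over S) (τ₁ : T ⟶ T₁) (τ₂ : T ⟶ T₂),
      (∀ {Q' : Sp S} (m₁ : Q' ⟶ (yon S).obj T₁) (m₂ : Q' ⟶ (yon S).obj T₂),
        ∃ m : Q' ⟶ (yon S).obj T, m ≫ (yon S).map τ₁ = m₁ ∧ m ≫ (yon S).map τ₂ = m₂) ∧
      (∀ {Q' : Sp S} (m m' : Q' ⟶ (yon S).obj T), m ≫ (yon S).map τ₁ = m' ≫ (yon S).map τ₁ →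
        m ≫ (yon S).map τ₂ = m' ≫ (yon S).map τ₂ → m = m') :=
    ⟨T₁ ⨯ T₂, prod.fst, prod.snd, fun m₁ m₂ => hlift m₁ m₂, fun m m' h1 h2 => hext m m' h1 h2⟩
  clear hlift hext hc1 hc2
  -- the sheaf `Q = h_{T₁} ×_F h_{T₂}` over `h_T`
  obtain ⟨pT, hpT1, hpT2⟩ := hlift' (pullback.fst α β) (pullback.snd α β)
  have hmonoT : Mono pT := ⟨fun l l' h => by
    apply pullback.hom_ext
    · rw [← hpT1, ← Category.assoc, h, Category.assoc]
    · rw [← hpT2, ← Category.assoc, h, Category.assoc]⟩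
  -- first chart: lifting `α`
  obtain ⟨hA₁, ⟨hs₁, hfl₁⟩, hfp₁⟩ := hp ((yon S).map τ₁ ≫ α) (pullback.fst p ((yon S).map τ₁ ≫ α))
    (pullback.snd p ((yon S).map τ₁ ≫ α)) (IsPullback.of_hasPullback p ((yon S).map τ₁ ≫ α))
  obtain ⟨U₁, c₁, π₁, hc₁, i1, i2, i3⟩ :=
    exists_fppf_chart hA₁ (pullback.snd p ((yon S).map τ₁ ≫ α)) hs₁ hfl₁ hfp₁
  -- second chart: lifting `β`
  obtain ⟨hA₂, ⟨hs₂, hfl₂⟩, hfp₂⟩ := hp ((yon S).map π₁ ≫ (yon S).map τ₂ ≫ β)
    (pullback.fst p ((yon S).map π₁ ≫ (yon S).map τ₂ ≫ β))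
    (pullback.snd p ((yon S).map π₁ ≫ (yon S).map τ₂ ≫ β))
    (IsPullback.of_hasPullback p ((yon S).map π₁ ≫ (yon S).map τ₂ ≫ β))
  obtain ⟨U, c₂, π₂, hc₂, j1, j2, j3⟩ :=
    exists_fppf_chart hA₂ (pullback.snd p ((yon S).map π₁ ≫ (yon S).map τ₂ ≫ β)) hs₂ hfl₂ hfp₂
  obtain ⟨π, hπ⟩ : ∃ π : U ⟶ T, π = π₂ ≫ π₁ := ⟨_, rfl⟩
  have hπm : (yon S).map π = (yon S).map π₂ ≫ (yon S).map π₁ := by rw [hπ, Functor.map_comp]
  haveI : Flat π.left := by
    rw [hπ, Over.comp_left]
    haveI := i1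
    haveI := j1
    infer_instance
  haveI : LocallyOfFinitePresentation π.left := by
    rw [hπ, Over.comp_left]
    haveI := i2
    haveI := j2
    infer_instance
  haveI : Surjective π.left := by
    rw [hπ, Over.comp_left]
    haveI := i3
    haveI := j3
    infer_instance
  obtain ⟨αt, hαt⟩ : ∃ αt : (yon S).obj U ⟶ X,
      αt = (yon S).map π₂ ≫ c₁ ≫ pullback.fst p ((yon S).map τ₁ ≫ α) := ⟨_, rfl⟩
  have hαp : αt ≫ p = (yon S).map π ≫ (yon S).map τ₁ ≫ α := by
    calc αt ≫ p = (yon S).map π₂ ≫ c₁ ≫ pullback.fst p ((yon S).map τ₁ ≫ α) ≫ p := by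
          rw [hαt]; simp only [Category.assoc]
      _ = (yon S).map π₂ ≫ c₁ ≫ pullback.snd p ((yon S).map τ₁ ≫ α) ≫ (yon S).map τ₁ ≫ α := by
          rw [pullback.condition]
      _ = (yon S).map π₂ ≫ (yon S).map π₁ ≫ (yon S).map τ₁ ≫ α := by
          rw [← Category.assoc c₁, hc₁]
      _ = (yon S).map π ≫ (yon S).map τ₁ ≫ α := by rw [hπm, Category.assoc]
  obtain ⟨βt, hβt⟩ : ∃ βt : (yon S).obj U ⟶ X,
      βt = c₂ ≫ pullback.fst p ((yon S).map π₁ ≫ (yon S).map τ₂ ≫ β) := ⟨_, rfl⟩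
  have hβp : βt ≫ p = (yon S).map π ≫ (yon S).map τ₂ ≫ β := by
    calc βt ≫ p = c₂ ≫ pullback.fst p ((yon S).map π₁ ≫ (yon S).map τ₂ ≫ β) ≫ p := by
          rw [hβt]; simp only [Category.assoc]
      _ = c₂ ≫ pullback.snd p ((yon S).map π₁ ≫ (yon S).map τ₂ ≫ β) ≫
            (yon S).map π₁ ≫ (yon S).map τ₂ ≫ β := by rw [pullback.condition]
      _ = (yon S).map π₂ ≫ (yon S).map π₁ ≫ (yon S).map τ₂ ≫ β := by
          rw [← Category.assoc c₂, hc₂]
      _ = (yon S).map π ≫ (yon S).map τ₂ ≫ β := by rw [hπm, Category.assoc]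
  -- the algebraic space `B = X ×_F h_U` (via `βt ≫ p`)
  obtain ⟨hB, ⟨hsB, hflB⟩, hfpB⟩ := hp (βt ≫ p) (pullback.fst p (βt ≫ p)) (pullback.snd p (βt ≫ p))
    (IsPullback.of_hasPullback p (βt ≫ p))
  -- `P_U`
  have hkey : pullback.snd pT ((yon S).map π) ≫ αt ≫ p = pullback.snd pT ((yon S).map π) ≫ βt ≫ p := by
    calc pullback.snd pT ((yon S).map π) ≫ αt ≫ p
        = (pullback.snd pT ((yon S).map π) ≫ (yon S).map π) ≫ (yon S).map τ₁ ≫ α := by
          rw [hαp, Category.assoc]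
      _ = pullback.fst pT ((yon S).map π) ≫ (pT ≫ (yon S).map τ₁) ≫ α := by
          rw [← pullback.condition]; simp only [Category.assoc]
      _ = pullback.fst pT ((yon S).map π) ≫ (pT ≫ (yon S).map τ₂) ≫ β := by
          rw [hpT1, hpT2, pullback.condition]
      _ = (pullback.snd pT ((yon S).map π) ≫ (yon S).map π) ≫ (yon S).map τ₂ ≫ β := by
          rw [← pullback.condition]; simp only [Category.assoc]
      _ = pullback.snd pT ((yon S).map π) ≫ βt ≫ p := by rw [hβp, Category.assoc]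
  obtain ⟨j, hj1, hj2⟩ : ∃ j : pullback pT ((yon S).map π) ⟶ pullback p (βt ≫ p),
      j ≫ pullback.fst p (βt ≫ p) = pullback.snd pT ((yon S).map π) ≫ αt ∧
      j ≫ pullback.snd p (βt ≫ p) = pullback.snd pT ((yon S).map π) :=
    ⟨pullback.lift (pullback.snd pT ((yon S).map π) ≫ αt) (pullback.snd pT ((yon S).map π))
      (by rw [Category.assoc]; exact hkey), pullback.lift_fst _ _ _, pullback.lift_snd _ _ _⟩
  have sqD : IsPullback (pullback.snd pT ((yon S).map π) ≫ αt) j (Limits.diag X)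
      (prod.lift (pullback.fst p (βt ≫ p)) (pullback.snd p (βt ≫ p) ≫ αt)) := by
    have hd1 : Limits.diag X ≫ prod.fst = 𝟙 X := prod.lift_fst _ _
    have hd2 : Limits.diag X ≫ prod.snd = 𝟙 X := prod.lift_snd _ _
    refine isPullback_of_ex_uniq ?_ ?_ ?_
    · apply Limits.prod.hom_ext
      · simp only [Category.assoc, hd1, prod.lift_fst, Category.comp_id]
        exact hj1.symm
      · simp only [Category.assoc, hd2, prod.lift_snd, Category.comp_id]
        rw [← Category.assoc, hj2]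
    · intro Z' m n hmn
      have hm1 : m = n ≫ pullback.fst p (βt ≫ p) := by
        have := congrArg (fun k => k ≫ prod.fst) hmn
        simpa only [Category.assoc, prod.lift_fst, hd1, Category.comp_id] using this
      have hm2 : m = n ≫ pullback.snd p (βt ≫ p) ≫ αt := by
        have := congrArg (fun k => k ≫ prod.snd) hmn
        simpa only [Category.assoc, prod.lift_snd, hd2, Category.comp_id] using this
      have hcomm : (n ≫ pullback.snd p (βt ≫ p) ≫ (yon S).map π ≫ (yon S).map τ₁) ≫ α =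
          (n ≫ pullback.snd p (βt ≫ p) ≫ (yon S).map π ≫ (yon S).map τ₂) ≫ β := by
        calc (n ≫ pullback.snd p (βt ≫ p) ≫ (yon S).map π ≫ (yon S).map τ₁) ≫ α
            = (n ≫ pullback.snd p (βt ≫ p) ≫ αt) ≫ p := by
              simp only [Category.assoc]; rw [hαp]
          _ = (n ≫ pullback.fst p (βt ≫ p)) ≫ p := by rw [← hm2, hm1]
          _ = n ≫ pullback.snd p (βt ≫ p) ≫ βt ≫ p := by
              rw [Category.assoc, pullback.condition]
          _ = (n ≫ pullback.snd p (βt ≫ p) ≫ (yon S).map π ≫ (yon S).map τ₂) ≫ β := by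
              simp only [Category.assoc]
              exact congrArg (fun k => n ≫ pullback.snd p (βt ≫ p) ≫ k) hβp
      obtain ⟨l₁, hl₁a, hl₁b⟩ : ∃ l₁ : Z' ⟶ pullback α β,
          l₁ ≫ pullback.fst α β = n ≫ pullback.snd p (βt ≫ p) ≫ (yon S).map π ≫ (yon S).map τ₁ ∧
          l₁ ≫ pullback.snd α β = n ≫ pullback.snd p (βt ≫ p) ≫ (yon S).map π ≫ (yon S).map τ₂ :=
        ⟨pullback.lift _ _ hcomm, pullback.lift_fst _ _ _, pullback.lift_snd _ _ _⟩
      have hl₁T : l₁ ≫ pT = (n ≫ pullback.snd p (βt ≫ p)) ≫ (yon S).map π := by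
        apply hext'
        · rw [Category.assoc, hpT1, hl₁a]; simp only [Category.assoc]
        · rw [Category.assoc, hpT2, hl₁b]; simp only [Category.assoc]
      refine ⟨pullback.lift l₁ (n ≫ pullback.snd p (βt ≫ p)) hl₁T, ?_, ?_⟩
      · rw [← Category.assoc, pullback.lift_snd, Category.assoc, ← hm2]
      · apply pullback.hom_ext
        · rw [Category.assoc, hj1, ← Category.assoc, pullback.lift_snd, Category.assoc, ← hm2, hm1]
        · rw [Category.assoc, hj2, pullback.lift_snd]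
    · intro Z' l l' _ h2
      rw [← cancel_mono (pullback.snd pT ((yon S).map π))]
      have := congrArg (fun k => k ≫ pullback.snd p (βt ≫ p)) h2
      simpa only [Category.assoc, hj2] using this
  obtain ⟨hjlft, -, -, -, -⟩ := repWith_props_of_isPullback_diag hX sqD
  have hPU : IsAlgSpace (pullback pT ((yon S).map π)) := isAlgSpace_of_representable hB j hjlft.rep
  have hjloc : LocP @LocallyOfFiniteType j :=
    locP_of_repWith @LocallyOfFiniteType @LocallyOfFiniteType
      (fun A B C m i hm hi => by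
        haveI : Etale m := hm
        haveI : LocallyOfFiniteType i := hi
        infer_instance) j hjlft
  have hb₂loc : LocP @LocallyOfFiniteType (pullback.snd p (βt ≫ p)) := by
    intro A B a b h ha hb c
    haveI : LocallyOfFinitePresentation h.left := hfpB a b h ha hb c
    infer_instance
  have hsndloc : LocP @LocallyOfFiniteType (pullback.snd pT ((yon S).map π)) := by
    rw [← hj2]
    exact locP_comp etLocalST_locallyOfFiniteType hPU hB (IsAlgSpace.yon_obj U) j _ hjloc hb₂loc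
  obtain ⟨V, ⟨ε⟩⟩ := EtChart.exists_iso_yon_of_mono_lft hPU (pullback.snd pT ((yon S).map π)) hsndloc
  obtain ⟨av, hav⟩ := (yon S).map_surjective (ε.hom ≫ pullback.snd pT ((yon S).map π))
  obtain ⟨fP, hfP⟩ : ∃ fP : (yon S).obj V ⟶ pullback α β,
      fP = ε.hom ≫ pullback.fst pT ((yon S).map π) := ⟨_, rfl⟩
  have sqP : IsPullback fP ((yon S).map av) pT ((yon S).map π) := by
    refine IsPullback.of_iso_pullback ⟨?_⟩ ε hfP.symm hav.symm
    rw [hfP, hav, Category.assoc, Category.assoc, pullback.condition]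
  -- properties of `av`
  have hεet : RepWith @Etale ε.hom := by
    have : (RepWith (S := S) @Etale).RespectsIso :=
      MorphismProperty.IsStableUnderBaseChange.respectsIso
    exact (RepWith (S := S) @Etale).of_isIso ε.hom
  have hlftV : LocallyOfFiniteType av.left :=
    hsndloc ε.hom (𝟙 _) av hεet (repWith_id _ U) (by rw [Category.comp_id, hav])
  have hmonoav : Mono av := by
    have h1 : Mono ((yon S).map av) := by
      rw [hav]
      infer_instance
    exact (yon S).mono_of_mono_map h1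
  have hmonoV : Mono av.left := inferInstance
  haveI : IsSeparated (sheafDD π av pT fP sqP).obj.hom := (inferInstance : IsSeparated av.left)
  haveI : LocallyOfFiniteType (sheafDD π av pT fP sqP).obj.hom := hlftV
  haveI : LocallyQuasiFinite (sheafDD π av pT fP sqP).obj.hom :=
    mono_inf_lft_le_lqf _ ⟨(MorphismProperty.monomorphisms.iff _).2 hmonoV, hlftV⟩
  obtain ⟨W₀, ⟨e⟩⟩ := schDD_effective_of_sep_lqf_fppf (sheafDD π av pT fP sqP)
  obtain ⟨W, w, q, κ, hκT, -, -⟩ := exists_rep_of_effective π av pT fP sqP W₀ e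
  refine ⟨W, w ≫ τ₂, (yon S).map (w ≫ τ₁), ?_⟩
  have h1 : κ.hom ≫ pullback.fst α β = (yon S).map (w ≫ τ₁) := by
    rw [← hpT1, ← Category.assoc, hκT, Functor.map_comp]
  have h2 : κ.hom ≫ pullback.snd α β = (yon S).map (w ≫ τ₂) := by
    rw [← hpT2, ← Category.assoc, hκT, Functor.map_comp]
  refine IsPullback.of_iso_pullback ⟨?_⟩ κ h1 h2
  rw [← h1, ← h2, Category.assoc, Category.assoc, pullback.condition]

/-- **S10099.** -/
theorem representable_diag_of_fppf_cover {F X : Sp S} (hX : IsAlgSpace X) (p : X ⟶ F)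
    (hp : RepBySpWith (IsSurjectiveMor ⊓ LocP @Flat ⊓ LocP @LocallyOfFinitePresentation) p.hom) :
    Representable (Limits.diag F) :=
  Functor.relativelyRepresentable.diag_of_map_from_obj
    (fun _ α => representable_of_fppf_cover hX p hp α)

end Groth.Agent.Lib.Helper28.SheafDesc
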