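import Mathlib
import Groth.Prelude.Def_Desc

/-!
# Effective descent (helper28): basic lemmas on `Desc.SchDD`

* `phi_congr`, `phi_natural'`, `phi_self'`: value-level forms of the axioms of a descent datum, robust
  against propositional (non-syntactic) equalities of the points.
* `IsInv D f`: a morphism out of the total space invariant under the descent datum.
* `Quot`-style lemmas: if `q : V ⟶ U`, `u : U ⟶ S` form a cartesian square with `p`, `a` and `q` is invariant,
  then `q` is the quotient (`desc`), and `D` is isomorphic to the canonical descent datum of `U` (`effective_of_quot`).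
-/

set_option autoImplicit false
set_option maxHeartbeats 1600000
set_option backward.isDefEq.respectTransparency false
set_option backward.isDefEq.respectTransparency.types false
universe u
open CategoryTheory CategoryTheory.Limits AlgebraicGeometry

namespace Groth.Agent.Lib.Helper28.EffDesc

open Desc

variable {X S : Scheme.{u}} {p : X ⟶ S}

theorem phi_congr (D : SchDD p) {T : Scheme.{u}} {x₀ x₁ x₀' x₁' : T ⟶ X} (e₀ : x₀ = x₀')
    (e₁ : x₁ = x₁') (h : x₀ ≫ p = x₁ ≫ p) (h' : x₀' ≫ p = x₁' ≫ p) (v : Lifts D.obj x₀)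
    (v' : Lifts D.obj x₀') (hv : v.1 = v'.1) : (D.φ x₀ x₁ h v).1 = (D.φ x₀' x₁' h' v').1 := by
  subst e₀ e₁
  have : v = v' := Subtype.ext hv
  subst this
  rfl

theorem phi_natural' (D : SchDD p) {T T' : Scheme.{u}} (g : T' ⟶ T) (x₀ x₁ : T ⟶ X)
    (h : x₀ ≫ p = x₁ ≫ p) (y₀ y₁ : T' ⟶ X) (e₀ : g ≫ x₀ = y₀) (e₁ : g ≫ x₁ = y₁)
    (h' : y₀ ≫ p = y₁ ≫ p) (v : Lifts D.obj x₀) (w : Lifts D.obj y₀) (hw : w.1 = g ≫ v.1) :
    (D.φ y₀ y₁ h' w).1 = g ≫ (D.φ x₀ x₁ h v).1 := by
  subst e₀ e₁
  exact D.φ_natural g x₀ x₁ h h' v w hw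

theorem phi_self' (D : SchDD p) {T : Scheme.{u}} (x x' : T ⟶ X) (e : x = x')
    (h : x ≫ p = x' ≫ p) (v : Lifts D.obj x) : (D.φ x x' h v).1 = v.1 := by
  subst e
  rw [D.φ_self]

/-- the value of `φ` lies over the target point -/
theorem phi_hom (D : SchDD p) {T : Scheme.{u}} (x₀ x₁ : T ⟶ X) (h : x₀ ≫ p = x₁ ≫ p)
    (v : Lifts D.obj x₀) : (D.φ x₀ x₁ h v).1 ≫ D.obj.hom = x₁ := (D.φ x₀ x₁ h v).2

/-- a morphism out of the total space of a descent datum which is invariant under the gluing bijections -/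
def IsInv (D : SchDD p) {Z : Scheme.{u}} (f : D.obj.left ⟶ Z) : Prop :=
  ∀ ⦃T : Scheme.{u}⦄ (x₀ x₁ : T ⟶ X) (h : x₀ ≫ p = x₁ ≫ p) (v : Lifts D.obj x₀),
    (D.φ x₀ x₁ h v).1 ≫ f = v.1 ≫ f

theorem IsInv.comp {D : SchDD p} {Z Z' : Scheme.{u}} {f : D.obj.left ⟶ Z} (hf : IsInv D f)
    (g : Z ⟶ Z') : IsInv D (f ≫ g) := by
  intro T x₀ x₁ h v
  rw [← Category.assoc, hf x₀ x₁ h v, Category.assoc]

section Quot

variable (D : SchDD p) {U : Scheme.{u}} (u : U ⟶ S) (q : D.obj.left ⟶ U)
  (hpb : IsPullback D.obj.hom q p u) (hinv : IsInv D q)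

include hpb hinv in
/-- two points with the same image in the quotient are related by the descent datum -/
theorem phi_eq_of_q_eq {T : Scheme.{u}} (v v' : T ⟶ D.obj.left) (hq : v ≫ q = v' ≫ q)
    (h : (v ≫ D.obj.hom) ≫ p = (v' ≫ D.obj.hom) ≫ p) :
    (D.φ (v ≫ D.obj.hom) (v' ≫ D.obj.hom) h ⟨v, rfl⟩).1 = v' := by
  apply hpb.hom_ext
  · exact phi_hom D _ _ h _
  · rw [hinv _ _ h ⟨v, rfl⟩]
    exact hq

include hpb in
theorem comp_p_eq_of_q_eq {T : Scheme.{u}} (v v' : T ⟶ D.obj.left) (hq : v ≫ q = v' ≫ q) :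
    (v ≫ D.obj.hom) ≫ p = (v' ≫ D.obj.hom) ≫ p := by
  rw [Category.assoc, Category.assoc, hpb.w, ← Category.assoc, ← Category.assoc, hq]

include hpb hinv in
/-- the quotient property of `q` -/
theorem exists_desc [Flat p] [Surjective p] [QuasiCompact p] {Z : Scheme.{u}} (f : D.obj.left ⟶ Z)
    (hf : IsInv D f) : ∃ g : U ⟶ Z, q ≫ g = f := by
  haveI : Flat q := MorphismProperty.of_isPullback (P := @Flat) hpb inferInstance
  haveI : Surjective q := MorphismProperty.of_isPullback (P := @Surjective) hpb inferInstance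
  haveI : QuasiCompact q := MorphismProperty.of_isPullback (P := @QuasiCompact) hpb inferInstance
  refine ⟨EffectiveEpi.desc q f (fun g₁ g₂ hg => ?_), EffectiveEpi.fac _ _ _⟩
  have h := comp_p_eq_of_q_eq D u q hpb g₁ g₂ hg
  have e := phi_eq_of_q_eq D u q hpb hinv g₁ g₂ hg h
  have := hf _ _ h ⟨g₁, rfl⟩
  rw [e] at this
  exact this.symm

include hpb in
theorem epi_q [Flat p] [Surjective p] : Epi q := by
  haveI : Flat q := MorphismProperty.of_isPullback (P := @Flat) hpb inferInstance
  haveI : Surjective q := MorphismProperty.of_isPullback (P := @Surjective) hpb inferInstance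
  exact Flat.epi_of_flat_of_surjective q

end Quot

/-- a morphism of descent data whose underlying morphism is an isomorphism is an isomorphism -/
theorem isIso_of_isIso_hom {D D' : SchDD p} (f : D ⟶ D') [IsIso f.hom] : IsIso f := by
  have hleft : (inv f.hom).left ≫ f.hom.left = 𝟙 _ := by
    rw [← Over.comp_left, IsIso.inv_hom_id]; rfl
  have hleft' : f.hom.left ≫ (inv f.hom).left = 𝟙 _ := by
    rw [← Over.comp_left, IsIso.hom_inv_id]; rfl
  refine ⟨⟨⟨inv f.hom, fun T x₀ x₁ h v w hw => ?_⟩, ?_, ?_⟩⟩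
  · have hv : v.1 = w.1 ≫ f.hom.left := by
      rw [hw, Category.assoc, hleft, Category.comp_id]
    rw [f.comm x₀ x₁ h w v hv, Category.assoc, hleft', Category.comp_id]
  · apply SchDD.hom_ext
    exact IsIso.hom_inv_id f.hom
  · apply SchDD.hom_ext
    exact IsIso.inv_hom_id f.hom

section Effective

variable (D : SchDD p) {U : Scheme.{u}} (u : U ⟶ S) (q : D.obj.left ⟶ U)
  (hpb : IsPullback D.obj.hom q p u) (hinv : IsInv D q)

include hpb hinv in
/-- a cartesian invariant quotient exhibits the descent datum as effective -/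
theorem effective_of_quot : Nonempty ((Desc.toDD p).obj (Over.mk u) ≅ D) := by
  let hom : D.obj ⟶ ((Desc.toDD p).obj (Over.mk u)).obj :=
    Over.homMk (pullback.lift D.obj.hom q hpb.w) (pullback.lift_fst _ _ _)
  have hhl : hom.left = pullback.lift D.obj.hom q hpb.w := rfl
  have hiso : IsIso hom.left := by
    have : hom.left = hpb.isoPullback.hom := by
      rw [hhl]
      apply pullback.hom_ext
      · rw [pullback.lift_fst, hpb.isoPullback_hom_fst]
      · rw [pullback.lift_snd, hpb.isoPullback_hom_snd]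
    rw [this]
    infer_instance
  have hiso' : IsIso hom := by
    have : IsIso ((Over.forget X).map hom) := hiso
    exact isIso_of_reflects_iso hom (Over.forget X)
  let f : D ⟶ (Desc.toDD p).obj (Over.mk u) := ⟨hom, fun T x₀ x₁ h v w hw => ?_⟩
  · have : IsIso f.hom := hiso'
    have := isIso_of_isIso_hom f
    exact ⟨(asIso f).symm⟩
  · -- compatibility with the gluing bijections
    have e1 : pullback.lift D.obj.hom q hpb.w ≫ pullback.fst p u = D.obj.hom :=
      pullback.lift_fst _ _ _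
    have e2 : pullback.lift D.obj.hom q hpb.w ≫ pullback.snd p u = q := pullback.lift_snd _ _ _
    have hw' : w.1 = v.1 ≫ pullback.lift D.obj.hom q hpb.w := hw
    have hc : x₁ ≫ p = (w.1 ≫ pullback.snd p u) ≫ u := by
      have e : w.1 ≫ pullback.fst p u = x₀ := w.2
      rw [Category.assoc, ← pullback.condition, ← Category.assoc, e, h]
    have key : (D.φ x₀ x₁ h v).1 ≫ pullback.lift D.obj.hom q hpb.w =
        pullback.lift x₁ (w.1 ≫ pullback.snd p u) hc := by
      apply pullback.hom_ext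
      · rw [Category.assoc, e1, pullback.lift_fst]
        exact phi_hom D x₀ x₁ h v
      · rw [Category.assoc, e2, pullback.lift_snd, hinv x₀ x₁ h v, hw', Category.assoc, e2]
    exact key.symm

end Effective

end Groth.Agent.Lib.Helper28.EffDesc
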