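import Groth.Agent.Lib.Helper28.EffDesc.QAff
import Groth.Agent.Lib.Helper16.ZmtSch
import Groth.Agent.Lib.Helper16.SchemeTop
import Groth.Agent.S0079
import Groth.Agent.S0081

/-!
# Effective descent (helper28): separated quasi-compact locally quasi-finite (e.g. étale) schemes descend along
fpqc morphisms (Zariski's main theorem + quasi-affine descent)
-/

set_option autoImplicit false
set_option maxHeartbeats 1600000
set_option backward.isDefEq.respectTransparency false
set_option backward.isDefEq.respectTransparency.types false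
universe u
open CategoryTheory CategoryTheory.Limits AlgebraicGeometry

namespace Groth.Agent.Lib.Helper28.EffDesc

open Desc

/-- Zariski's main theorem: a quasi-compact, separated, locally quasi-finite morphism is quasi-affine -/
theorem isQuasiAffine_of_sep_lqf {X Y : Scheme.{u}} (a : X ⟶ Y) [QuasiCompact a] [IsSeparated a]
    [LocallyQuasiFinite a] [LocallyOfFiniteType a] : Mor2.IsQuasiAffine a := by
  refine ⟨inferInstance, fun W hW => ?_⟩
  haveI : IsAffine (W : Scheme.{u}) := hW
  haveI : LocallyQuasiFinite (a ∣_ W) := inferInstance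
  haveI : LocallyOfFiniteType (a ∣_ W) := IsZariskiLocalAtTarget.restrict ‹_› W
  haveI : IsSeparated (a ∣_ W) := IsZariskiLocalAtTarget.restrict ‹_› W
  haveI : CompactSpace ↥(a ⁻¹ᵁ W : Scheme.{u}) :=
    isCompact_iff_compactSpace.mp (a.isCompact_preimage hW.isCompact)
  exact Groth.Agent.Lib.Helper16.ZmtSp.isQuasiAffine_of_locallyQuasiFinite (a ∣_ W)

variable {X S : Scheme.{u}} {p : X ⟶ S}

/-- properties of the total space of an effective descent datum descend to the descended scheme -/
theorem prop_of_effective {P : MorphismProperty Scheme.{u}} [P.RespectsIso]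
    [P.DescendsAlong (@Surjective ⊓ @Flat ⊓ @QuasiCompact : MorphismProperty Scheme.{u})]
    [Flat p] [Surjective p] [QuasiCompact p] (D : SchDD p) (U : Over S)
    (e : (Desc.toDD p).obj U ≅ D) (h : P D.obj.hom) : P U.hom := by
  have hw : e.hom.hom.left ≫ D.obj.hom = pullback.fst p U.hom := Over.w e.hom.hom
  have hk1 : e.inv.hom.left ≫ e.hom.hom.left = 𝟙 _ := by
    have := congrArg (fun f : D ⟶ D => f.hom.left) e.inv_hom_id
    exact this
  have hk2 : e.hom.hom.left ≫ e.inv.hom.left = 𝟙 _ := by
    have := congrArg (fun f : (toDD p).obj U ⟶ (toDD p).obj U => f.hom.left) e.hom_inv_id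
    exact this
  haveI hiso : IsIso e.hom.hom.left := ⟨⟨e.inv.hom.left, hk2, hk1⟩⟩
  have h1 : P (pullback.fst p U.hom) := by
    rw [← hw]
    exact (P.cancel_left_of_respectsIso _ _).mpr h
  exact MorphismProperty.of_isPullback_of_descendsAlong (P := P)
    (Q := (@Surjective ⊓ @Flat ⊓ @QuasiCompact : MorphismProperty Scheme.{u}))
    (IsPullback.of_hasPullback p U.hom) ⟨⟨inferInstance, inferInstance⟩, inferInstance⟩ h1

/-- effective descent for quasi-compact separated locally quasi-finite morphisms -/
theorem schDD_effective_of_sep_lqf [Flat p] [Surjective p] [QuasiCompact p] (D : SchDD p)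
    [QuasiCompact D.obj.hom] [IsSeparated D.obj.hom] [LocallyQuasiFinite D.obj.hom]
    [LocallyOfFiniteType D.obj.hom] : ∃ U : Over S, Nonempty ((Desc.toDD p).obj U ≅ D) :=
  schDD_effective_of_quasiAffine D (isQuasiAffine_of_sep_lqf D.obj.hom)

/-- **Effective descent for étale separated quasi-compact schemes along an fpqc morphism.** -/
theorem schDD_etale_effective_of_fpqc [Flat p] [Surjective p] [QuasiCompact p] (D : SchDD p)
    [QuasiCompact D.obj.hom] [IsSeparated D.obj.hom] [Etale D.obj.hom] :
    ∃ U : Over S, QuasiCompact U.hom ∧ IsSeparated U.hom ∧ Etale U.hom ∧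
      Nonempty ((Desc.toDD p).obj U ≅ D) := by
  haveI : LocallyQuasiFinite D.obj.hom := Groth.Agent.Lib.Helper16.locallyQuasiFinite_of_etale _
  obtain ⟨U, ⟨e⟩⟩ := schDD_effective_of_sep_lqf D
  haveI := Groth.Agent.S0079.result.{u}
  haveI := Groth.Agent.S0081.result.{u}
  exact ⟨U, prop_of_effective (P := @QuasiCompact) D U e inferInstance,
    prop_of_effective (P := @IsSeparated) D U e inferInstance,
    prop_of_effective (P := @Etale) D U e inferInstance, ⟨e⟩⟩

end Groth.Agent.Lib.Helper28.EffDesc
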