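import Groth.Agent.Lib.Helper28.EffDesc.Radicial

/-!
# Effective descent (helper28): a descent datum which is locally (on its total space, along stable opens)
effective is effective
-/

set_option autoImplicit false
set_option maxHeartbeats 1600000
set_option backward.isDefEq.respectTransparency false
set_option backward.isDefEq.respectTransparency.types false
universe u
open CategoryTheory CategoryTheory.Limits AlgebraicGeometry

namespace Groth.Agent.Lib.Helper28.EffDesc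

open Desc

variable {X S : Scheme.{u}} {p : X ⟶ S}

/-- a stable open admitting a cartesian invariant quotient -/
def QuotOn (D : SchDD p) (O : D.obj.left.Opens) (hO : Stable D O) : Prop :=
  ∃ (U : Scheme.{u}) (u : U ⟶ S) (q : (O : Scheme.{u}) ⟶ U),
    IsPullback (O.ι ≫ D.obj.hom) q p u ∧ IsInv (restrictDD D O hO) q

theorem stable_inf {D : SchDD p} {O O' : D.obj.left.Opens} (hO : Stable D O) (hO' : Stable D O') :
    Stable D (O ⊓ O') := by
  intro T x₀ x₁ h v hv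
  have h1 : Set.range v.1 ⊆ (O : Set D.obj.left) := fun y hy => (hv hy).1
  have h2 : Set.range v.1 ⊆ (O' : Set D.obj.left) := fun y hy => (hv hy).2
  exact fun y hy => ⟨hO x₀ x₁ h v h1 hy, hO' x₀ x₁ h v h2 hy⟩

section Compare

variable (D : SchDD p) (O O' : D.obj.left.Opens) (hO : Stable D O) (hO' : Stable D O')
  (β : (O' : Scheme.{u}) ⟶ (O : Scheme.{u})) (hβ : β ≫ O.ι = O'.ι)

include hβ in
theorem res_compare {T : Scheme.{u}} (x₀ x₁ : T ⟶ X) (h : x₀ ≫ p = x₁ ≫ p)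
    (v : Lifts (restrictDD D O' hO').obj x₀) (vO : Lifts (restrictDD D O hO).obj x₀)
    (hv : vO.1 = v.1 ≫ β) :
    ((restrictDD D O hO).φ x₀ x₁ h vO).1 = ((restrictDD D O' hO').φ x₀ x₁ h v).1 ≫ β := by
  rw [← cancel_mono O.ι, Category.assoc, hβ, restrictDD_phi_ι, restrictDD_phi_ι]
  refine phi_congr D rfl rfl h h _ _ ?_
  rw [toLifts_val, toLifts_val, hv, Category.assoc, hβ]

include hβ in
theorem isInv_comp_of_le {Z : Scheme.{u}} (q : (O : Scheme.{u}) ⟶ Z)
    (hq : IsInv (restrictDD D O hO) q) : IsInv (restrictDD D O' hO') (β ≫ q) := by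
  intro T x₀ x₁ h v
  obtain ⟨vO, hvO⟩ : ∃ vO : Lifts (restrictDD D O hO).obj x₀, vO.1 = v.1 ≫ β := by
    refine ⟨⟨v.1 ≫ β, ?_⟩, rfl⟩
    change (v.1 ≫ β) ≫ O.ι ≫ D.obj.hom = x₀
    rw [Category.assoc, ← Category.assoc β, hβ]
    exact v.2
  have e1 := res_compare D O O' hO hO' β hβ x₀ x₁ h v vO hvO
  have e2 := hq x₀ x₁ h vO
  rw [e1, hvO, Category.assoc, Category.assoc] at e2
  exact e2

end Compare

/-- the fibres of the quotient map are contained in every stable open which they meet -/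
theorem saturated (D : SchDD p) (O : D.obj.left.Opens) (hO : Stable D O) {U : Scheme.{u}} (u : U ⟶ S)
    (q : (O : Scheme.{u}) ⟶ U) (hpb : IsPullback (O.ι ≫ D.obj.hom) q p u)
    (hinv : IsInv (restrictDD D O hO) q) (O' : D.obj.left.Opens) (hO' : Stable D O')
    (y y' : (O : Scheme.{u})) (hy : q y = q y') (hyO : O.ι y ∈ O') : O.ι y' ∈ O' := by
  obtain ⟨z, hz1, hz2⟩ := Scheme.Pullback.exists_preimage_pullback (f := q) (g := q) y y' hy
  obtain ⟨T, t, t₀, ht⟩ : ∃ (T : Scheme.{u}) (t : T ⟶ pullback q q) (_ : T), ∀ s : T, t s = z :=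
    ⟨Spec ((pullback q q).residueField z), (pullback q q).fromSpecResidueField z,
      IsLocalRing.closedPoint _, fun s => Scheme.fromSpecResidueField_apply _ s⟩
  have hq : (t ≫ pullback.fst q q) ≫ q = (t ≫ pullback.snd q q) ≫ q := by
    rw [Category.assoc, Category.assoc, pullback.condition]
  have h := comp_p_eq_of_q_eq (restrictDD D O hO) u q hpb _ _ hq
  have e := phi_eq_of_q_eq (restrictDD D O hO) u q hpb hinv _ _ hq h
  have e1 := restrictDD_phi_ι D O hO _ _ h ⟨t ≫ pullback.fst q q, rfl⟩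
  have e2 : (t ≫ pullback.snd q q) ≫ O.ι = _ :=
    (congrArg (fun m => m ≫ O.ι) e).symm.trans e1
  have hr : Set.range (toLifts D O ⟨t ≫ pullback.fst q q, rfl⟩).1 ⊆ (O' : Set D.obj.left) := by
    rintro _ ⟨s, rfl⟩
    rw [toLifts_val]
    simp only [Scheme.Hom.comp_apply]
    rw [ht s]
    have hh : O.ι (pullback.fst q q z) ∈ O' := by
      rw [hz1]
      exact hyO
    exact hh
  have hr' := hO' _ _ h _ hr
  have key : O.ι y' = (D.φ _ _ h (toLifts D O ⟨t ≫ pullback.fst q q, rfl⟩)).1 t₀ := by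
    rw [← e2, Scheme.Hom.comp_apply, Scheme.Hom.comp_apply, ht t₀, hz2]
  rw [key]
  exact hr' ⟨t₀, rfl⟩

/-- a stable open inside a stable open with a quotient has a quotient -/
theorem quotOn_of_le [Flat p] [Surjective p] [QuasiCompact p] (D : SchDD p)
    (O O' : D.obj.left.Opens) (hO : Stable D O) (hO' : Stable D O') (hle : O' ≤ O)
    (hQ : QuotOn D O hO) : QuotOn D O' hO' := by
  obtain ⟨U, u, q, hpb, hinv⟩ := hQ
  have hfl : Flat q := MorphismProperty.of_isPullback (P := @Flat) hpb inferInstance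
  have hsj : Surjective q := MorphismProperty.of_isPullback (P := @Surjective) hpb inferInstance
  have hqc : QuasiCompact q := MorphismProperty.of_isPullback (P := @QuasiCompact) hpb inferInstance
  have hquot : Topology.IsQuotientMap q := Flat.isQuotientMap_of_surjective q
  obtain ⟨W, hW⟩ : ∃ W : (O : Scheme.{u}).Opens, W = O.ι ⁻¹ᵁ O' := ⟨_, rfl⟩
  have hWmem : ∀ y : (O : Scheme.{u}), y ∈ W ↔ O.ι y ∈ O' := by
    intro y
    rw [hW]
    rfl
  have hsat : q ⁻¹' (q '' (W : Set (O : Scheme.{u}))) = (W : Set (O : Scheme.{u})) := by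
    ext y'
    constructor
    · rintro ⟨y, hy, hyy'⟩
      exact (hWmem y').mpr (saturated D O hO u q hpb hinv O' hO' y y' hyy' ((hWmem y).mp hy))
    · intro hy'
      exact ⟨y', hy', rfl⟩
  have hopen : IsOpen (q '' (W : Set (O : Scheme.{u}))) := by
    rw [← hquot.isOpen_preimage, hsat]
    exact W.2
  obtain ⟨U', hU'⟩ : ∃ U' : U.Opens, q ⁻¹ᵁ U' = O.ι ⁻¹ᵁ O' :=
    ⟨⟨_, hopen⟩, (TopologicalSpace.Opens.ext hsat).trans hW⟩
  have hsq : IsPullback (q ⁻¹ᵁ U').ι (q ∣_ U') q U'.ι := (isPullback_morphismRestrict q U').flip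
  have hbig : IsPullback ((q ⁻¹ᵁ U').ι ≫ O.ι ≫ D.obj.hom) (q ∣_ U') p (U'.ι ≫ u) :=
    hsq.paste_horiz hpb
  obtain ⟨ε, hε⟩ : ∃ ε : (O' : Scheme.{u}) ≅ ((q ⁻¹ᵁ U' : (O : Scheme.{u}).Opens) : Scheme.{u}),
      ε.hom ≫ (q ⁻¹ᵁ U').ι ≫ O.ι = O'.ι := by
    refine ⟨(Scheme.Opens.isoOfLE hle).symm ≪≫ (O : Scheme.{u}).isoOfEq hU'.symm, ?_⟩
    rw [Iso.trans_hom, Iso.symm_hom, Category.assoc, Scheme.isoOfEq_hom_ι_assoc,
      Scheme.Opens.isoOfLE_inv_ι]
  have hβ : (ε.hom ≫ (q ⁻¹ᵁ U').ι) ≫ O.ι = O'.ι := by rw [Category.assoc, hε]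
  refine ⟨U', U'.ι ≫ u, ε.hom ≫ q ∣_ U', ?_, ?_⟩
  · refine IsPullback.of_iso hbig ε.symm (Iso.refl _) (Iso.refl _) (Iso.refl _) ?_ ?_ ?_ ?_
    · rw [Iso.refl_hom, Category.comp_id, Iso.symm_hom, ← hε, Category.assoc, Category.assoc,
        Iso.inv_hom_id_assoc]
    · rw [Iso.refl_hom, Category.comp_id, Iso.symm_hom, Iso.inv_hom_id_assoc]
    · rw [Iso.refl_hom, Iso.refl_hom, Category.comp_id, Category.id_comp]
    · rw [Iso.refl_hom, Iso.refl_hom, Category.comp_id, Category.id_comp]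
  · have hβq : (ε.hom ≫ q ∣_ U') ≫ U'.ι = (ε.hom ≫ (q ⁻¹ᵁ U').ι) ≫ q := by
      rw [Category.assoc, morphismRestrict_ι, Category.assoc]
    intro T x₀ x₁ h v
    have key := isInv_comp_of_le D O O' hO hO' _ hβ q hinv x₀ x₁ h v
    have e1 : ∀ (m : T ⟶ (O' : Scheme.{u})),
        (m ≫ ε.hom ≫ q ∣_ U') ≫ U'.ι = m ≫ (ε.hom ≫ (q ⁻¹ᵁ U').ι) ≫ q := by
      intro m
      rw [Category.assoc, hβq]
    exact (cancel_mono U'.ι).mp ((e1 _).trans (key.trans (e1 _).symm))

/-- a family of opens covering `V`, directed locally -/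
structure DirFam (V : Scheme.{u}) where
  /-- the family -/
  fam : Set V.Opens
  cov : ∀ v : V, ∃ O ∈ fam, v ∈ O
  dir : ∀ O ∈ fam, ∀ O' ∈ fam, ∀ v : V, v ∈ O → v ∈ O' → ∃ O'' ∈ fam, v ∈ O'' ∧ O'' ≤ O ∧ O'' ≤ O'

namespace DirFam

variable {V : Scheme.{u}} (F : DirFam V)

/-- the open cover attached to a covering family of opens -/
@[reducible] noncomputable def cover : V.OpenCover where
  I₀ := ↥F.fam
  X O := (O.1 : Scheme.{u})
  f O := O.1.ι
  mem₀ := by
    rw [Scheme.presieve₀_mem_precoverage_iff]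
    refine ⟨fun x => ?_, fun O => inferInstance⟩
    obtain ⟨O, hO, hx⟩ := F.cov x
    refine ⟨⟨O, hO⟩, ?_⟩
    change x ∈ Set.range O.ι
    rw [Scheme.Opens.range_ι]
    exact hx

instance : Preorder F.cover.I₀ := inferInstanceAs (Preorder ↥F.fam)

instance : Small.{u} F.cover.I₀ := inferInstanceAs (Small.{u} ↥F.fam)

noncomputable instance : F.cover.LocallyDirected where
  trans {i j} hij := V.homOfLE (show i.1 ≤ j.1 from leOfHom hij)
  trans_id i := V.homOfLE_rfl i.1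
  trans_comp {i j k} hij hjk := (V.homOfLE_homOfLE _ _).symm
  w {i j} hij := V.homOfLE_ι _
  directed {i j} x := by
    have hc : i.1.ι (pullback.fst i.1.ι j.1.ι x) = j.1.ι (pullback.snd i.1.ι j.1.ι x) := by
      rw [← Scheme.Hom.comp_apply, ← Scheme.Hom.comp_apply, pullback.condition]
    obtain ⟨k, hk, hxk, hki, hkj⟩ := F.dir i.1 i.2 j.1 j.2 (i.1.ι (pullback.fst i.1.ι j.1.ι x))
      (pullback.fst i.1.ι j.1.ι x).2 (by rw [hc]; exact (pullback.snd i.1.ι j.1.ι x).2)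
    obtain ⟨y, hy⟩ : ∃ y : (k : Scheme.{u}), k.ι y = i.1.ι (pullback.fst i.1.ι j.1.ι x) :=
      ⟨⟨_, hxk⟩, rfl⟩
    refine ⟨⟨k, hk⟩, homOfLE hki, homOfLE hkj, y, ?_⟩
    apply (pullback.fst i.1.ι j.1.ι ≫ i.1.ι).isOpenEmbedding.injective
    rw [← Scheme.Hom.comp_apply, pullback.lift_fst_assoc, Scheme.homOfLE_ι, hy,
      Scheme.Hom.comp_apply]
  property_trans {i j} hij := by infer_instance

end DirFam

/-- gluing the quotients of the members of a locally directed covering family of stable opens -/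
theorem exists_quot_of_cover [Flat p] [Surjective p] [QuasiCompact p] (D : SchDD p)
    (F : DirFam D.obj.left) (h1 : ∀ O ∈ F.fam, ∃ hO : Stable D O, QuotOn D O hO) :
    ∃ (U : Scheme.{u}) (u : U ⟶ S) (q : D.obj.left ⟶ U), IsPullback D.obj.hom q p u ∧ IsInv D q := by
  have hex : ∀ i : F.cover.I₀, ∃ (hO : Stable D i.1) (U : Scheme.{u}) (u : U ⟶ S)
      (q : (i.1 : Scheme.{u}) ⟶ U), IsPullback (i.1.ι ≫ D.obj.hom) q p u ∧
      IsInv (restrictDD D i.1 hO) q := fun i => h1 i.1 i.2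
  choose hst U u q hpb hinv using hex
  have hτ : ∀ {i j : F.cover.I₀} (hij : i ⟶ j), ∃ τ : U i ⟶ U j,
      q i ≫ τ = F.cover.trans hij ≫ q j := by
    intro i j hij
    exact exists_desc (restrictDD D i.1 (hst i)) (u i) (q i) (hpb i) (hinv i) _
      (isInv_comp_of_le D j.1 i.1 (hst j) (hst i) (F.cover.trans hij) (F.cover.trans_map hij)
        (q j) (hinv j))
  obtain ⟨U', u', q', hPB, hι⟩ := glueV D.obj.hom p F.cover U u q hpb hτ
  refine ⟨U', u', q', hPB, ?_⟩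
  intro T x₀ x₁ h v
  apply Scheme.Cover.hom_ext (F.cover.pullback₁ v.1)
  intro i
  obtain ⟨ι, hιi⟩ := hι i
  have hιi' : i.1.ι ≫ q' = q i ≫ ι := hιi
  change pullback.fst v.1 i.1.ι ≫ (D.φ x₀ x₁ h v).1 ≫ q' = pullback.fst v.1 i.1.ι ≫ v.1 ≫ q'
  have h' : (pullback.fst v.1 i.1.ι ≫ x₀) ≫ p = (pullback.fst v.1 i.1.ι ≫ x₁) ≫ p := by
    rw [Category.assoc, Category.assoc, h]
  obtain ⟨vi, hvi⟩ : ∃ vi : Lifts (restrictDD D i.1 (hst i)).obj (pullback.fst v.1 i.1.ι ≫ x₀),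
      vi.1 = pullback.snd v.1 i.1.ι := by
    refine ⟨⟨pullback.snd v.1 i.1.ι, ?_⟩, rfl⟩
    change pullback.snd v.1 i.1.ι ≫ i.1.ι ≫ D.obj.hom = pullback.fst v.1 i.1.ι ≫ x₀
    rw [← Category.assoc, ← pullback.condition, Category.assoc, v.2]
  have hnat : (D.φ _ _ h' (toLifts D i.1 vi)).1 = pullback.fst v.1 i.1.ι ≫ (D.φ x₀ x₁ h v).1 := by
    refine D.φ_natural _ x₀ x₁ h h' v (toLifts D i.1 vi) ?_
    rw [toLifts_val, hvi, pullback.condition]
  have e1 := restrictDD_phi_ι D i.1 (hst i) _ _ h' vi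
  have e2 := hinv i _ _ h' vi
  calc pullback.fst v.1 i.1.ι ≫ (D.φ x₀ x₁ h v).1 ≫ q'
      = ((restrictDD D i.1 (hst i)).φ _ _ h' vi).1 ≫ i.1.ι ≫ q' := by
        rw [← Category.assoc, ← hnat, ← e1, Category.assoc]
    _ = ((restrictDD D i.1 (hst i)).φ _ _ h' vi).1 ≫ q i ≫ ι := by rw [hιi']
    _ = vi.1 ≫ q i ≫ ι := by rw [← Category.assoc, e2, Category.assoc]
    _ = vi.1 ≫ i.1.ι ≫ q' := by rw [hιi']
    _ = pullback.fst v.1 i.1.ι ≫ v.1 ≫ q' := by
        rw [hvi, ← Category.assoc, ← pullback.condition, Category.assoc]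

section OpenImm

variable (D D' : SchDD p) (j : D' ⟶ D) [IsOpenImmersion j.hom.left]

/-- the image of an open immersion of descent data is stable -/
theorem stable_opensRange : Stable D j.hom.left.opensRange := by
  intro T x₀ x₁ h v hv
  have hr : Set.range v.1 ⊆ Set.range j.hom.left := hv
  obtain ⟨w, hw⟩ : ∃ w : Lifts D'.obj x₀, w.1 ≫ j.hom.left = v.1 := by
    refine ⟨⟨IsOpenImmersion.lift j.hom.left v.1 hr, ?_⟩, IsOpenImmersion.lift_fac _ _ _⟩
    rw [← Over.w j.hom, IsOpenImmersion.lift_fac_assoc]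
    exact v.2
  have e := j.comm x₀ x₁ h w v hw.symm
  rw [e]
  rintro _ ⟨t, rfl⟩
  rw [Scheme.Hom.comp_apply]
  exact ⟨_, rfl⟩

/-- the image of an open immersion from an effective descent datum has a quotient -/
theorem quotOn_opensRange (U' : Over S) (e : (toDD p).obj U' ≅ D') :
    QuotOn D j.hom.left.opensRange (stable_opensRange D D' j) := by
  have hk1 : e.inv.hom.left ≫ e.hom.hom.left = 𝟙 _ := by
    have := congrArg (fun f : D' ⟶ D' => f.hom.left) e.inv_hom_id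
    exact this
  have hk2 : e.hom.hom.left ≫ e.inv.hom.left = 𝟙 _ := by
    have := congrArg (fun f : (toDD p).obj U' ⟶ (toDD p).obj U' => f.hom.left) e.hom_inv_id
    exact this
  obtain ⟨k, hk⟩ : ∃ k : D'.obj.left ≅ pullback p U'.hom, k.hom = e.inv.hom.left :=
    ⟨⟨e.inv.hom.left, e.hom.hom.left, hk1, hk2⟩, rfl⟩
  have hkfst : e.inv.hom.left ≫ pullback.fst p U'.hom = D'.obj.hom := Over.w e.inv.hom
  obtain ⟨θ, hθ⟩ : ∃ θ : D'.obj.left ≅ (j.hom.left.opensRange : Scheme.{u}),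
      θ.inv ≫ j.hom.left = j.hom.left.opensRange.ι :=
    ⟨j.hom.left.isoOpensRange, Scheme.Hom.isoOpensRange_inv_comp _⟩
  have hw1 : (θ.symm ≪≫ k).hom ≫ pullback.fst p U'.hom = j.hom.left.opensRange.ι ≫ D.obj.hom := by
    rw [Iso.trans_hom, Iso.symm_hom, hk, Category.assoc, hkfst, ← hθ, Category.assoc, Over.w j.hom]
  have hw2 : (θ.symm ≪≫ k).hom ≫ pullback.snd p U'.hom =
      θ.inv ≫ e.inv.hom.left ≫ pullback.snd p U'.hom := by
    rw [Iso.trans_hom, Iso.symm_hom, hk, Category.assoc]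
  refine ⟨U'.left, U'.hom, θ.inv ≫ e.inv.hom.left ≫ pullback.snd p U'.hom, ?_, ?_⟩
  · refine IsPullback.of_iso_pullback ⟨?_⟩ (θ.symm ≪≫ k) hw1 hw2
    rw [← hw1, ← hw2, Category.assoc, Category.assoc, pullback.condition]
  · intro T x₀ x₁ h v
    obtain ⟨w, hw⟩ : ∃ w : Lifts D'.obj x₀, w.1 = v.1 ≫ θ.inv := by
      refine ⟨⟨v.1 ≫ θ.inv, ?_⟩, rfl⟩
      rw [Category.assoc, ← Over.w j.hom, ← Category.assoc θ.inv, hθ]
      exact v.2
    have hA : (D'.φ x₀ x₁ h w).1 =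
        ((restrictDD D j.hom.left.opensRange (stable_opensRange D D' j)).φ x₀ x₁ h v).1 ≫ θ.inv := by
      rw [← cancel_mono j.hom.left, Category.assoc, hθ, restrictDD_phi_ι]
      have := j.comm x₀ x₁ h w (toLifts D j.hom.left.opensRange v)
        (by rw [toLifts_val, hw, Category.assoc, hθ])
      exact this.symm
    obtain ⟨c, hc⟩ : ∃ c : Lifts ((toDD p).obj U').obj x₀, c.1 = w.1 ≫ e.inv.hom.left := by
      refine ⟨⟨w.1 ≫ e.inv.hom.left, ?_⟩, rfl⟩
      rw [Category.assoc, Over.w e.inv.hom]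
      exact w.2
    have hB := e.inv.comm x₀ x₁ h w c hc
    have hcan : (((toDD p).obj U').φ x₀ x₁ h c).1 ≫ pullback.snd p U'.hom =
        c.1 ≫ pullback.snd p U'.hom := by
      change (canMap p U' x₀ x₁ h c).1 ≫ _ = _
      rw [canMap_val, pullback.lift_snd]
    calc ((restrictDD D j.hom.left.opensRange (stable_opensRange D D' j)).φ x₀ x₁ h v).1 ≫
          θ.inv ≫ e.inv.hom.left ≫ pullback.snd p U'.hom
        = (D'.φ x₀ x₁ h w).1 ≫ e.inv.hom.left ≫ pullback.snd p U'.hom := by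
          rw [hA, Category.assoc]
      _ = (((toDD p).obj U').φ x₀ x₁ h c).1 ≫ pullback.snd p U'.hom := by
          rw [hB, Category.assoc]
      _ = c.1 ≫ pullback.snd p U'.hom := hcan
      _ = v.1 ≫ θ.inv ≫ e.inv.hom.left ≫ pullback.snd p U'.hom := by
          rw [hc, hw, Category.assoc, Category.assoc]

end OpenImm

/-- **A descent datum which is effective locally on its total space is effective.** -/
theorem schDD_effective_of_locally_effective [Surjective p] [Flat p] [QuasiCompact p]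
    (D : SchDD p)
    (h : ∀ v : D.obj.left, ∃ (D' : SchDD p) (j : D' ⟶ D), IsOpenImmersion j.hom.left ∧
      v ∈ Set.range j.hom.left.base ∧ ∃ U' : Over S, Nonempty ((toDD p).obj U' ≅ D')) :
    ∃ U : Over S, Nonempty ((toDD p).obj U ≅ D) := by
  obtain ⟨U, u, q, hpb, hinv⟩ := exists_quot_of_cover D
    ⟨{O | ∃ hO : Stable D O, QuotOn D O hO}, fun v => by
        obtain ⟨D', j, hj, hv, U', ⟨e⟩⟩ := h v
        exact ⟨j.hom.left.opensRange, ⟨stable_opensRange D D' j, quotOn_opensRange D D' j U' e⟩, hv⟩,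
      fun O hO O' hO' v hv hv' => by
        obtain ⟨hst, hQ⟩ := hO
        obtain ⟨hst', hQ'⟩ := hO'
        exact ⟨O ⊓ O', ⟨stable_inf hst hst',
          quotOn_of_le D O (O ⊓ O') hst (stable_inf hst hst') inf_le_left hQ⟩, ⟨hv, hv'⟩,
          inf_le_left, inf_le_right⟩⟩
    (fun O hO => hO)
  exact ⟨Over.mk u, effective_of_quot D u q hpb hinv⟩

end Groth.Agent.Lib.Helper28.EffDesc
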