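import Groth.Agent.Lib.Helper28.EffDesc.Glue
import Groth.Agent.Lib.Helper16.QAffCore
import Groth.Agent.Lib.Helper11.QALib

/-!
# Effective descent (helper28): descent data whose total space is quasi-affine over the cover are effective

The ring/scheme level input over an affine base is `Helper16.QAff.exists_descent`; here a descent datum in
functor-of-points form is converted to the "action" form used there, and the local quotients are glued.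
-/

set_option autoImplicit false
set_option maxHeartbeats 1600000
set_option backward.isDefEq.respectTransparency false
set_option backward.isDefEq.respectTransparency.types false
universe u
open CategoryTheory CategoryTheory.Limits AlgebraicGeometry

namespace Groth.Agent.Lib.Helper28.EffDesc

open Desc

/-- the case of a faithfully flat morphism of affine schemes -/
theorem quot_of_qaff_affine {A B : CommRingCat.{u}} (f : A ⟶ B) (p : Spec B ⟶ Spec A)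
    (hp : p = Spec.map f) [Flat p] [Surjective p] (D : SchDD p) [D.obj.left.IsQuasiAffine] :
    ∃ (U : Scheme.{u}) (u : U ⟶ Spec A) (q : D.obj.left ⟶ U), IsPullback D.obj.hom q p u ∧
      IsInv D q := by
  subst hp
  obtain ⟨V₂, prV, prW, H₂⟩ : ∃ (V₂ : Scheme.{u}) (prV : V₂ ⟶ D.obj.left) (prW : V₂ ⟶ Spec B),
      IsPullback prV prW (D.obj.hom ≫ Spec.map f) (Spec.map f) :=
    ⟨_, _, _, IsPullback.of_hasPullback _ _⟩
  have h2 : (prV ≫ D.obj.hom) ≫ Spec.map f = prW ≫ Spec.map f := by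
    rw [Category.assoc]
    exact H₂.w
  obtain ⟨σ, hσ⟩ : ∃ σ : V₂ ⟶ D.obj.left, σ = (D.φ (prV ≫ D.obj.hom) prW h2 ⟨prV, rfl⟩).1 :=
    ⟨_, rfl⟩
  have hσπ : σ ≫ D.obj.hom = prW := by
    rw [hσ]
    exact phi_hom D _ _ h2 _
  have hσt : ∀ {T : Scheme.{u}} (t : T ⟶ V₂) (x₀ x₁ : T ⟶ Spec B)
      (h : x₀ ≫ Spec.map f = x₁ ≫ Spec.map f) (v : Lifts D.obj x₀), t ≫ prV = v.1 → t ≫ prW = x₁ →
      t ≫ σ = (D.φ x₀ x₁ h v).1 := by
    intro T t x₀ x₁ h v hv hx₁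
    have hx₀ : t ≫ prV ≫ D.obj.hom = x₀ := by
      rw [← Category.assoc, hv]
      exact v.2
    rw [hσ]
    exact (phi_natural' D t (prV ≫ D.obj.hom) prW h2 x₀ x₁ hx₀ hx₁ h ⟨prV, rfl⟩ v hv.symm).symm
  obtain ⟨δ, hδV, hδW⟩ : ∃ δ : D.obj.left ⟶ V₂, δ ≫ prV = 𝟙 _ ∧ δ ≫ prW = D.obj.hom :=
    ⟨H₂.lift (𝟙 _) D.obj.hom (by rw [Category.id_comp]), H₂.lift_fst _ _ _, H₂.lift_snd _ _ _⟩
  have hδσ : δ ≫ σ = 𝟙 _ := by
    rw [hσt δ D.obj.hom D.obj.hom rfl ⟨𝟙 _, Category.id_comp _⟩ hδV hδW]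
    exact phi_self' D _ _ rfl rfl _
  obtain ⟨V₃, q₃, r₃, H₃⟩ : ∃ (V₃ : Scheme.{u}) (q₃ : V₃ ⟶ V₂) (r₃ : V₃ ⟶ Spec B),
      IsPullback q₃ r₃ (prW ≫ Spec.map f) (Spec.map f) := ⟨_, _, _, IsPullback.of_hasPullback _ _⟩
  have h3 : (q₃ ≫ prW) ≫ Spec.map f = r₃ ≫ Spec.map f := by
    rw [Category.assoc]
    exact H₃.w
  obtain ⟨σ₃, hσ₃V, hσ₃W⟩ : ∃ σ₃ : V₃ ⟶ V₂, σ₃ ≫ prV = q₃ ≫ σ ∧ σ₃ ≫ prW = r₃ :=
    ⟨H₂.lift (q₃ ≫ σ) r₃ (by
        rw [Category.assoc, ← Category.assoc σ, hσπ, ← Category.assoc]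
        exact h3), H₂.lift_fst _ _ _, H₂.lift_snd _ _ _⟩
  obtain ⟨p₃, hp₃V, hp₃W⟩ : ∃ p₃ : V₃ ⟶ V₂, p₃ ≫ prV = q₃ ≫ prV ∧ p₃ ≫ prW = r₃ :=
    ⟨H₂.lift (q₃ ≫ prV) r₃ (by
        rw [Category.assoc, H₂.w, ← Category.assoc]
        exact h3), H₂.lift_fst _ _ _, H₂.lift_snd _ _ _⟩
  have hcoc : σ₃ ≫ σ = p₃ ≫ σ := by
    have h01 : (q₃ ≫ prV ≫ D.obj.hom) ≫ Spec.map f = (q₃ ≫ prW) ≫ Spec.map f := by
      simp only [Category.assoc]
      rw [H₂.w]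
    obtain ⟨w, hw⟩ : ∃ w : Lifts D.obj (q₃ ≫ prV ≫ D.obj.hom), w.1 = q₃ ≫ prV :=
      ⟨⟨q₃ ≫ prV, Category.assoc _ _ _⟩, rfl⟩
    have e1 : q₃ ≫ σ = (D.φ _ _ h01 w).1 := hσt q₃ _ _ h01 w hw.symm rfl
    have e2 : σ₃ ≫ σ = (D.φ _ _ h3 (D.φ _ _ h01 w)).1 :=
      hσt σ₃ _ _ h3 _ (hσ₃V.trans e1) hσ₃W
    have e3 : p₃ ≫ σ = (D.φ _ _ (h01.trans h3) w).1 :=
      hσt p₃ _ _ _ w (hp₃V.trans hw.symm) hp₃W
    rw [e2, e3, D.φ_comp]
  obtain ⟨T₀, u, q, hPB, hinvσ, -⟩ := Groth.Agent.Lib.Helper16.QAff.exists_descent f D.obj.hom prV prW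
    H₂ σ hσπ δ hδV hδW hδσ q₃ r₃ H₃ σ₃ p₃ hσ₃V hσ₃W hp₃V hp₃W hcoc
  refine ⟨T₀, u, q, hPB.flip, ?_⟩
  intro T x₀ x₁ h v
  obtain ⟨t, ht1, ht2⟩ : ∃ t : T ⟶ V₂, t ≫ prV = v.1 ∧ t ≫ prW = x₁ :=
    ⟨H₂.lift v.1 x₁ (by rw [← Category.assoc, v.2, h]), H₂.lift_fst _ _ _, H₂.lift_snd _ _ _⟩
  rw [← hσt t x₀ x₁ h v ht1 ht2, Category.assoc, hinvσ, ← Category.assoc, ht1]

variable {X S : Scheme.{u}} {p : X ⟶ S} (D : SchDD p)

/-- a quotient exists over the spectrum of the sections over an affine open -/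
theorem localQuot_fromSpec_qaff [Flat p] [Surjective p] [QuasiCompact p]
    (hD : Mor2.IsQuasiAffine D.obj.hom) {W : S.Opens} (hW : IsAffineOpen W) :
    LocalQuot D hW.fromSpec := by
  haveI : CompactSpace ↑(pullback p hW.fromSpec) :=
    QuasiCompact.compactSpace_of_compactSpace (pullback.snd p hW.fromSpec)
  obtain ⟨𝒰, h𝒰⟩ : ∃ 𝒰 : (pullback p hW.fromSpec).OpenCover,
      𝒰 = (pullback p hW.fromSpec).affineCover.finiteSubcover := ⟨_, rfl⟩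
  haveI : Finite 𝒰.I₀ := by rw [h𝒰]; infer_instance
  haveI : ∀ i, IsAffine (𝒰.X i) := by rw [h𝒰]; infer_instance
  obtain ⟨r, hr⟩ : ∃ r : Spec Γ(∐ 𝒰.X, ⊤) ⟶ pullback p hW.fromSpec,
      r = (∐ 𝒰.X).isoSpec.inv ≫ Sigma.desc 𝒰.f := ⟨_, rfl⟩
  haveI : LocallyOfFinitePresentation (Sigma.desc 𝒰.f) :=
    IsZariskiLocalAtSource.sigmaDesc (fun _ => inferInstance)
  haveI : Flat r := by rw [hr]; infer_instance
  haveI : Surjective r := by rw [hr]; infer_instance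
  haveI : LocallyOfFinitePresentation r := by rw [hr]; infer_instance
  have w : (r ≫ pullback.snd p hW.fromSpec) ≫ hW.fromSpec = (r ≫ pullback.fst p hW.fromSpec) ≫ p := by
    rw [Category.assoc, Category.assoc, pullback.condition]
  have hqa : Mor2.IsQuasiAffine (pullback.snd D.obj.hom (r ≫ pullback.fst p hW.fromSpec)) :=
    Groth.Agent.Lib.Helper11.QALib.qa_baseChange D.obj.hom hD _
  haveI hqa' : (pullDD (r ≫ pullback.fst p hW.fromSpec) hW.fromSpec w D).obj.left.IsQuasiAffine := by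
    haveI h1 : ((pullback.snd D.obj.hom (r ≫ pullback.fst p hW.fromSpec) ⁻¹ᵁ ⊤ :
        (pullback D.obj.hom (r ≫ pullback.fst p hW.fromSpec)).Opens) : Scheme.{u}).IsQuasiAffine :=
      hqa.2 ⊤ (isAffineOpen_top _)
    haveI h2 : ((⊤ : (pullback D.obj.hom (r ≫ pullback.fst p hW.fromSpec)).Opens) :
        Scheme.{u}).IsQuasiAffine :=
      Groth.Agent.Lib.Helper11.QALib.qa_of_eq
        (Scheme.Hom.preimage_top (pullback.snd D.obj.hom (r ≫ pullback.fst p hW.fromSpec))).symm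
    exact Groth.Agent.Lib.Helper11.QALib.qa_of_iso
      (pullback D.obj.hom (r ≫ pullback.fst p hW.fromSpec)).topIso.symm
  obtain ⟨αr, hαr⟩ : ∃ αr : Γ(S, W) ⟶ Γ(∐ 𝒰.X, ⊤),
      Spec.map αr = r ≫ pullback.snd p hW.fromSpec := ⟨Spec.preimage _, Spec.map_preimage _⟩
  obtain ⟨U', u', q', hpb', hinv'⟩ :=
    quot_of_qaff_affine αr (r ≫ pullback.snd p hW.fromSpec) hαr.symm
      (pullDD (r ≫ pullback.fst p hW.fromSpec) hW.fromSpec w D)
  exact transfer (r ≫ pullback.fst p hW.fromSpec) hW.fromSpec w D r rfl rfl u' q' hpb' hinv'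

theorem localQuot_affineOpen_qaff [Flat p] [Surjective p] [QuasiCompact p]
    (hD : Mor2.IsQuasiAffine D.obj.hom) {W : S.Opens} (hW : IsAffineOpen W) : LocalQuot D W.ι := by
  have := LocalQuot.of_iso D hW.isoSpec hW.fromSpec (localQuot_fromSpec_qaff D hD hW)
  rwa [hW.isoSpec_hom_fromSpec] at this

/-- **Effective descent for quasi-affine morphisms** along an fpqc morphism -/
theorem schDD_effective_of_quasiAffine [Flat p] [Surjective p] [QuasiCompact p]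
    (hD : Mor2.IsQuasiAffine D.obj.hom) : ∃ U : Over S, Nonempty ((Desc.toDD p).obj U ≅ D) := by
  obtain ⟨U, u, q, hpb, hinv⟩ := exists_quot_of_local D (fun W => localQuot_affineOpen_qaff D hD W.2)
  exact ⟨Over.mk u, effective_of_quot D u q hpb hinv⟩

end Groth.Agent.Lib.Helper28.EffDesc
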