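import Groth.Agent.Lib.Helper28.EffDesc.FppfLqf
import Groth.Agent.Lib.Helper28.EffDesc.QAff

/-!
# Effective descent (helper28): affine schemes along fppf morphisms
-/

set_option autoImplicit false
set_option maxHeartbeats 1600000
set_option backward.isDefEq.respectTransparency false
set_option backward.isDefEq.respectTransparency.types false
universe u
open CategoryTheory CategoryTheory.Limits AlgebraicGeometry

namespace Groth.Agent.Lib.Helper28.EffDesc

open Desc

variable {X S : Scheme.{u}} {p : X ⟶ S}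

theorem isQuasiAffine_of_isAffineHom {X Y : Scheme.{u}} (a : X ⟶ Y) [IsAffineHom a] :
    Mor2.IsQuasiAffine a := by
  refine ⟨inferInstance, fun V hV => ?_⟩
  haveI : IsAffine (a ⁻¹ᵁ V : Scheme.{u}) := hV.preimage a
  infer_instance

theorem pullDD_isAffineHom {X' S' : Scheme.{u}} {p' : X' ⟶ S'} (g : X' ⟶ X) (j : S' ⟶ S)
    (w : p' ≫ j = g ≫ p) (D : SchDD p) [IsAffineHom D.obj.hom] :
    IsAffineHom (pullDD g j w D).obj.hom :=
  MorphismProperty.pullback_snd (P := @IsAffineHom) D.obj.hom g inferInstance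

/-- fppf cover of an affine base, affine descent datum -/
theorem exists_quot_of_affine_base_aff [Flat p] [Surjective p] [LocallyOfFinitePresentation p]
    [IsAffine S] (D : SchDD p) [IsAffineHom D.obj.hom] :
    ∃ (U : Scheme.{u}) (u : U ⟶ S) (q : D.obj.left ⟶ U), IsPullback D.obj.hom q p u ∧ IsInv D q := by
  obtain ⟨X₀, r₀, hX₀, hr1, hr2, hr3⟩ := exists_affine_refinement p
  haveI := hX₀
  haveI := hr1
  haveI := hr2
  haveI := hr3
  have w₀ : (r₀ ≫ p) ≫ 𝟙 S = r₀ ≫ p := Category.comp_id _
  haveI : QuasiCompact (r₀ ≫ p) :=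
    (HasAffineProperty.iff_of_isAffine (P := @QuasiCompact)).mpr inferInstance
  haveI := pullDD_isAffineHom r₀ (𝟙 S) w₀ D
  obtain ⟨U, ⟨e⟩⟩ := schDD_effective_of_quasiAffine (pullDD r₀ (𝟙 S) w₀ D)
    (isQuasiAffine_of_isAffineHom _)
  obtain ⟨q₀, hpb₀, hinv₀⟩ := quot_of_effective _ U e
  obtain ⟨q, hq⟩ := transfer_cover r₀ (r₀ ≫ p) w₀ D U.hom q₀ hpb₀ hinv₀
  exact ⟨U.left, U.hom, q, hq⟩

/-- local quotients over affine opens of the base -/
theorem localQuot_of_affineHom [Flat p] [Surjective p] [LocallyOfFinitePresentation p] (D : SchDD p)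
    [IsAffineHom D.obj.hom] {W : S.Opens} (hW : IsAffineOpen W) : LocalQuot D W.ι := by
  have w : pullback.snd p W.ι ≫ W.ι = pullback.fst p W.ι ≫ p := pullback.condition.symm
  haveI : IsAffine (W : Scheme.{u}) := hW
  haveI : Flat (pullback.snd p W.ι) := MorphismProperty.pullback_snd (P := @Flat) _ _ inferInstance
  haveI : Surjective (pullback.snd p W.ι) :=
    MorphismProperty.pullback_snd (P := @Surjective) _ _ inferInstance
  haveI : LocallyOfFinitePresentation (pullback.snd p W.ι) :=
    MorphismProperty.pullback_snd (P := @LocallyOfFinitePresentation) _ _ inferInstance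
  haveI := pullDD_isAffineHom (pullback.fst p W.ι) W.ι w D
  obtain ⟨U', u', q', hpb', hinv'⟩ :=
    exists_quot_of_affine_base_aff (pullDD (pullback.fst p W.ι) W.ι w D)
  exact transfer (pullback.fst p W.ι) W.ι w D (𝟙 _) (Category.id_comp _) (Category.id_comp _)
    u' q' hpb' hinv'

/-- **Descent data on affine schemes are effective along fppf morphisms.** -/
theorem schDD_effective_of_affineHom_fppf [Flat p] [Surjective p] [LocallyOfFinitePresentation p]
    (D : SchDD p) [IsAffineHom D.obj.hom] : ∃ U : Over S, Nonempty ((Desc.toDD p).obj U ≅ D) := by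
  obtain ⟨U, u, q, hpb, hinv⟩ :=
    EffDescF.exists_quot_of_local D (fun W => localQuot_of_affineHom D W.2)
  exact ⟨Over.mk u, effective_of_quot D u q hpb hinv⟩

end Groth.Agent.Lib.Helper28.EffDesc
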