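import Groth.Agent.Lib.Helper28.EffDesc.Transfer

/-!
# Effective descent (helper28): transferring a quotient along a square with fppf comparison map
-/

set_option autoImplicit false
set_option maxHeartbeats 1600000
set_option backward.isDefEq.respectTransparency false
set_option backward.isDefEq.respectTransparency.types false
universe u
open CategoryTheory CategoryTheory.Limits AlgebraicGeometry

namespace Groth.Agent.Lib.Helper28.EffDesc

open Desc

section General

variable {C : Type*} [Category C] [HasPullbacks C]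

/-- `V ×_S S' = V ×_X (X ×_S S')` -/
theorem isPullback_lift_of_comp {V X S S' : C} (a : V ⟶ X) (p : X ⟶ S) (j : S' ⟶ S) :
    IsPullback (pullback.fst (a ≫ p) j)
      (pullback.lift (pullback.fst (a ≫ p) j ≫ a) (pullback.snd (a ≫ p) j)
        (by rw [Category.assoc]; exact pullback.condition))
      a (pullback.fst p j) := by
  refine IsPullback.of_bot ?_ (pullback.lift_fst _ _ _).symm (IsPullback.of_hasPullback p j)
  rw [pullback.lift_snd]
  exact IsPullback.of_hasPullback (a ≫ p) j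

end General

variable {X S X' S' : Scheme.{u}} {p : X ⟶ S} {p' : X' ⟶ S'} (g : X' ⟶ X) (j : S' ⟶ S)
  (w : p' ≫ j = g ≫ p) (D : SchDD p)

theorem transfer (r : X' ⟶ pullback p j) (hr1 : r ≫ pullback.fst p j = g)
    (hr2 : r ≫ pullback.snd p j = p') [Flat r] [Surjective r] [LocallyOfFinitePresentation r]
    {U' : Scheme.{u}} (u' : U' ⟶ S') (q' : (pullDD g j w D).obj.left ⟶ U')
    (hpb' : IsPullback (pullDD g j w D).obj.hom q' p' u') (hinv' : IsInv (pullDD g j w D) q') :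
    LocalQuot D j := by
  -- notation
  obtain ⟨a, ha⟩ : ∃ a : D.obj.left ⟶ X, a = D.obj.hom := ⟨_, rfl⟩
  have hcond : pullback.fst D.obj.hom g ≫ D.obj.hom = pullback.snd D.obj.hom g ≫ g :=
    pullback.condition
  have hpbw : pullback.snd D.obj.hom g ≫ p' = q' ≫ u' := hpb'.w
  -- the comparison `c : V' ⟶ V₁`
  have hc0 : pullback.fst D.obj.hom g ≫ D.obj.hom ≫ p = (pullback.snd D.obj.hom g ≫ p') ≫ j := by
    rw [← Category.assoc, hcond, Category.assoc, Category.assoc, w]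
  obtain ⟨c, hc1, hc2⟩ : ∃ c : pullback D.obj.hom g ⟶ pullback (D.obj.hom ≫ p) j,
      c ≫ pullback.fst (D.obj.hom ≫ p) j = pullback.fst D.obj.hom g ∧
      c ≫ pullback.snd (D.obj.hom ≫ p) j = pullback.snd D.obj.hom g ≫ p' :=
    ⟨pullback.lift _ _ hc0, pullback.lift_fst _ _ _, pullback.lift_snd _ _ _⟩
  obtain ⟨b₁, hb1, hb2, hR⟩ : ∃ b₁ : pullback (D.obj.hom ≫ p) j ⟶ pullback p j,
      b₁ ≫ pullback.fst p j = pullback.fst (D.obj.hom ≫ p) j ≫ D.obj.hom ∧
      b₁ ≫ pullback.snd p j = pullback.snd (D.obj.hom ≫ p) j ∧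
      IsPullback (pullback.fst (D.obj.hom ≫ p) j) b₁ D.obj.hom (pullback.fst p j) :=
    ⟨_, pullback.lift_fst _ _ _, pullback.lift_snd _ _ _, isPullback_lift_of_comp D.obj.hom p j⟩
  have hcb : c ≫ b₁ = pullback.snd D.obj.hom g ≫ r := by
    apply pullback.hom_ext
    · rw [Category.assoc, hb1, ← Category.assoc, hc1, Category.assoc, hr1, hcond]
    · rw [Category.assoc, hb2, hc2, Category.assoc, hr2]
  have PB2 : IsPullback c (pullback.snd D.obj.hom g) b₁ r := by
    refine IsPullback.of_right ?_ hcb hR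
    rw [hc1, hr1]
    exact IsPullback.of_hasPullback D.obj.hom g
  have : Flat c := MorphismProperty.of_isPullback (P := @Flat) PB2.flip inferInstance
  have : Surjective c := MorphismProperty.of_isPullback (P := @Surjective) PB2.flip inferInstance
  have : LocallyOfFinitePresentation c :=
    MorphismProperty.of_isPullback (P := @LocallyOfFinitePresentation) PB2.flip inferInstance
  have hepic : Epi c := Flat.epi_of_flat_of_surjective c
  -- descending `q'`
  have hcompat : ∀ {Z : Scheme.{u}} (g₁ g₂ : Z ⟶ pullback D.obj.hom g), g₁ ≫ c = g₂ ≫ c →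
      g₁ ≫ q' = g₂ ≫ q' := by
    intro Z g₁ g₂ hg
    have i1 : g₁ ≫ pullback.fst D.obj.hom g = g₂ ≫ pullback.fst D.obj.hom g := by
      rw [← hc1, ← Category.assoc, hg, Category.assoc]
    have i2 : (g₁ ≫ pullback.snd D.obj.hom g) ≫ p' = (g₂ ≫ pullback.snd D.obj.hom g) ≫ p' := by
      rw [Category.assoc, Category.assoc, ← hc2, ← Category.assoc, hg, Category.assoc]
    have e : (g₁ ≫ pullback.snd D.obj.hom g) ≫ g = (g₂ ≫ pullback.snd D.obj.hom g) ≫ g := by
      rw [Category.assoc, Category.assoc, ← hcond, ← Category.assoc, ← Category.assoc, i1]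
    have hL : ((pullDD g j w D).φ (g₁ ≫ pullback.snd D.obj.hom g)
        (g₂ ≫ pullback.snd D.obj.hom g) i2 ⟨g₁, rfl⟩).1 = g₂ := by
      apply pullback.hom_ext
      · rw [pullDD_phi_fst, phi_self' D _ _ e]
        exact i1
      · exact phi_hom (pullDD g j w D) _ _ i2 _
    have := hinv' _ _ i2 ⟨g₁, rfl⟩
    rw [hL] at this
    exact this.symm
  obtain ⟨q₁, hq₁⟩ : ∃ q₁ : pullback (D.obj.hom ≫ p) j ⟶ U', c ≫ q₁ = q' :=
    ⟨EffectiveEpi.desc c q' (fun g₁ g₂ hg => hcompat g₁ g₂ hg), EffectiveEpi.fac _ _ _⟩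
  have hq₁u : q₁ ≫ u' = pullback.snd (D.obj.hom ≫ p) j := by
    rw [← cancel_epi c, ← Category.assoc, hq₁, ← hpbw, hc2]
  refine ⟨U', u', q₁, ?_, ?_⟩
  · -- the cartesian square
    have hm : (pullback.fst (D.obj.hom ≫ p) j ≫ D.obj.hom) ≫ p = q₁ ≫ u' ≫ j := by
      rw [← Category.assoc q₁, hq₁u, Category.assoc]
      exact pullback.condition
    obtain ⟨m, hm1, hm2⟩ : ∃ m : pullback (D.obj.hom ≫ p) j ⟶ pullback p (u' ≫ j),
        m ≫ pullback.fst p (u' ≫ j) = pullback.fst (D.obj.hom ≫ p) j ≫ D.obj.hom ∧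
        m ≫ pullback.snd p (u' ≫ j) = q₁ :=
      ⟨pullback.lift _ _ hm, pullback.lift_fst _ _ _, pullback.lift_snd _ _ _⟩
    suffices hiso : IsIso m by
      exact IsPullback.of_iso_pullback ⟨hm⟩ (asIso m) hm1 hm2
    -- `K = X' ×_{S'} U'`
    obtain ⟨m', hm'1, hm'2, hm'iso⟩ : ∃ m' : pullback D.obj.hom g ⟶ pullback p' u',
        m' ≫ pullback.fst p' u' = pullback.snd D.obj.hom g ∧ m' ≫ pullback.snd p' u' = q' ∧
        IsIso m' := by
      refine ⟨hpb'.isoPullback.hom, hpb'.isoPullback_hom_fst, hpb'.isoPullback_hom_snd, ?_⟩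
      infer_instance
    have hκ0 : (pullback.fst p' u' ≫ g) ≫ p = pullback.snd p' u' ≫ u' ≫ j := by
      rw [Category.assoc, ← w, ← Category.assoc, pullback.condition, Category.assoc]
    obtain ⟨κ, hκ1, hκ2⟩ : ∃ κ : pullback p' u' ⟶ pullback p (u' ≫ j),
        κ ≫ pullback.fst p (u' ≫ j) = pullback.fst p' u' ≫ g ∧
        κ ≫ pullback.snd p (u' ≫ j) = pullback.snd p' u' :=
      ⟨pullback.lift _ _ hκ0, pullback.lift_fst _ _ _, pullback.lift_snd _ _ _⟩
    have hb20 : pullback.fst p (u' ≫ j) ≫ p = (pullback.snd p (u' ≫ j) ≫ u') ≫ j := by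
      rw [Category.assoc]
      exact pullback.condition
    obtain ⟨b₂, hb21, hb22⟩ : ∃ b₂ : pullback p (u' ≫ j) ⟶ pullback p j,
        b₂ ≫ pullback.fst p j = pullback.fst p (u' ≫ j) ∧
        b₂ ≫ pullback.snd p j = pullback.snd p (u' ≫ j) ≫ u' :=
      ⟨pullback.lift _ _ hb20, pullback.lift_fst _ _ _, pullback.lift_snd _ _ _⟩
    have hB2 : IsPullback (pullback.snd p (u' ≫ j)) b₂ u' (pullback.snd p j) := by
      refine IsPullback.of_bot ?_ hb22.symm (IsPullback.of_hasPullback p j).flip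
      rw [hb21]
      exact (IsPullback.of_hasPullback p (u' ≫ j)).flip
    have hκb : κ ≫ b₂ = pullback.fst p' u' ≫ r := by
      apply pullback.hom_ext
      · rw [Category.assoc, hb21, hκ1, Category.assoc, hr1]
      · rw [Category.assoc, hb22, ← Category.assoc, hκ2, Category.assoc, hr2, pullback.condition]
    have hK : IsPullback κ (pullback.fst p' u') b₂ r := by
      refine IsPullback.of_right ?_ hκb hB2
      rw [hκ2, hr2]
      exact (IsPullback.of_hasPullback p' u').flip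
    have hmb : m ≫ b₂ = b₁ := by
      apply pullback.hom_ext
      · rw [Category.assoc, hb21, hm1, hb1]
      · rw [Category.assoc, hb22, ← Category.assoc, hm2, hq₁u, hb2]
    have hm'κ : m' ≫ κ = c ≫ m := by
      apply pullback.hom_ext
      · rw [Category.assoc, hκ1, ← Category.assoc, hm'1, Category.assoc, hm1, ← Category.assoc, hc1,
          hcond]
      · rw [Category.assoc, hκ2, hm'2, Category.assoc, hm2, hq₁]
    have hM : IsPullback m' c κ m := by
      refine IsPullback.of_right ?_ hm'κ hK.flip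
      rw [hm'1, hmb]
      exact PB2.flip
    have hκQ : (@Surjective ⊓ @Flat ⊓ @LocallyOfFinitePresentation : MorphismProperty Scheme.{u}) κ :=
      ⟨⟨MorphismProperty.of_isPullback (P := @Surjective) hK.flip inferInstance,
        MorphismProperty.of_isPullback (P := @Flat) hK.flip inferInstance⟩,
        MorphismProperty.of_isPullback (P := @LocallyOfFinitePresentation) hK.flip inferInstance⟩
    exact MorphismProperty.of_isPullback_of_descendsAlong
      (P := MorphismProperty.isomorphisms Scheme.{u})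
      (Q := (@Surjective ⊓ @Flat ⊓ @LocallyOfFinitePresentation : MorphismProperty Scheme.{u}))
      hM hκQ hm'iso
  · -- invariance
    intro T x₀ x₁ h v v₁ w₁ hv₁ hw₁ hs
    -- the fppf cover `T' ⟶ T` over which `x₀`, `x₁` lift to `X'`
    have hτ₁fl : Flat (pullback.fst (v₁ ≫ b₁) r) := inferInstance
    have hτ₁su : Surjective (pullback.fst (v₁ ≫ b₁) r) := inferInstance
    have hτ₁ : Epi (pullback.fst (v₁ ≫ b₁) r) := Flat.epi_of_flat_of_surjective _
    have hτ₂ : Epi (pullback.fst (pullback.fst (v₁ ≫ b₁) r ≫ w₁ ≫ b₁) r) :=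
      Flat.epi_of_flat_of_surjective _
    obtain ⟨T', τ, y₀, y₁, hτ, hy₀, hy₁⟩ : ∃ (T' : Scheme.{u}) (τ : T' ⟶ T) (y₀ y₁ : T' ⟶ X'),
        Epi τ ∧ y₀ ≫ r = τ ≫ v₁ ≫ b₁ ∧ y₁ ≫ r = τ ≫ w₁ ≫ b₁ := by
      refine ⟨pullback (pullback.fst (v₁ ≫ b₁) r ≫ w₁ ≫ b₁) r,
        pullback.fst (pullback.fst (v₁ ≫ b₁) r ≫ w₁ ≫ b₁) r ≫ pullback.fst (v₁ ≫ b₁) r,
        pullback.fst (pullback.fst (v₁ ≫ b₁) r ≫ w₁ ≫ b₁) r ≫ pullback.snd (v₁ ≫ b₁) r,
        pullback.snd (pullback.fst (v₁ ≫ b₁) r ≫ w₁ ≫ b₁) r, epi_comp _ _, ?_, ?_⟩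
      · rw [Category.assoc, ← pullback.condition, Category.assoc]
      · rw [← pullback.condition, Category.assoc]
    have hy₀g : y₀ ≫ g = τ ≫ x₀ := by
      rw [← hr1, ← Category.assoc, hy₀, Category.assoc, Category.assoc, hb1, ← Category.assoc v₁,
        hv₁, v.2]
    have hy₁g : y₁ ≫ g = τ ≫ x₁ := by
      rw [← hr1, ← Category.assoc, hy₁, Category.assoc, Category.assoc, hb1, ← Category.assoc w₁,
        hw₁, phi_hom]
    have hy₀p : y₀ ≫ p' = τ ≫ v₁ ≫ pullback.snd (D.obj.hom ≫ p) j := by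
      rw [← hr2, ← Category.assoc, hy₀, Category.assoc, Category.assoc, hb2]
    have hy₁p : y₁ ≫ p' = τ ≫ w₁ ≫ pullback.snd (D.obj.hom ≫ p) j := by
      rw [← hr2, ← Category.assoc, hy₁, Category.assoc, Category.assoc, hb2]
    have h' : y₀ ≫ p' = y₁ ≫ p' := by rw [hy₀p, hy₁p, hs]
    have hv'0 : (τ ≫ v.1) ≫ D.obj.hom = y₀ ≫ g := by rw [Category.assoc, v.2, hy₀g]
    have hw'0 : (τ ≫ (D.φ x₀ x₁ h v).1) ≫ D.obj.hom = y₁ ≫ g := by
      rw [Category.assoc, phi_hom, hy₁g]
    obtain ⟨v', hv'1, hv'2⟩ : ∃ v' : T' ⟶ pullback D.obj.hom g,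
        v' ≫ pullback.fst D.obj.hom g = τ ≫ v.1 ∧ v' ≫ pullback.snd D.obj.hom g = y₀ :=
      ⟨pullback.lift _ _ hv'0, pullback.lift_fst _ _ _, pullback.lift_snd _ _ _⟩
    obtain ⟨w', hw'1, hw'2⟩ : ∃ w' : T' ⟶ pullback D.obj.hom g,
        w' ≫ pullback.fst D.obj.hom g = τ ≫ (D.φ x₀ x₁ h v).1 ∧
        w' ≫ pullback.snd D.obj.hom g = y₁ :=
      ⟨pullback.lift _ _ hw'0, pullback.lift_fst _ _ _, pullback.lift_snd _ _ _⟩
    have hv'c : v' ≫ c = τ ≫ v₁ := by
      apply pullback.hom_ext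
      · rw [Category.assoc, hc1, hv'1, Category.assoc, hv₁]
      · rw [Category.assoc, hc2, ← Category.assoc, hv'2, hy₀p, Category.assoc]
    have hw'c : w' ≫ c = τ ≫ w₁ := by
      apply pullback.hom_ext
      · rw [Category.assoc, hc1, hw'1, Category.assoc, hw₁]
      · rw [Category.assoc, hc2, ← Category.assoc, hw'2, hy₁p, Category.assoc]
    have hL : ((pullDD g j w D).φ y₀ y₁ h' ⟨v', hv'2⟩).1 = w' := by
      apply pullback.hom_ext
      · rw [pullDD_phi_fst, hw'1]
        exact phi_natural' D τ x₀ x₁ h _ _ hy₀g.symm hy₁g.symm _ v _ hv'1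
      · rw [hw'2]
        exact phi_hom (pullDD g j w D) _ _ h' _
    have hi := hinv' y₀ y₁ h' ⟨v', hv'2⟩
    rw [hL] at hi
    have hi' : w' ≫ q' = v' ≫ q' := hi
    rw [← cancel_epi τ, ← Category.assoc, ← hw'c, ← Category.assoc τ, ← hv'c, Category.assoc,
      Category.assoc, hq₁, hi']

end Groth.Agent.Lib.Helper28.EffDesc
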