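import Groth.Agent.Lib.Helper28.EffDesc.Basic

/-!
# Effective descent (helper28): pulling back descent data along a square, and transferring quotients

* `pullDD g j w D`: the pullback of a descent datum `D` relative to `p : X ⟶ S` along a commutative square
  `(g : X' ⟶ X, j : S' ⟶ S)`, a descent datum relative to `p' : X' ⟶ S'`.
* `LocalQuot D j`: a quotient of the part of `D` lying over `j : S₁ ⟶ S`.
* `transfer`: if `X' ⟶ X ×_S S'` is an fppf covering, a quotient of `pullDD g j w D` gives `LocalQuot D j`.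
-/

set_option autoImplicit false
set_option maxHeartbeats 1600000
set_option backward.isDefEq.respectTransparency false
set_option backward.isDefEq.respectTransparency.types false
universe u
open CategoryTheory CategoryTheory.Limits AlgebraicGeometry

namespace Groth.Agent.Lib.Helper28.EffDesc

open Desc

variable {X S X' S' : Scheme.{u}} {p : X ⟶ S} {p' : X' ⟶ S'} (g : X' ⟶ X) (j : S' ⟶ S)
  (w : p' ≫ j = g ≫ p) (D : SchDD p)

/-- points of `V ×_X X'` over `x'` are points of `V` over `x' ≫ g` -/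
noncomputable def liftsEquiv {T : Scheme.{u}} (x' : T ⟶ X') :
    Lifts (Over.mk (pullback.snd D.obj.hom g)) x' ≃ Lifts D.obj (x' ≫ g) where
  toFun v := ⟨v.1 ≫ pullback.fst D.obj.hom g, by
    have e : v.1 ≫ pullback.snd D.obj.hom g = x' := v.2
    rw [Category.assoc, pullback.condition, ← Category.assoc, e]⟩
  invFun v := ⟨pullback.lift v.1 x' v.2, pullback.lift_snd _ _ _⟩
  left_inv v := by
    have e : v.1 ≫ pullback.snd D.obj.hom g = x' := v.2
    apply Subtype.ext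
    apply pullback.hom_ext
    · exact pullback.lift_fst _ _ _
    · rw [pullback.lift_snd, e]
  right_inv v := Subtype.ext (pullback.lift_fst _ _ _)

include w in
theorem pull_cond {T : Scheme.{u}} (x₀ x₁ : T ⟶ X') (h : x₀ ≫ p' = x₁ ≫ p') :
    (x₀ ≫ g) ≫ p = (x₁ ≫ g) ≫ p := by
  rw [Category.assoc, ← w, ← Category.assoc, h, Category.assoc, w, Category.assoc]

/-- the pullback of a descent datum along a commutative square -/
noncomputable def pullDD : SchDD p' where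
  obj := Over.mk (pullback.snd D.obj.hom g)
  φ T x₀ x₁ h := (liftsEquiv g D x₀).trans
    ((D.φ (x₀ ≫ g) (x₁ ≫ g) (pull_cond g j w x₀ x₁ h)).trans (liftsEquiv g D x₁).symm)
  φ_natural T T' k x₀ x₁ h h' v v' hv' := by
    apply pullback.hom_ext
    · have e1 : ((liftsEquiv g D (k ≫ x₁)).symm
          (D.φ ((k ≫ x₀) ≫ g) ((k ≫ x₁) ≫ g) (pull_cond g j w _ _ h')
            (liftsEquiv g D (k ≫ x₀) v'))).1 ≫ pullback.fst D.obj.hom g =
          (D.φ ((k ≫ x₀) ≫ g) ((k ≫ x₁) ≫ g) (pull_cond g j w _ _ h')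
            (liftsEquiv g D (k ≫ x₀) v')).1 := pullback.lift_fst _ _ _
      have e2 : ((liftsEquiv g D x₁).symm
          (D.φ (x₀ ≫ g) (x₁ ≫ g) (pull_cond g j w _ _ h)
            (liftsEquiv g D x₀ v))).1 ≫ pullback.fst D.obj.hom g =
          (D.φ (x₀ ≫ g) (x₁ ≫ g) (pull_cond g j w _ _ h) (liftsEquiv g D x₀ v)).1 :=
        pullback.lift_fst _ _ _
      show _ ≫ pullback.fst D.obj.hom g = (k ≫ _) ≫ pullback.fst D.obj.hom g
      refine e1.trans (Eq.trans ?_ ((congrArg (fun t => k ≫ t) e2.symm).trans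
        (Category.assoc k _ _).symm))
      refine phi_natural' D k (x₀ ≫ g) (x₁ ≫ g) _ _ _ (Category.assoc _ _ _).symm
        (Category.assoc _ _ _).symm _ _ _ ?_
      show v'.1 ≫ pullback.fst D.obj.hom g = k ≫ v.1 ≫ pullback.fst D.obj.hom g
      rw [hv', Category.assoc]
    · have e1 : ((liftsEquiv g D (k ≫ x₁)).symm
          (D.φ ((k ≫ x₀) ≫ g) ((k ≫ x₁) ≫ g) (pull_cond g j w _ _ h')
            (liftsEquiv g D (k ≫ x₀) v'))).1 ≫ pullback.snd D.obj.hom g = k ≫ x₁ :=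
        pullback.lift_snd _ _ _
      have e2 : ((liftsEquiv g D x₁).symm
          (D.φ (x₀ ≫ g) (x₁ ≫ g) (pull_cond g j w _ _ h)
            (liftsEquiv g D x₀ v))).1 ≫ pullback.snd D.obj.hom g = x₁ := pullback.lift_snd _ _ _
      show _ ≫ pullback.snd D.obj.hom g = (k ≫ _) ≫ pullback.snd D.obj.hom g
      exact e1.trans ((congrArg (fun t => k ≫ t) e2.symm).trans (Category.assoc k _ _).symm)
  φ_self T x v := by
    show (liftsEquiv g D x).symm (D.φ (x ≫ g) (x ≫ g) _ (liftsEquiv g D x v)) = v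
    rw [D.φ_self, Equiv.symm_apply_apply]
  φ_comp T x₀ x₁ x₂ h₀₁ h₁₂ v := by
    show (liftsEquiv g D x₂).symm (D.φ (x₁ ≫ g) (x₂ ≫ g) _ (liftsEquiv g D x₁
      ((liftsEquiv g D x₁).symm (D.φ (x₀ ≫ g) (x₁ ≫ g) _ (liftsEquiv g D x₀ v))))) =
      (liftsEquiv g D x₂).symm (D.φ (x₀ ≫ g) (x₂ ≫ g) _ (liftsEquiv g D x₀ v))
    rw [Equiv.apply_symm_apply, D.φ_comp]

theorem pullDD_hom : (pullDD g j w D).obj.hom = pullback.snd D.obj.hom g := rfl

theorem pullDD_phi_fst {T : Scheme.{u}} (x₀ x₁ : T ⟶ X') (h : x₀ ≫ p' = x₁ ≫ p')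
    (v : Lifts (pullDD g j w D).obj x₀) :
    ((pullDD g j w D).φ x₀ x₁ h v).1 ≫ pullback.fst D.obj.hom g =
      (D.φ (x₀ ≫ g) (x₁ ≫ g) (pull_cond g j w x₀ x₁ h) (liftsEquiv g D x₀ v)).1 :=
  pullback.lift_fst _ _ _

/-- a quotient of the part of the descent datum lying over `j : S₁ ⟶ S` -/
def LocalQuot {S₁ : Scheme.{u}} (j : S₁ ⟶ S) : Prop :=
  ∃ (U₁ : Scheme.{u}) (u₁ : U₁ ⟶ S₁) (q₁ : pullback (D.obj.hom ≫ p) j ⟶ U₁),
    IsPullback (pullback.fst (D.obj.hom ≫ p) j ≫ D.obj.hom) q₁ p (u₁ ≫ j) ∧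
    ∀ ⦃T : Scheme.{u}⦄ (x₀ x₁ : T ⟶ X) (h : x₀ ≫ p = x₁ ≫ p) (v : Lifts D.obj x₀)
      (v₁ w₁ : T ⟶ pullback (D.obj.hom ≫ p) j),
      v₁ ≫ pullback.fst (D.obj.hom ≫ p) j = v.1 →
      w₁ ≫ pullback.fst (D.obj.hom ≫ p) j = (D.φ x₀ x₁ h v).1 →
      v₁ ≫ pullback.snd (D.obj.hom ≫ p) j = w₁ ≫ pullback.snd (D.obj.hom ≫ p) j →
      w₁ ≫ q₁ = v₁ ≫ q₁

end Groth.Agent.Lib.Helper28.EffDesc
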