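import Groth.Agent.Lib.Helper28.EffDesc.Section
import Groth.Agent.Lib.Helper28.EffDesc.Transfer

/-!
# Effective descent (helper28): passing to a smaller cover

Let `D` be a descent datum relative to `p : X ⟶ S` and `g : X₀ ⟶ X` a morphism such that `p₀ = g ≫ p` is still an
fppf cover.  A cartesian invariant quotient of the restriction of `D` to `X₀` (relative to `p₀`) is a cartesian
invariant quotient of `D`.
-/

set_option autoImplicit false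
set_option maxHeartbeats 3200000
set_option backward.isDefEq.respectTransparency false
set_option backward.isDefEq.respectTransparency.types false
universe u
open CategoryTheory CategoryTheory.Limits AlgebraicGeometry

namespace Groth.Agent.Lib.Helper28.EffDesc

open Desc

variable {X S X₀ : Scheme.{u}} {p : X ⟶ S} (g : X₀ ⟶ X) (p₀ : X₀ ⟶ S) (w : p₀ ≫ 𝟙 S = g ≫ p)
  (D : SchDD p)

theorem transfer_cover [Flat p₀] [Surjective p₀] [LocallyOfFinitePresentation p₀]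
    {U : Scheme.{u}} (u : U ⟶ S) (q₀ : (pullDD g (𝟙 S) w D).obj.left ⟶ U)
    (hpb₀ : IsPullback (pullDD g (𝟙 S) w D).obj.hom q₀ p₀ u)
    (hinv₀ : IsInv (pullDD g (𝟙 S) w D) q₀) :
    ∃ q : D.obj.left ⟶ U, IsPullback D.obj.hom q p u ∧ IsInv D q := by
  have hw : p₀ = g ≫ p := by rw [← w, Category.comp_id]
  have hcond : pullback.fst D.obj.hom g ≫ D.obj.hom = pullback.snd D.obj.hom g ≫ g :=
    pullback.condition
  have hpbw : pullback.snd D.obj.hom g ≫ p₀ = q₀ ≫ u := hpb₀.w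
  have hpg : ∀ {Z : Scheme.{u}} (y₁ y₂ : Z ⟶ X₀), y₁ ≫ p₀ = y₂ ≫ p₀ →
      (y₁ ≫ g) ≫ p = (y₂ ≫ g) ≫ p := by
    intro Z y₁ y₂ h
    rw [Category.assoc, Category.assoc, ← hw, h]
  have hwc : ∀ {Z : Scheme.{u}} (k : Z ⟶ X₀), k ≫ p₀ = (k ≫ g) ≫ p := by
    intro Z k
    rw [Category.assoc, ← hw]
  -- the gluing maps of the restricted datum in terms of those of `D`
  have K1 : ∀ {Z : Scheme.{u}} (y₁ y₂ : Z ⟶ X₀) (h : y₁ ≫ p₀ = y₂ ≫ p₀)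
      (h' : (y₁ ≫ g) ≫ p = (y₂ ≫ g) ≫ p) (c : Lifts (pullDD g (𝟙 S) w D).obj y₁)
      (v : Lifts D.obj (y₁ ≫ g)), v.1 = c.1 ≫ pullback.fst D.obj.hom g →
      ((pullDD g (𝟙 S) w D).φ y₁ y₂ h c).1 ≫ pullback.fst D.obj.hom g =
        (D.φ (y₁ ≫ g) (y₂ ≫ g) h' v).1 := by
    intro Z y₁ y₂ h h' c v hv
    rw [pullDD_phi_fst]
    exact phi_congr D rfl rfl _ h' _ _ hv.symm
  have K2 : ∀ {Z : Scheme.{u}} (y₁ y₂ : Z ⟶ X₀) (h : y₁ ≫ p₀ = y₂ ≫ p₀)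
      (h' : (y₁ ≫ g) ≫ p = (y₂ ≫ g) ≫ p) (c₁ c₂ : Z ⟶ pullback D.obj.hom g)
      (_ : c₁ ≫ pullback.snd D.obj.hom g = y₁) (_ : c₂ ≫ pullback.snd D.obj.hom g = y₂)
      (v : Lifts D.obj (y₁ ≫ g)), v.1 = c₁ ≫ pullback.fst D.obj.hom g →
      c₂ ≫ pullback.fst D.obj.hom g = (D.φ (y₁ ≫ g) (y₂ ≫ g) h' v).1 → c₂ ≫ q₀ = c₁ ≫ q₀ := by
    intro Z y₁ y₂ h h' c₁ c₂ hc₁ hc₂ v hv hrel
    obtain ⟨cc, hcc⟩ : ∃ cc : Lifts (pullDD g (𝟙 S) w D).obj y₁, cc.1 = c₁ := ⟨⟨c₁, hc₁⟩, rfl⟩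
    have e : ((pullDD g (𝟙 S) w D).φ y₁ y₂ h cc).1 = c₂ := by
      apply pullback.hom_ext
      · exact (K1 y₁ y₂ h h' cc v (by rw [hcc]; exact hv)).trans hrel.symm
      · exact (phi_hom (pullDD g (𝟙 S) w D) y₁ y₂ h cc).trans hc₂.symm
    have := hinv₀ y₁ y₂ h cc
    rw [e, hcc] at this
    exact this
  have K3 : ∀ {Z : Scheme.{u}} (y₁ y₂ : Z ⟶ X₀) (h : y₁ ≫ p₀ = y₂ ≫ p₀)
      (h' : (y₁ ≫ g) ≫ p = (y₂ ≫ g) ≫ p) (c₁ c₂ : Z ⟶ pullback D.obj.hom g)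
      (_ : c₁ ≫ pullback.snd D.obj.hom g = y₁) (_ : c₂ ≫ pullback.snd D.obj.hom g = y₂)
      (v : Lifts D.obj (y₁ ≫ g)), v.1 = c₁ ≫ pullback.fst D.obj.hom g →
      c₁ ≫ q₀ = c₂ ≫ q₀ → c₂ ≫ pullback.fst D.obj.hom g = (D.φ (y₁ ≫ g) (y₂ ≫ g) h' v).1 := by
    intro Z y₁ y₂ h h' c₁ c₂ hc₁ hc₂ v hv hq
    obtain ⟨cc, hcc⟩ : ∃ cc : Lifts (pullDD g (𝟙 S) w D).obj y₁, cc.1 = c₁ := ⟨⟨c₁, hc₁⟩, rfl⟩
    have e : ((pullDD g (𝟙 S) w D).φ y₁ y₂ h cc).1 = c₂ := by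
      apply hpb₀.hom_ext
      · exact (phi_hom (pullDD g (𝟙 S) w D) y₁ y₂ h cc).trans hc₂.symm
      · have := hinv₀ y₁ y₂ h cc
        rw [hcc] at this
        exact this.trans hq
    rw [← e]
    exact K1 y₁ y₂ h h' cc v (by rw [hcc]; exact hv)
  -- the total space of the cover `V ×_S X₀ ⟶ V`
  have hP : (pullback.fst (D.obj.hom ≫ p) p₀ ≫ D.obj.hom) ≫ p =
      (pullback.snd (D.obj.hom ≫ p) p₀ ≫ g) ≫ p :=
    (Category.assoc _ _ _).trans (pullback.condition.trans (hwc _))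
  obtain ⟨m, hm⟩ : ∃ m : pullback (D.obj.hom ≫ p) p₀ ⟶ D.obj.left,
      m = (D.φ _ _ hP ⟨pullback.fst (D.obj.hom ≫ p) p₀, rfl⟩).1 := ⟨_, rfl⟩
  have hma : m ≫ D.obj.hom = pullback.snd (D.obj.hom ≫ p) p₀ ≫ g := by
    rw [hm]
    exact phi_hom D _ _ hP _
  have hmt : ∀ {T : Scheme.{u}} (z : T ⟶ pullback (D.obj.hom ≫ p) p₀) (x₀ x₁ : T ⟶ X)
      (h : x₀ ≫ p = x₁ ≫ p) (v : Lifts D.obj x₀), z ≫ pullback.fst (D.obj.hom ≫ p) p₀ = v.1 →
      z ≫ pullback.snd (D.obj.hom ≫ p) p₀ ≫ g = x₁ → z ≫ m = (D.φ x₀ x₁ h v).1 := by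
    intro T z x₀ x₁ h v hv hx₁
    have hx₀ : z ≫ pullback.fst (D.obj.hom ≫ p) p₀ ≫ D.obj.hom = x₀ := by
      rw [← Category.assoc, hv]
      exact v.2
    rw [hm]
    exact (phi_natural' D z _ _ hP x₀ x₁ hx₀ hx₁ h ⟨pullback.fst (D.obj.hom ≫ p) p₀, rfl⟩ v
      hv.symm).symm
  obtain ⟨t, ht1, ht2⟩ : ∃ t : pullback (D.obj.hom ≫ p) p₀ ⟶ pullback D.obj.hom g,
      t ≫ pullback.fst D.obj.hom g = m ∧
      t ≫ pullback.snd D.obj.hom g = pullback.snd (D.obj.hom ≫ p) p₀ :=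
    ⟨pullback.lift m _ hma, pullback.lift_fst _ _ _, pullback.lift_snd _ _ _⟩
  have : Flat (pullback.fst (D.obj.hom ≫ p) p₀) :=
    MorphismProperty.pullback_fst (P := @Flat) _ _ inferInstance
  have : Surjective (pullback.fst (D.obj.hom ≫ p) p₀) :=
    MorphismProperty.pullback_fst (P := @Surjective) _ _ inferInstance
  have : LocallyOfFinitePresentation (pullback.fst (D.obj.hom ≫ p) p₀) :=
    MorphismProperty.pullback_fst (P := @LocallyOfFinitePresentation) _ _ inferInstance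
  have hepi : Epi (pullback.fst (D.obj.hom ≫ p) p₀) := Flat.epi_of_flat_of_surjective _
  -- descending `t ≫ q₀`
  have hcompat : ∀ {Z : Scheme.{u}} (g₁ g₂ : Z ⟶ pullback (D.obj.hom ≫ p) p₀),
      g₁ ≫ pullback.fst (D.obj.hom ≫ p) p₀ = g₂ ≫ pullback.fst (D.obj.hom ≫ p) p₀ →
      g₁ ≫ t ≫ q₀ = g₂ ≫ t ≫ q₀ := by
    intro Z g₁ g₂ hg
    have h12 : (g₁ ≫ pullback.snd (D.obj.hom ≫ p) p₀) ≫ p₀ =
        (g₂ ≫ pullback.snd (D.obj.hom ≫ p) p₀) ≫ p₀ := by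
      have := congrArg (fun k => k ≫ D.obj.hom ≫ p) hg
      simpa only [Category.assoc, pullback.condition] using this
    obtain ⟨vv, hvv⟩ : ∃ vv : Lifts D.obj (g₁ ≫ pullback.fst (D.obj.hom ≫ p) p₀ ≫ D.obj.hom),
        vv.1 = g₁ ≫ pullback.fst (D.obj.hom ≫ p) p₀ := ⟨⟨_, Category.assoc _ _ _⟩, rfl⟩
    have hx1 : (g₁ ≫ pullback.fst (D.obj.hom ≫ p) p₀ ≫ D.obj.hom) ≫ p =
        ((g₁ ≫ pullback.snd (D.obj.hom ≫ p) p₀) ≫ g) ≫ p := by
      have := congrArg (fun k => g₁ ≫ k) hP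
      simpa only [Category.assoc] using this
    have e1 : g₁ ≫ m = (D.φ _ _ hx1 vv).1 := hmt g₁ _ _ hx1 vv hvv.symm (Category.assoc _ _ _).symm
    have e2 : g₂ ≫ m = (D.φ _ _ (hx1.trans (hpg _ _ h12)) vv).1 :=
      hmt g₂ _ _ _ vv (hg.symm.trans hvv.symm) (Category.assoc _ _ _).symm
    have key := K2 _ _ h12 (hpg _ _ h12) (g₁ ≫ t) (g₂ ≫ t) (by rw [Category.assoc, ht2])
      (by rw [Category.assoc, ht2]) (D.φ _ _ hx1 vv)
      (((Category.assoc g₁ t _).trans (congrArg (fun k => g₁ ≫ k) ht1)).trans e1).symm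
      (((Category.assoc g₂ t _).trans (congrArg (fun k => g₂ ≫ k) ht1)).trans
        (e2.trans (congrArg Subtype.val (D.φ_comp _ _ _ hx1 (hpg _ _ h12) vv).symm)))
    simp only [Category.assoc] at key
    exact key.symm
  obtain ⟨q, hq⟩ : ∃ q : D.obj.left ⟶ U, pullback.fst (D.obj.hom ≫ p) p₀ ≫ q = t ≫ q₀ :=
    ⟨EffectiveEpi.desc (pullback.fst (D.obj.hom ≫ p) p₀) (t ≫ q₀)
      (fun g₁ g₂ hg => hcompat g₁ g₂ hg), EffectiveEpi.fac _ _ _⟩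
  -- the value of `q` on points
  have hQ : ∀ {T : Scheme.{u}} (x : T ⟶ X) (y : T ⟶ X₀) (hy : x ≫ p = (y ≫ g) ≫ p)
      (v : Lifts D.obj x) (c : T ⟶ pullback D.obj.hom g),
      c ≫ pullback.fst D.obj.hom g = (D.φ x (y ≫ g) hy v).1 → c ≫ pullback.snd D.obj.hom g = y →
      v.1 ≫ q = c ≫ q₀ := by
    intro T x y hy v c hc1 hc2
    have hv2 : v.1 ≫ D.obj.hom = x := v.2
    have hzc : v.1 ≫ D.obj.hom ≫ p = y ≫ p₀ := by
      rw [← Category.assoc, hv2]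
      exact hy.trans (hwc y).symm
    obtain ⟨z, hz1, hz2⟩ : ∃ z : T ⟶ pullback (D.obj.hom ≫ p) p₀,
        z ≫ pullback.fst (D.obj.hom ≫ p) p₀ = v.1 ∧ z ≫ pullback.snd (D.obj.hom ≫ p) p₀ = y :=
      ⟨pullback.lift v.1 y hzc, pullback.lift_fst _ _ _, pullback.lift_snd _ _ _⟩
    have hzt : z ≫ t = c := by
      apply pullback.hom_ext
      · rw [Category.assoc, ht1, hc1]
        exact hmt z x (y ≫ g) hy v hz1 (by rw [← Category.assoc, hz2])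
      · rw [Category.assoc, ht2, hz2, hc2]
    rw [← hz1, Category.assoc, hq, ← Category.assoc, hzt]
  -- covers of test schemes
  have hcover : ∀ {T : Scheme.{u}} (x : T ⟶ X), ∃ (T' : Scheme.{u}) (τ : T' ⟶ T) (y : T' ⟶ X₀),
      Flat τ ∧ Surjective τ ∧ LocallyOfFinitePresentation τ ∧ (τ ≫ x) ≫ p = (y ≫ g) ≫ p := by
    intro T x
    refine ⟨pullback (x ≫ p) p₀, pullback.fst (x ≫ p) p₀, pullback.snd (x ≫ p) p₀,
      MorphismProperty.pullback_fst (P := @Flat) _ _ inferInstance,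
      MorphismProperty.pullback_fst (P := @Surjective) _ _ inferInstance,
      MorphismProperty.pullback_fst (P := @LocallyOfFinitePresentation) _ _ inferInstance, ?_⟩
    exact (Category.assoc _ _ _).trans (pullback.condition.trans (hwc _))
  refine ⟨q, ?_, ?_⟩
  · refine isPullback_of_ex_uniq ?_ ?_ ?_
    · rw [← cancel_epi (pullback.fst (D.obj.hom ≫ p) p₀), pullback.condition, ← Category.assoc, hq,
        Category.assoc, ← hpbw, ← Category.assoc, ht2]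
    · -- existence
      intro T x yU hxy
      obtain ⟨T', τ, y, hτ1, hτ2, hτ3, hτy⟩ := hcover x
      have hτepi : Epi τ := Flat.epi_of_flat_of_surjective τ
      have hc₀ : y ≫ p₀ = (τ ≫ yU) ≫ u :=
        (hwc y).trans (hτy.symm.trans ((Category.assoc _ _ _).trans
          ((congrArg (fun k => τ ≫ k) hxy).trans (Category.assoc _ _ _).symm)))
      obtain ⟨v₀, hv₀1, hv₀2⟩ : ∃ v₀ : T' ⟶ pullback D.obj.hom g,
          v₀ ≫ pullback.snd D.obj.hom g = y ∧ v₀ ≫ q₀ = τ ≫ yU :=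
        ⟨hpb₀.lift y (τ ≫ yU) hc₀, hpb₀.lift_fst _ _ _, hpb₀.lift_snd _ _ _⟩
      obtain ⟨v', hv'⟩ : ∃ v' : Lifts D.obj (y ≫ g), v'.1 = v₀ ≫ pullback.fst D.obj.hom g := by
        refine ⟨⟨v₀ ≫ pullback.fst D.obj.hom g, ?_⟩, rfl⟩
        rw [Category.assoc, hcond, ← Category.assoc, hv₀1]
      obtain ⟨f', hf'⟩ : ∃ f' : T' ⟶ D.obj.left, f' = (D.φ (y ≫ g) (τ ≫ x) hτy.symm v').1 :=
        ⟨_, rfl⟩
      have hf'a : f' ≫ D.obj.hom = τ ≫ x := by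
        rw [hf']
        exact phi_hom D _ _ hτy.symm _
      have hcompat' : ∀ {Z : Scheme.{u}} (g₁ g₂ : Z ⟶ T'), g₁ ≫ τ = g₂ ≫ τ →
          g₁ ≫ f' = g₂ ≫ f' := by
        intro Z g₁ g₂ hg
        have h12 : (g₁ ≫ y) ≫ p₀ = (g₂ ≫ y) ≫ p₀ := by
          have e : ∀ k : Z ⟶ T', (k ≫ y) ≫ p₀ = (k ≫ τ) ≫ x ≫ p := by
            intro k
            have := congrArg (fun m => k ≫ m) hτy
            rw [hwc]
            simpa only [Category.assoc] using this.symm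
          rw [e, e, hg]
        obtain ⟨vv₁, hvv₁⟩ : ∃ vv₁ : Lifts D.obj ((g₁ ≫ y) ≫ g), vv₁.1 = g₁ ≫ v'.1 := by
          refine ⟨⟨g₁ ≫ v'.1, ?_⟩, rfl⟩
          have e : v'.1 ≫ D.obj.hom = y ≫ g := v'.2
          simp only [Category.assoc]
          rw [e]
        have hr := K3 _ _ h12 (hpg _ _ h12) (g₁ ≫ v₀) (g₂ ≫ v₀)
          (by rw [Category.assoc, hv₀1]) (by rw [Category.assoc, hv₀1]) vv₁
          (by rw [hvv₁, hv', Category.assoc])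
          (by
            simp only [Category.assoc, hv₀2]
            simpa only [Category.assoc] using congrArg (fun k => k ≫ yU) hg)
        have hx1 : ((g₁ ≫ y) ≫ g) ≫ p = (g₁ ≫ τ ≫ x) ≫ p := by
          have := congrArg (fun k => g₁ ≫ k) hτy.symm
          simpa only [Category.assoc] using this
        have e1 : (D.φ _ _ hx1 vv₁).1 = g₁ ≫ f' := by
          rw [hf']
          exact phi_natural' D g₁ (y ≫ g) (τ ≫ x) hτy.symm _ _ (Category.assoc _ _ _).symm rfl hx1 v'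
            vv₁ hvv₁
        obtain ⟨vv₂, hvv₂⟩ : ∃ vv₂ : Lifts D.obj ((g₂ ≫ y) ≫ g),
            vv₂ = D.φ _ _ (hpg _ _ h12) vv₁ := ⟨_, rfl⟩
        have hvv₂' : vv₂.1 = g₂ ≫ v'.1 := by
          rw [hvv₂, ← hr, hv', Category.assoc]
        have hx2 : ((g₂ ≫ y) ≫ g) ≫ p = (g₁ ≫ τ ≫ x) ≫ p := (hpg _ _ h12).symm.trans hx1
        have e2 : (D.φ _ _ hx2 vv₂).1 = g₂ ≫ f' := by
          rw [hf']
          exact phi_natural' D g₂ (y ≫ g) (τ ≫ x) hτy.symm _ _ (Category.assoc _ _ _).symm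
            (by simpa only [Category.assoc] using congrArg (fun k => k ≫ x) hg.symm) hx2 v' vv₂ hvv₂'
        rw [← e1, ← e2, hvv₂, D.φ_comp]
      have : Flat τ := hτ1
      have : Surjective τ := hτ2
      have : LocallyOfFinitePresentation τ := hτ3
      obtain ⟨l, hl⟩ : ∃ l : T ⟶ D.obj.left, τ ≫ l = f' :=
        ⟨EffectiveEpi.desc τ f' (fun g₁ g₂ hg => hcompat' g₁ g₂ hg), EffectiveEpi.fac _ _ _⟩
      refine ⟨l, ?_, ?_⟩
      · rw [← cancel_epi τ, ← Category.assoc, hl, hf'a]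
      · rw [← cancel_epi τ, ← Category.assoc, hl, ← hv₀2]
        obtain ⟨vf, hvf⟩ : ∃ vf : Lifts D.obj (τ ≫ x), vf = D.φ (y ≫ g) (τ ≫ x) hτy.symm v' :=
          ⟨_, rfl⟩
        have hvf1 : vf.1 = f' := by rw [hvf, hf']
        have := hQ (τ ≫ x) y hτy vf v₀ (by rw [hvf, D.φ_comp, D.φ_self, hv']) hv₀1
        rw [hvf1] at this
        exact this
    · -- uniqueness
      intro T l l' h1 h2
      obtain ⟨T', τ, y, hτ1, hτ2, hτ3, hτy⟩ := hcover (l ≫ D.obj.hom)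
      have hτepi : Epi τ := Flat.epi_of_flat_of_surjective τ
      obtain ⟨vl, hvl⟩ : ∃ vl : Lifts D.obj (τ ≫ l ≫ D.obj.hom), vl.1 = τ ≫ l :=
        ⟨⟨τ ≫ l, Category.assoc _ _ _⟩, rfl⟩
      obtain ⟨vl', hvl'⟩ : ∃ vl' : Lifts D.obj (τ ≫ l ≫ D.obj.hom), vl'.1 = τ ≫ l' :=
        ⟨⟨τ ≫ l', by rw [Category.assoc, ← h1]⟩, rfl⟩
      obtain ⟨c, hc1, hc2⟩ : ∃ c : T' ⟶ pullback D.obj.hom g,
          c ≫ pullback.fst D.obj.hom g = (D.φ _ _ hτy vl).1 ∧ c ≫ pullback.snd D.obj.hom g = y :=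
        ⟨pullback.lift _ y (phi_hom D _ _ hτy vl), pullback.lift_fst _ _ _, pullback.lift_snd _ _ _⟩
      obtain ⟨c', hc'1, hc'2⟩ : ∃ c' : T' ⟶ pullback D.obj.hom g,
          c' ≫ pullback.fst D.obj.hom g = (D.φ _ _ hτy vl').1 ∧
          c' ≫ pullback.snd D.obj.hom g = y :=
        ⟨pullback.lift _ y (phi_hom D _ _ hτy vl'), pullback.lift_fst _ _ _, pullback.lift_snd _ _ _⟩
      have e1 := hQ _ y hτy vl c hc1 hc2
      have e2 := hQ _ y hτy vl' c' hc'1 hc'2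
      have hcc : c = c' := by
        apply hpb₀.hom_ext
        · exact hc2.trans hc'2.symm
        · rw [← e1, ← e2, hvl, hvl', Category.assoc, Category.assoc, h2]
      have e3 : D.φ _ _ hτy vl = D.φ _ _ hτy vl' :=
        Subtype.ext (hc1.symm.trans ((congrArg (fun k => k ≫ pullback.fst D.obj.hom g) hcc).trans hc'1))
      have e4 : vl = vl' := (D.φ _ _ hτy).injective e3
      rw [← cancel_epi τ, ← hvl, ← hvl', e4]
  · -- invariance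
    intro T x₀ x₁ h v
    obtain ⟨T', τ, y, hτ1, hτ2, hτ3, hτy⟩ := hcover x₀
    have hτepi : Epi τ := Flat.epi_of_flat_of_surjective τ
    have h' : (τ ≫ x₀) ≫ p = (τ ≫ x₁) ≫ p := by
      rw [Category.assoc, Category.assoc, h]
    obtain ⟨v', hv'⟩ : ∃ v' : Lifts D.obj (τ ≫ x₀), v'.1 = τ ≫ v.1 := by
      refine ⟨⟨τ ≫ v.1, ?_⟩, rfl⟩
      have e : v.1 ≫ D.obj.hom = x₀ := v.2
      rw [Category.assoc, e]
    obtain ⟨c, hc1, hc2⟩ : ∃ c : T' ⟶ pullback D.obj.hom g,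
        c ≫ pullback.fst D.obj.hom g = (D.φ _ _ hτy v').1 ∧ c ≫ pullback.snd D.obj.hom g = y :=
      ⟨pullback.lift _ y (phi_hom D _ _ hτy v'), pullback.lift_fst _ _ _, pullback.lift_snd _ _ _⟩
    have e1 := hQ _ y hτy v' c hc1 hc2
    obtain ⟨w', hw'⟩ : ∃ w' : Lifts D.obj (τ ≫ x₁), w' = D.φ _ _ h' v' := ⟨_, rfl⟩
    have hw'1 : w'.1 = τ ≫ (D.φ x₀ x₁ h v).1 := by
      rw [hw']
      exact D.φ_natural τ x₀ x₁ h h' v v' hv'
    have e2 := hQ _ y (h'.symm.trans hτy) w' c (by rw [hc1, hw', D.φ_comp]) hc2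
    rw [← cancel_epi τ]
    calc τ ≫ (D.φ x₀ x₁ h v).1 ≫ q = w'.1 ≫ q := by rw [hw'1, Category.assoc]
      _ = c ≫ q₀ := e2
      _ = v'.1 ≫ q := e1.symm
      _ = τ ≫ v.1 ≫ q := by rw [hv', Category.assoc]

end Groth.Agent.Lib.Helper28.EffDesc
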