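import Groth.Agent.Lib.Helper28.EffDesc.Basic
import Groth.Agent.Lib.Helper16.AffDescRing

/-!
# Effective descent (helper28): the affine case

For a flat ring map `A → B` and a descent datum relative to `Spec B ⟶ Spec A` whose total space is affine, the
quotient exists: there are an affine scheme `U` over `Spec A` and an invariant `q : V ⟶ U` making the square
cartesian.  The ring-level input is `Helper16.AffDesc.isPushout_descAlg`.
-/

set_option autoImplicit false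
set_option maxHeartbeats 1600000
set_option backward.isDefEq.respectTransparency false
set_option backward.isDefEq.respectTransparency.types false
universe u
open CategoryTheory CategoryTheory.Limits AlgebraicGeometry TensorProduct

namespace Groth.Agent.Lib.Helper28.EffDesc

open Desc Groth.Agent.Lib.Helper16.AffDesc

theorem isPullback_Spec_of_isPushout {R A B P : CommRingCat.{u}} {f : R ⟶ A} {g : R ⟶ B}
    {inl : A ⟶ P} {inr : B ⟶ P} (h : IsPushout f g inl inr) :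
    IsPullback (Spec.map inl) (Spec.map inr) (Spec.map f) (Spec.map g) := by
  have := h.op.map Scheme.Spec
  exact this.flip

section

variable {A B C : Type u} [CommRing A] [CommRing B] [CommRing C] [Algebra A B] [Algebra B C]
  [Algebra A C] [IsScalarTower A B C]

theorem part1_aux [Module.Flat A B]
    (p : Spec (CommRingCat.of B) ⟶ Spec (CommRingCat.of A))
    (hp : p = Spec.map (CommRingCat.ofHom (algebraMap A B))) (D : SchDD p)
    (e : D.obj.left ≅ Spec (CommRingCat.of C))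
    (he : e.inv ≫ D.obj.hom = Spec.map (CommRingCat.ofHom (algebraMap B C))) :
    ∃ (U : Scheme.{u}) (u : U ⟶ Spec (CommRingCat.of A)) (q : D.obj.left ⟶ U), IsAffine U ∧
      IsPullback D.obj.hom q p u ∧ IsInv D q := by
  obtain ⟨sB, hsB⟩ : ∃ sB : Spec (CommRingCat.of C) ⟶ Spec (CommRingCat.of B),
      sB = Spec.map (CommRingCat.ofHom (algebraMap B C)) := ⟨_, rfl⟩
  rw [← hsB] at he
  have ha : D.obj.hom = e.hom ≫ sB := by rw [← he, Iso.hom_inv_id_assoc]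
  -- the tensor product square
  have Ptens : IsPullback
      (Spec.map (CommRingCat.ofHom (S := C ⊗[A] B) Algebra.TensorProduct.includeLeftRingHom))
      (Spec.map (CommRingCat.ofHom (S := C ⊗[A] B) Algebra.TensorProduct.includeRight.toRingHom))
      (Spec.map (CommRingCat.ofHom (algebraMap A C))) p := by
    rw [hp]
    exact isPullback_Spec_of_isPushout (CommRingCat.isPushout_tensorProduct A C B)
  have sAC : Spec.map (CommRingCat.ofHom (algebraMap A C)) = sB ≫ p := by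
    rw [hsB, hp, ← Spec.map_comp, ← CommRingCat.ofHom_comp, ← IsScalarTower.algebraMap_eq]
  obtain ⟨v₀', hv₀'⟩ : ∃ v₀' : Spec (CommRingCat.of (C ⊗[A] B)) ⟶ Spec (CommRingCat.of C),
      v₀' = Spec.map (CommRingCat.ofHom (S := C ⊗[A] B)
        Algebra.TensorProduct.includeLeftRingHom) := ⟨_, rfl⟩
  obtain ⟨x₁, hx₁⟩ : ∃ x₁ : Spec (CommRingCat.of (C ⊗[A] B)) ⟶ Spec (CommRingCat.of B),
      x₁ = Spec.map (CommRingCat.ofHom (S := C ⊗[A] B)
        Algebra.TensorProduct.includeRight.toRingHom) := ⟨_, rfl⟩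
  rw [← hv₀', ← hx₁, sAC] at Ptens
  -- the universal point
  have hx₀ : (v₀' ≫ e.inv) ≫ D.obj.hom = v₀' ≫ sB := by rw [Category.assoc, he]
  have h₀ : ((v₀' ≫ e.inv) ≫ D.obj.hom) ≫ p = x₁ ≫ p := by
    rw [hx₀, Category.assoc]
    exact Ptens.w
  obtain ⟨σV, hσV_def⟩ : ∃ σV : Spec (CommRingCat.of (C ⊗[A] B)) ⟶ D.obj.left,
      σV = (D.φ ((v₀' ≫ e.inv) ≫ D.obj.hom) x₁ h₀ ⟨v₀' ≫ e.inv, rfl⟩).1 := ⟨_, rfl⟩
  have hσV : σV ≫ D.obj.hom = x₁ := by rw [hσV_def]; exact phi_hom D _ _ h₀ _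
  -- the coaction
  obtain ⟨ρ₀, hρ₀⟩ : ∃ ρ₀ : CommRingCat.of C ⟶ CommRingCat.of (C ⊗[A] B),
      Spec.map ρ₀ = σV ≫ e.hom := ⟨Spec.preimage (σV ≫ e.hom), Spec.map_preimage _⟩
  have h1' : CommRingCat.ofHom (algebraMap B C) ≫ ρ₀ =
      CommRingCat.ofHom (S := C ⊗[A] B) Algebra.TensorProduct.includeRight.toRingHom := by
    apply Spec.map_injective
    rw [Spec.map_comp, hρ₀, ← hsB, ← hx₁, Category.assoc, ← ha, hσV]
  have h1 : ∀ b : B, ρ₀.hom (algebraMap B C b) = (1 : C) ⊗ₜ[A] b := by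
    intro b
    have := congrArg (fun f => f.hom b) h1'
    simpa using this
  let ρ : C →ₐ[A] C ⊗[A] B :=
    { toRingHom := ρ₀.hom
      commutes' := fun r => by
        show ρ₀.hom (algebraMap A C r) = algebraMap A (C ⊗[A] B) r
        rw [IsScalarTower.algebraMap_apply A B C, h1]
        exact (Algebra.TensorProduct.includeRight (R := A) (A := C) (B := B)).commutes r }
  have hρ : ∀ c, ρ c = ρ₀.hom c := fun _ => rfl
  have hρcat : CommRingCat.ofHom ρ.toRingHom = ρ₀ := rfl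
  -- counit
  have h2 : ∀ c, mu A B C (ρ c) = c := by
    obtain ⟨δ, hδ⟩ : ∃ δ : Spec (CommRingCat.of C) ⟶ Spec (CommRingCat.of (C ⊗[A] B)),
        δ = Spec.map (CommRingCat.ofHom (mu A B C).toRingHom) := ⟨_, rfl⟩
    have d1 : δ ≫ v₀' = 𝟙 _ := by
      rw [hδ, hv₀', ← Spec.map_comp, ← Spec.map_id]
      congr 1
      ext c
      simp [mu]
    have d2 : δ ≫ x₁ = sB := by
      rw [hδ, hx₁, hsB, ← Spec.map_comp]
      congr 1
      ext b
      simp [mu]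
    have k1 : (e.hom ≫ δ) ≫ (v₀' ≫ e.inv) = 𝟙 _ := by
      rw [Category.assoc, ← Category.assoc δ, d1, Category.id_comp, Iso.hom_inv_id]
    have k2 : (e.hom ≫ δ) ≫ ((v₀' ≫ e.inv) ≫ D.obj.hom) = D.obj.hom := by
      rw [← Category.assoc, k1, Category.id_comp]
    have k3 : (e.hom ≫ δ) ≫ x₁ = D.obj.hom := by
      rw [Category.assoc, d2, ha]
    have n := phi_natural' D (e.hom ≫ δ) _ x₁ h₀ D.obj.hom D.obj.hom k2 k3 rfl
      ⟨v₀' ≫ e.inv, rfl⟩ ⟨𝟙 _, Category.id_comp _⟩ k1.symm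
    rw [phi_self' D _ _ rfl rfl, ← hσV_def] at n
    have n' : δ ≫ σV ≫ e.hom = 𝟙 _ := by
      have : δ ≫ σV ≫ e.hom = e.inv ≫ ((e.hom ≫ δ) ≫ σV) ≫ e.hom := by
        simp only [Category.assoc, Iso.inv_hom_id_assoc]
      rw [this, ← n, Category.id_comp, Iso.inv_hom_id]
    have n'' : ρ₀ ≫ CommRingCat.ofHom (mu A B C).toRingHom = 𝟙 _ := by
      apply Spec.map_injective
      rw [Spec.map_comp, hρ₀, ← hδ, n', Spec.map_id]
    intro c
    have := congrArg (fun f => f.hom c) n''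
    rw [hρ c]
    simpa using this
  -- coassociativity
  have h3 : ∀ c, Algebra.TensorProduct.map ρ (AlgHom.id A B) (ρ c) =
      Algebra.TensorProduct.map (Algebra.TensorProduct.includeLeft : C →ₐ[A] C ⊗[A] B)
        (AlgHom.id A B) (ρ c) := by
    obtain ⟨g₀₁, hg₀₁⟩ : ∃ g₀₁ : Spec (CommRingCat.of ((C ⊗[A] B) ⊗[A] B)) ⟶
        Spec (CommRingCat.of (C ⊗[A] B)),
        g₀₁ = Spec.map (CommRingCat.ofHom (S := (C ⊗[A] B) ⊗[A] B)
          Algebra.TensorProduct.includeLeftRingHom) := ⟨_, rfl⟩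
    obtain ⟨g₁₂, hg₁₂⟩ : ∃ g₁₂ : Spec (CommRingCat.of ((C ⊗[A] B) ⊗[A] B)) ⟶
        Spec (CommRingCat.of (C ⊗[A] B)),
        g₁₂ = Spec.map (CommRingCat.ofHom
          (Algebra.TensorProduct.map ρ (AlgHom.id A B)).toRingHom) := ⟨_, rfl⟩
    obtain ⟨g₀₂, hg₀₂⟩ : ∃ g₀₂ : Spec (CommRingCat.of ((C ⊗[A] B) ⊗[A] B)) ⟶
        Spec (CommRingCat.of (C ⊗[A] B)),
        g₀₂ = Spec.map (CommRingCat.ofHom
          (Algebra.TensorProduct.map (Algebra.TensorProduct.includeLeft : C →ₐ[A] C ⊗[A] B)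
            (AlgHom.id A B)).toRingHom) := ⟨_, rfl⟩
    have R1 : g₁₂ ≫ v₀' = g₀₁ ≫ (σV ≫ e.hom) := by
      rw [hg₁₂, hv₀', hg₀₁, ← hρ₀, ← Spec.map_comp, ← Spec.map_comp, ← hρcat]
      congr 1
    have R2 : g₀₂ ≫ v₀' = g₀₁ ≫ v₀' := by
      rw [hg₀₂, hv₀', hg₀₁, ← Spec.map_comp, ← Spec.map_comp]
      congr 1
    have R3 : g₀₂ ≫ x₁ = g₁₂ ≫ x₁ := by
      rw [hg₀₂, hx₁, hg₁₂, ← Spec.map_comp, ← Spec.map_comp]
      congr 1
      ext b
      simp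
      rfl
    -- the three points
    have hw1 : g₀₁ ≫ σV = g₁₂ ≫ (v₀' ≫ e.inv) := by
      rw [← Category.assoc, R1, Category.assoc, Category.assoc, Iso.hom_inv_id, Category.comp_id]
    have e12 : g₁₂ ≫ ((v₀' ≫ e.inv) ≫ D.obj.hom) = g₀₁ ≫ x₁ := by
      rw [← Category.assoc, ← hw1, Category.assoc, hσV]
    have hw2 : g₀₁ ≫ (v₀' ≫ e.inv) = g₀₂ ≫ (v₀' ≫ e.inv) := by
      rw [← Category.assoc, ← Category.assoc, R2]
    have e02 : g₀₂ ≫ ((v₀' ≫ e.inv) ≫ D.obj.hom) = g₀₁ ≫ ((v₀' ≫ e.inv) ≫ D.obj.hom) := by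
      rw [← Category.assoc, ← hw2, Category.assoc]
    have h01 : (g₀₁ ≫ ((v₀' ≫ e.inv) ≫ D.obj.hom)) ≫ p = (g₀₁ ≫ x₁) ≫ p := by
      rw [Category.assoc, h₀, Category.assoc]
    have h12 : (g₀₁ ≫ x₁) ≫ p = (g₁₂ ≫ x₁) ≫ p := by
      rw [← e12, Category.assoc, h₀, Category.assoc]
    have l0 : (g₀₁ ≫ (v₀' ≫ e.inv)) ≫ D.obj.hom = g₀₁ ≫ ((v₀' ≫ e.inv) ≫ D.obj.hom) :=
      Category.assoc _ _ _
    have l1 : (g₀₁ ≫ σV) ≫ D.obj.hom = g₀₁ ≫ x₁ := by rw [Category.assoc, hσV]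
    have n1 := phi_natural' D g₀₁ _ x₁ h₀ _ _ rfl rfl h01 ⟨v₀' ≫ e.inv, rfl⟩
      ⟨g₀₁ ≫ (v₀' ≫ e.inv), l0⟩ rfl
    have n2 := phi_natural' D g₁₂ _ x₁ h₀ _ _ e12 rfl h12 ⟨v₀' ≫ e.inv, rfl⟩
      ⟨g₀₁ ≫ σV, l1⟩ hw1
    have n3 := phi_natural' D g₀₂ _ x₁ h₀ _ _ e02 R3 (h01.trans h12) ⟨v₀' ≫ e.inv, rfl⟩
      ⟨g₀₁ ≫ (v₀' ≫ e.inv), l0⟩ hw2
    rw [← hσV_def] at n1 n2 n3
    have hsub : D.φ _ _ h01 ⟨g₀₁ ≫ (v₀' ≫ e.inv), l0⟩ = ⟨g₀₁ ≫ σV, l1⟩ := Subtype.ext n1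
    have hcomp := D.φ_comp _ _ _ h01 h12 ⟨g₀₁ ≫ (v₀' ≫ e.inv), l0⟩
    rw [hsub] at hcomp
    have hfin : g₁₂ ≫ σV = g₀₂ ≫ σV := by
      rw [← n2, ← n3, hcomp]
    have hring : ρ₀ ≫ CommRingCat.ofHom (Algebra.TensorProduct.map ρ (AlgHom.id A B)).toRingHom =
        ρ₀ ≫ CommRingCat.ofHom (Algebra.TensorProduct.map
          (Algebra.TensorProduct.includeLeft : C →ₐ[A] C ⊗[A] B) (AlgHom.id A B)).toRingHom := by
      apply Spec.map_injective
      rw [Spec.map_comp, Spec.map_comp, hρ₀, ← hg₁₂, ← hg₀₂, ← Category.assoc, ← Category.assoc,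
        hfin]
    intro c
    have := congrArg (fun f => f.hom c) hring
    rw [hρ c]
    simpa using this
  -- the descended algebra
  have P := isPushout_descAlg ρ (fun b => (hρ _).trans (h1 b)) h2 h3
  have hP := isPullback_Spec_of_isPushout P
  rw [← hp, ← hsB] at hP
  refine ⟨Spec (CommRingCat.of (descAlg ρ)),
    Spec.map (CommRingCat.ofHom (algebraMap A (descAlg ρ))),
    e.hom ≫ Spec.map (CommRingCat.ofHom (descAlg ρ).val.toRingHom), inferInstance, ?_, ?_⟩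
  · refine IsPullback.of_iso hP.flip e.symm (Iso.refl _) (Iso.refl _) (Iso.refl _) ?_ ?_ ?_ ?_
    · simp only [Iso.refl_hom, Category.comp_id, Iso.symm_hom]
      exact he.symm
    · simp only [Iso.refl_hom, Category.comp_id, Iso.symm_hom, Iso.inv_hom_id_assoc]
    · simp
    · simp
  · intro T y₀ y₁ h v
    -- the classifying map to the universal point
    have hc : (v.1 ≫ e.hom) ≫ sB ≫ p = y₁ ≫ p := by
      have hva : v.1 ≫ D.obj.hom = v.1 ≫ e.hom ≫ sB := congrArg (fun t => v.1 ≫ t) ha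
      calc (v.1 ≫ e.hom) ≫ sB ≫ p = (v.1 ≫ D.obj.hom) ≫ p := by
            rw [hva]; simp only [Category.assoc]
        _ = y₀ ≫ p := by rw [v.2]
        _ = y₁ ≫ p := h
    have g1 : Ptens.lift (v.1 ≫ e.hom) y₁ hc ≫ v₀' = v.1 ≫ e.hom := Ptens.lift_fst _ _ _
    have g2 : Ptens.lift (v.1 ≫ e.hom) y₁ hc ≫ x₁ = y₁ := Ptens.lift_snd _ _ _
    obtain ⟨g, hg1, hg2⟩ : ∃ g : T ⟶ Spec (CommRingCat.of (C ⊗[A] B)),
        g ≫ v₀' = v.1 ≫ e.hom ∧ g ≫ x₁ = y₁ := ⟨_, g1, g2⟩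
    have k1 : v.1 = g ≫ (v₀' ≫ e.inv) := by
      rw [← Category.assoc, hg1, Category.assoc, Iso.hom_inv_id, Category.comp_id]
    have k2 : g ≫ ((v₀' ≫ e.inv) ≫ D.obj.hom) = y₀ := by
      rw [← Category.assoc, ← k1]
      exact v.2
    have n := phi_natural' D g _ x₁ h₀ y₀ y₁ k2 hg2 h ⟨v₀' ≫ e.inv, rfl⟩ v k1
    rw [← hσV_def] at n
    rw [n, k1]
    simp only [Category.assoc]
    congr 1
    -- `σ ≫ q₀ = v₀' ≫ q₀`
    rw [Iso.inv_hom_id_assoc, ← Category.assoc σV, ← hρ₀, hv₀', ← Spec.map_comp, ← Spec.map_comp]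
    congr 1
    ext m
    have hm : ρ (m : C) = (m : C) ⊗ₜ 1 := m.2
    simpa [hρ] using hm

end

end Groth.Agent.Lib.Helper28.EffDesc
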