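import Groth.Agent.Lib.Helper28.EffDesc.Transfer2
import Groth.Agent.Lib.Helper28.EffDesc.Affine

/-!
# Effective descent (helper28): local quotients over affine opens of the base
-/

set_option autoImplicit false
set_option maxHeartbeats 1600000
set_option backward.isDefEq.respectTransparency false
set_option backward.isDefEq.respectTransparency.types false
universe u
open CategoryTheory CategoryTheory.Limits AlgebraicGeometry

namespace Groth.Agent.Lib.Helper28.EffDesc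

open Desc

variable {X S : Scheme.{u}} {p : X ⟶ S} (D : SchDD p)

theorem LocalQuot.of_iso {S₁ S₂ : Scheme.{u}} (ε : S₁ ≅ S₂) (j : S₂ ⟶ S) (h : LocalQuot D j) :
    LocalQuot D (ε.hom ≫ j) := by
  obtain ⟨U, u, q, hpb, hinv⟩ := h
  have hθ0 : (D.obj.hom ≫ p) ≫ 𝟙 S = 𝟙 _ ≫ D.obj.hom ≫ p := by simp
  have hθ1 : (ε.hom ≫ j) ≫ 𝟙 S = ε.hom ≫ j := by simp
  obtain ⟨θ, hθfst, hθsnd, hθiso⟩ : ∃ θ : pullback (D.obj.hom ≫ p) (ε.hom ≫ j) ⟶
      pullback (D.obj.hom ≫ p) j,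
      θ ≫ pullback.fst (D.obj.hom ≫ p) j = pullback.fst (D.obj.hom ≫ p) (ε.hom ≫ j) ∧
      θ ≫ pullback.snd (D.obj.hom ≫ p) j = pullback.snd (D.obj.hom ≫ p) (ε.hom ≫ j) ≫ ε.hom ∧
      IsIso θ := by
    refine ⟨pullback.map (D.obj.hom ≫ p) (ε.hom ≫ j) (D.obj.hom ≫ p) j (𝟙 _) ε.hom (𝟙 _) hθ0 hθ1,
      ?_, ?_, inferInstance⟩
    · rw [pullback.lift_fst, Category.comp_id]
    · rw [pullback.lift_snd]
  refine ⟨U, u ≫ ε.inv, θ ≫ q, ?_, ?_⟩
  · have e1 : (u ≫ ε.inv) ≫ ε.hom ≫ j = u ≫ j := by simp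
    rw [e1]
    refine IsPullback.of_iso hpb (asIso θ).symm (Iso.refl _) (Iso.refl _) (Iso.refl _) ?_ ?_ ?_ ?_
    · simp only [Iso.refl_hom, Category.comp_id, Iso.symm_hom, asIso_inv, IsIso.eq_inv_comp]
      rw [← Category.assoc, hθfst]
    · simp
    · simp
    · simp
  · intro T x₀ x₁ h v v₁ w₁ hv₁ hw₁ hs
    rw [← Category.assoc, ← Category.assoc]
    refine hinv x₀ x₁ h v (v₁ ≫ θ) (w₁ ≫ θ) ?_ ?_ ?_
    · rw [Category.assoc, hθfst, hv₁]
    · rw [Category.assoc, hθfst, hw₁]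
    · rw [Category.assoc, Category.assoc, hθsnd, ← Category.assoc, ← Category.assoc, hs]

/-- a quotient exists over the spectrum of the sections over an affine open -/
theorem localQuot_fromSpec [Flat p] [Surjective p] [QuasiCompact p] [IsAffineHom D.obj.hom]
    {W : S.Opens} (hW : IsAffineOpen W) : LocalQuot D hW.fromSpec := by
  -- a surjection from an affine scheme onto `X ×_S Spec Γ(W)`
  haveI : CompactSpace ↑(pullback p hW.fromSpec) :=
    QuasiCompact.compactSpace_of_compactSpace (pullback.snd p hW.fromSpec)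
  obtain ⟨𝒰, h𝒰⟩ : ∃ 𝒰 : (pullback p hW.fromSpec).OpenCover,
      𝒰 = (pullback p hW.fromSpec).affineCover.finiteSubcover := ⟨_, rfl⟩
  haveI : Finite 𝒰.I₀ := by rw [h𝒰]; infer_instance
  haveI : ∀ i, IsAffine (𝒰.X i) := by rw [h𝒰]; infer_instance
  obtain ⟨r, hr⟩ : ∃ r : Spec Γ(∐ 𝒰.X, ⊤) ⟶ pullback p hW.fromSpec,
      r = (∐ 𝒰.X).isoSpec.inv ≫ Sigma.desc 𝒰.f := ⟨_, rfl⟩
  haveI : LocallyOfFinitePresentation (Sigma.desc 𝒰.f) :=
    IsZariskiLocalAtSource.sigmaDesc (fun _ => inferInstance)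
  haveI : Flat r := by rw [hr]; infer_instance
  haveI : Surjective r := by rw [hr]; infer_instance
  haveI : LocallyOfFinitePresentation r := by rw [hr]; infer_instance
  -- the square
  have w : (r ≫ pullback.snd p hW.fromSpec) ≫ hW.fromSpec = (r ≫ pullback.fst p hW.fromSpec) ≫ p := by
    rw [Category.assoc, Category.assoc, pullback.condition]
  haveI hah : IsAffineHom (pullback.snd D.obj.hom (r ≫ pullback.fst p hW.fromSpec)) :=
    MorphismProperty.pullback_snd (P := @IsAffineHom) _ _ inferInstance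
  haveI : IsAffine (pullDD (r ≫ pullback.fst p hW.fromSpec) hW.fromSpec w D).obj.left :=
    isAffine_of_isAffineHom (pullback.snd D.obj.hom (r ≫ pullback.fst p hW.fromSpec))
  -- ring-level data
  obtain ⟨αr, hαr⟩ : ∃ αr : Γ(S, W) ⟶ Γ(∐ 𝒰.X, ⊤),
      Spec.map αr = r ≫ pullback.snd p hW.fromSpec := ⟨Spec.preimage _, Spec.map_preimage _⟩
  obtain ⟨βr, hβr⟩ : ∃ βr : Γ(∐ 𝒰.X, ⊤) ⟶
      Γ((pullDD (r ≫ pullback.fst p hW.fromSpec) hW.fromSpec w D).obj.left, ⊤),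
      Spec.map βr = (pullDD (r ≫ pullback.fst p hW.fromSpec) hW.fromSpec w D).obj.left.isoSpec.inv ≫
        (pullDD (r ≫ pullback.fst p hW.fromSpec) hW.fromSpec w D).obj.hom :=
    ⟨Spec.preimage _, Spec.map_preimage _⟩
  letI alg1 : Algebra ↑Γ(S, W) ↑Γ(∐ 𝒰.X, ⊤) := αr.hom.toAlgebra
  letI alg2 : Algebra ↑Γ(∐ 𝒰.X, ⊤)
      ↑Γ((pullDD (r ≫ pullback.fst p hW.fromSpec) hW.fromSpec w D).obj.left, ⊤) := βr.hom.toAlgebra
  letI alg3 : Algebra ↑Γ(S, W)
      ↑Γ((pullDD (r ≫ pullback.fst p hW.fromSpec) hW.fromSpec w D).obj.left, ⊤) :=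
    (αr ≫ βr).hom.toAlgebra
  haveI : IsScalarTower ↑Γ(S, W) ↑Γ(∐ 𝒰.X, ⊤)
      ↑Γ((pullDD (r ≫ pullback.fst p hW.fromSpec) hW.fromSpec w D).obj.left, ⊤) :=
    IsScalarTower.of_algebraMap_eq (fun _ => rfl)
  have hflat : Flat (Spec.map αr) := by rw [hαr]; infer_instance
  haveI : Module.Flat ↑Γ(S, W) ↑Γ(∐ 𝒰.X, ⊤) :=
    (HasRingHomProperty.Spec_iff (P := @Flat)).mp hflat
  obtain ⟨U', u', q', -, hpb', hinv'⟩ :=
    part1_aux (A := ↑Γ(S, W)) (B := ↑Γ(∐ 𝒰.X, ⊤))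
      (C := ↑Γ((pullDD (r ≫ pullback.fst p hW.fromSpec) hW.fromSpec w D).obj.left, ⊤))
      (r ≫ pullback.snd p hW.fromSpec) hαr.symm
      (pullDD (r ≫ pullback.fst p hW.fromSpec) hW.fromSpec w D)
      (pullDD (r ≫ pullback.fst p hW.fromSpec) hW.fromSpec w D).obj.left.isoSpec hβr.symm
  exact transfer (r ≫ pullback.fst p hW.fromSpec) hW.fromSpec w D r rfl rfl u' q' hpb' hinv'

theorem localQuot_affineOpen [Flat p] [Surjective p] [QuasiCompact p] [IsAffineHom D.obj.hom]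
    {W : S.Opens} (hW : IsAffineOpen W) : LocalQuot D W.ι := by
  have := LocalQuot.of_iso D hW.isoSpec hW.fromSpec (localQuot_fromSpec D hW)
  rwa [hW.isoSpec_hom_fromSpec] at this

end Groth.Agent.Lib.Helper28.EffDesc
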