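import Groth.Agent.Lib.Helper28.EffDesc.Sat
import Groth.Agent.Lib.Helper28.EffDesc.TransferCover
import Groth.Agent.Lib.Helper28.EffDesc.Transfer2
import Groth.Agent.Lib.Helper28.EffDesc.Etale
import Groth.Agent.Lib.Helper28.EffDescF.Glue

/-!
# Effective descent (helper28): separated locally quasi-finite schemes along fppf morphisms

Descent data on separated, locally quasi-finite schemes are effective relative to any flat surjective morphism locally
of finite presentation.  Reduction to the fpqc case: localise on the base, refine the cover to an affine one, and cover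
the total space by quasi-compact stable opens (saturations of affine opens).
-/

set_option autoImplicit false
set_option maxHeartbeats 1600000
set_option backward.isDefEq.respectTransparency false
set_option backward.isDefEq.respectTransparency.types false
universe u
open CategoryTheory CategoryTheory.Limits AlgebraicGeometry

namespace Groth.Agent.Lib.Helper28.EffDesc

open Desc

variable {X S : Scheme.{u}} {p : X ⟶ S}

/-- an effective descent datum has a cartesian invariant quotient -/
theorem quot_of_effective (D : SchDD p) (U : Over S) (e : (toDD p).obj U ≅ D) :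
    ∃ q : D.obj.left ⟶ U.left, IsPullback D.obj.hom q p U.hom ∧ IsInv D q := by
  have hk1 : e.inv.hom.left ≫ e.hom.hom.left = 𝟙 _ := by
    have := congrArg (fun f : D ⟶ D => f.hom.left) e.inv_hom_id
    exact this
  have hk2 : e.hom.hom.left ≫ e.inv.hom.left = 𝟙 _ := by
    have := congrArg (fun f : (toDD p).obj U ⟶ (toDD p).obj U => f.hom.left) e.hom_inv_id
    exact this
  obtain ⟨k, hk⟩ : ∃ k : D.obj.left ≅ pullback p U.hom, k.hom = e.inv.hom.left :=
    ⟨⟨e.inv.hom.left, e.hom.hom.left, hk1, hk2⟩, rfl⟩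
  have hkfst : e.inv.hom.left ≫ pullback.fst p U.hom = D.obj.hom := Over.w e.inv.hom
  refine ⟨e.inv.hom.left ≫ pullback.snd p U.hom, ?_, ?_⟩
  · refine IsPullback.of_iso_pullback ⟨?_⟩ k (by rw [hk, hkfst]) (by rw [hk])
    rw [← hkfst, Category.assoc, Category.assoc, pullback.condition]
  · intro T x₀ x₁ h v
    obtain ⟨c, hc⟩ : ∃ c : Lifts ((toDD p).obj U).obj x₀, c.1 = v.1 ≫ e.inv.hom.left := by
      refine ⟨⟨v.1 ≫ e.inv.hom.left, ?_⟩, rfl⟩
      rw [Category.assoc, Over.w e.inv.hom]
      exact v.2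
    have hB := e.inv.comm x₀ x₁ h v c hc
    have hcan : (((toDD p).obj U).φ x₀ x₁ h c).1 ≫ pullback.snd p U.hom =
        c.1 ≫ pullback.snd p U.hom := by
      change (canMap p U x₀ x₁ h c).1 ≫ _ = _
      rw [canMap_val, pullback.lift_snd]
    calc (D.φ x₀ x₁ h v).1 ≫ e.inv.hom.left ≫ pullback.snd p U.hom
        = (((toDD p).obj U).φ x₀ x₁ h c).1 ≫ pullback.snd p U.hom := by
          rw [hB, Category.assoc]
      _ = c.1 ≫ pullback.snd p U.hom := hcan
      _ = v.1 ≫ e.inv.hom.left ≫ pullback.snd p U.hom := by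
          rw [hc, Category.assoc]

section PullInst

variable {X' S' : Scheme.{u}} {p' : X' ⟶ S'} (g : X' ⟶ X) (j : S' ⟶ S) (w : p' ≫ j = g ≫ p)
  (D : SchDD p)

theorem pullDD_isSeparated [IsSeparated D.obj.hom] : IsSeparated (pullDD g j w D).obj.hom :=
  MorphismProperty.pullback_snd (P := @IsSeparated) D.obj.hom g inferInstance

theorem pullDD_locallyQuasiFinite [LocallyQuasiFinite D.obj.hom] :
    LocallyQuasiFinite (pullDD g j w D).obj.hom :=
  MorphismProperty.pullback_snd (P := @LocallyQuasiFinite) D.obj.hom g inferInstance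

theorem pullDD_locallyOfFiniteType [LocallyOfFiniteType D.obj.hom] :
    LocallyOfFiniteType (pullDD g j w D).obj.hom :=
  MorphismProperty.pullback_snd (P := @LocallyOfFiniteType) D.obj.hom g inferInstance

end PullInst

/-- fpqc + fppf cover with affine source: cover the total space by saturations of affine opens -/
theorem exists_quot_of_affine_source [Flat p] [Surjective p] [QuasiCompact p]
    [LocallyOfFinitePresentation p] [IsAffine X] (D : SchDD p) [IsSeparated D.obj.hom]
    [LocallyQuasiFinite D.obj.hom] [LocallyOfFiniteType D.obj.hom] :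
    ∃ (U : Scheme.{u}) (u : U ⟶ S) (q : D.obj.left ⟶ U), IsPullback D.obj.hom q p u ∧ IsInv D q := by
  refine exists_quot_of_forall_quotOn D (fun v => ?_)
  obtain ⟨_, ⟨W₁, hW₁, rfl⟩, hv, -⟩ :=
    D.obj.left.isBasis_affineOpens.exists_subset_of_mem_open (Set.mem_univ v) isOpen_univ
  have hcpt : IsCompact (sat D W₁ : Set D.obj.left) := isCompact_sat D W₁ hW₁.isCompact
  haveI : CompactSpace ↥(sat D W₁ : Scheme.{u}) := isCompact_iff_compactSpace.mp hcpt
  haveI : QuasiCompact (restrictDD D (sat D W₁) (stable_sat D W₁)).obj.hom := by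
    change QuasiCompact ((sat D W₁).ι ≫ D.obj.hom)
    exact (HasAffineProperty.iff_of_isAffine (P := @QuasiCompact)).mpr inferInstance
  haveI : IsSeparated (restrictDD D (sat D W₁) (stable_sat D W₁)).obj.hom := by
    change IsSeparated ((sat D W₁).ι ≫ D.obj.hom)
    infer_instance
  haveI : LocallyQuasiFinite (restrictDD D (sat D W₁) (stable_sat D W₁)).obj.hom := by
    change LocallyQuasiFinite ((sat D W₁).ι ≫ D.obj.hom)
    infer_instance
  haveI : LocallyOfFiniteType (restrictDD D (sat D W₁) (stable_sat D W₁)).obj.hom := by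
    change LocallyOfFiniteType ((sat D W₁).ι ≫ D.obj.hom)
    infer_instance
  obtain ⟨U, ⟨e⟩⟩ := schDD_effective_of_sep_lqf (restrictDD D (sat D W₁) (stable_sat D W₁))
  obtain ⟨q, hpb, hinv⟩ := quot_of_effective _ U e
  exact ⟨sat D W₁, stable_sat D W₁, ⟨U.left, U.hom, q, hpb, hinv⟩, le_sat D W₁ hv⟩

/-- an fppf cover of a quasi-compact scheme can be refined by an affine one -/
theorem exists_affine_refinement {Y W : Scheme.{u}} (π : Y ⟶ W) [Flat π] [Surjective π]
    [LocallyOfFinitePresentation π] [CompactSpace W] :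
    ∃ (X₀ : Scheme.{u}) (r : X₀ ⟶ Y), IsAffine X₀ ∧ Flat r ∧ LocallyOfFinitePresentation r ∧
      Surjective (r ≫ π) := by
  obtain ⟨𝒰, h𝒰⟩ : ∃ 𝒰 : Y.OpenCover, 𝒰 = Y.affineCover := ⟨_, rfl⟩
  haveI : ∀ i, IsAffine (𝒰.X i) := by rw [h𝒰]; infer_instance
  have hopen : ∀ i, IsOpen (Set.range (𝒰.f i ≫ π)) := fun i =>
    (𝒰.f i ≫ π).isOpenMap.isOpen_range
  have hcov : (Set.univ : Set W) ⊆ ⋃ i, Set.range (𝒰.f i ≫ π) := by
    intro s _
    obtain ⟨y, rfl⟩ := π.surjective s
    obtain ⟨i, z, rfl⟩ := 𝒰.exists_eq y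
    exact Set.mem_iUnion.mpr ⟨i, z, Scheme.Hom.comp_apply _ _ _⟩
  obtain ⟨t, ht⟩ := isCompact_univ.elim_finite_subcover _ hopen hcov
  refine ⟨∐ (fun i : t => 𝒰.X i.1), Sigma.desc (fun i : t => 𝒰.f i.1), inferInstance, ?_, ?_, ?_⟩
  · exact IsZariskiLocalAtSource.sigmaDesc (fun _ => inferInstance)
  · exact IsZariskiLocalAtSource.sigmaDesc (fun _ => inferInstance)
  · refine ⟨fun s => ?_⟩
    obtain ⟨i, hi⟩ := Set.mem_iUnion.mp (ht (Set.mem_univ s))
    obtain ⟨hit, z, hz⟩ := Set.mem_iUnion.mp hi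
    refine ⟨(Sigma.ι (fun i : t => 𝒰.X i.1) ⟨i, hit⟩) z, ?_⟩
    rw [← Scheme.Hom.comp_apply, ← Category.assoc, Sigma.ι_desc]
    exact hz

/-- fppf cover of an affine base -/
theorem exists_quot_of_affine_base [Flat p] [Surjective p] [LocallyOfFinitePresentation p]
    [IsAffine S] (D : SchDD p) [IsSeparated D.obj.hom] [LocallyQuasiFinite D.obj.hom]
    [LocallyOfFiniteType D.obj.hom] :
    ∃ (U : Scheme.{u}) (u : U ⟶ S) (q : D.obj.left ⟶ U), IsPullback D.obj.hom q p u ∧ IsInv D q := by
  obtain ⟨X₀, r₀, hX₀, hr1, hr2, hr3⟩ := exists_affine_refinement p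
  haveI := hX₀
  haveI := hr1
  haveI := hr2
  haveI := hr3
  have w₀ : (r₀ ≫ p) ≫ 𝟙 S = r₀ ≫ p := Category.comp_id _
  haveI : QuasiCompact (r₀ ≫ p) :=
    (HasAffineProperty.iff_of_isAffine (P := @QuasiCompact)).mpr inferInstance
  haveI := pullDD_isSeparated r₀ (𝟙 S) w₀ D
  haveI := pullDD_locallyQuasiFinite r₀ (𝟙 S) w₀ D
  haveI := pullDD_locallyOfFiniteType r₀ (𝟙 S) w₀ D
  obtain ⟨U, u, q₀, hpb₀, hinv₀⟩ := exists_quot_of_affine_source (pullDD r₀ (𝟙 S) w₀ D)
  obtain ⟨q, hq⟩ := transfer_cover r₀ (r₀ ≫ p) w₀ D u q₀ hpb₀ hinv₀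
  exact ⟨U, u, q, hq⟩

/-- local quotients over affine opens of the base -/
theorem localQuot_of_sep_lqf [Flat p] [Surjective p] [LocallyOfFinitePresentation p] (D : SchDD p)
    [IsSeparated D.obj.hom] [LocallyQuasiFinite D.obj.hom] [LocallyOfFiniteType D.obj.hom]
    {W : S.Opens} (hW : IsAffineOpen W) : LocalQuot D W.ι := by
  have w : pullback.snd p W.ι ≫ W.ι = pullback.fst p W.ι ≫ p := pullback.condition.symm
  haveI : IsAffine (W : Scheme.{u}) := hW
  haveI : Flat (pullback.snd p W.ι) := MorphismProperty.pullback_snd (P := @Flat) _ _ inferInstance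
  haveI : Surjective (pullback.snd p W.ι) :=
    MorphismProperty.pullback_snd (P := @Surjective) _ _ inferInstance
  haveI : LocallyOfFinitePresentation (pullback.snd p W.ι) :=
    MorphismProperty.pullback_snd (P := @LocallyOfFinitePresentation) _ _ inferInstance
  haveI := pullDD_isSeparated (pullback.fst p W.ι) W.ι w D
  haveI := pullDD_locallyQuasiFinite (pullback.fst p W.ι) W.ι w D
  haveI := pullDD_locallyOfFiniteType (pullback.fst p W.ι) W.ι w D
  obtain ⟨U', u', q', hpb', hinv'⟩ :=
    exists_quot_of_affine_base (pullDD (pullback.fst p W.ι) W.ι w D)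
  exact transfer (pullback.fst p W.ι) W.ι w D (𝟙 _) (Category.id_comp _) (Category.id_comp _)
    u' q' hpb' hinv'

/-- **Descent data on separated locally quasi-finite schemes are effective along fppf morphisms.** -/
theorem schDD_effective_of_sep_lqf_fppf [Flat p] [Surjective p] [LocallyOfFinitePresentation p]
    (D : SchDD p) [IsSeparated D.obj.hom] [LocallyQuasiFinite D.obj.hom]
    [LocallyOfFiniteType D.obj.hom] : ∃ U : Over S, Nonempty ((Desc.toDD p).obj U ≅ D) := by
  obtain ⟨U, u, q, hpb, hinv⟩ :=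
    EffDescF.exists_quot_of_local D (fun W => localQuot_of_sep_lqf D W.2)
  exact ⟨Over.mk u, effective_of_quot D u q hpb hinv⟩

end Groth.Agent.Lib.Helper28.EffDesc
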