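import Groth.Agent.Lib.Helper15.FppfCover
import Groth.Agent.Lib.Helper16.FppfLocal
import Groth.Agent.Lib.Helper16.LocPGen
import Groth.Agent.Lib.Helper28.EffDesc.FppfLqf

/-!
# Effective descent (helper28): representability of fppf sheaves by descent

Let `P` be an fppf sheaf over `h_T` whose base change along an fppf cover `π : U ⟶ T` is represented by `V ⟶ U`.  Then
`V ⟶ U` carries a canonical descent datum relative to `π` (`sheafDD`), and if this descent datum is effective, the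
descended scheme represents `P` (`exists_rep_of_effective`).
-/

set_option autoImplicit false
set_option maxHeartbeats 1600000
set_option backward.isDefEq.respectTransparency false
set_option backward.isDefEq.respectTransparency.types false
universe u
open CategoryTheory CategoryTheory.Limits AlgebraicGeometry Opposite

namespace Groth.Agent.Lib.Helper28.SheafDesc

open AlgSp Desc Groth.Agent.Lib.Helper15 Groth.Agent.Lib.Helper16 Groth.Agent.Lib.Helper28.EffDesc

section RelDD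

variable {X' S' S₀ : Scheme.{u}} (a : X' ⟶ S') (g : S' ⟶ S₀)

/-- a gluing relation on the points of `X'`, relative to `g` -/
structure GlueRel where
  Rel : ∀ ⦃T : Scheme.{u}⦄, (T ⟶ X') → (T ⟶ X') → Prop
  refl : ∀ ⦃T : Scheme.{u}⦄ (v : T ⟶ X'), Rel v v
  symm : ∀ ⦃T : Scheme.{u}⦄ {v w : T ⟶ X'}, Rel v w → Rel w v
  trans : ∀ ⦃T : Scheme.{u}⦄ {v w z : T ⟶ X'}, Rel v w → Rel w z → Rel v z
  comp : ∀ ⦃T T'' : Scheme.{u}⦄ (k : T'' ⟶ T) {v w : T ⟶ X'}, Rel v w → Rel (k ≫ v) (k ≫ w)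
  unique : ∀ ⦃T : Scheme.{u}⦄ {v w w' : T ⟶ X'}, Rel v w → Rel v w' → w ≫ a = w' ≫ a → w = w'
  exists_rel : ∀ ⦃T : Scheme.{u}⦄ (x₀ x₁ : T ⟶ S') (_ : x₀ ≫ g = x₁ ≫ g) (v : T ⟶ X'), v ≫ a = x₀ →
    ∃ w : T ⟶ X', w ≫ a = x₁ ∧ Rel v w

variable {a g} (R : GlueRel a g)

/-- the gluing map -/
noncomputable def GlueRel.map {T : Scheme.{u}} (x₀ x₁ : T ⟶ S') (h : x₀ ≫ g = x₁ ≫ g)
    (v : Lifts (Over.mk a) x₀) : Lifts (Over.mk a) x₁ :=
  ⟨(R.exists_rel x₀ x₁ h v.1 v.2).choose, (R.exists_rel x₀ x₁ h v.1 v.2).choose_spec.1⟩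

theorem GlueRel.map_rel {T : Scheme.{u}} (x₀ x₁ : T ⟶ S') (h : x₀ ≫ g = x₁ ≫ g)
    (v : Lifts (Over.mk a) x₀) : R.Rel v.1 (R.map x₀ x₁ h v).1 :=
  (R.exists_rel x₀ x₁ h v.1 v.2).choose_spec.2

theorem GlueRel.map_unique {T : Scheme.{u}} (x₀ x₁ : T ⟶ S') (h : x₀ ≫ g = x₁ ≫ g)
    (v : Lifts (Over.mk a) x₀) (w : Lifts (Over.mk a) x₁) (hr : R.Rel v.1 w.1) :
    R.map x₀ x₁ h v = w := by
  apply Subtype.ext
  refine R.unique (R.map_rel x₀ x₁ h v) hr ?_
  have e1 : (R.map x₀ x₁ h v).1 ≫ a = x₁ := (R.map x₀ x₁ h v).2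
  have e2 : w.1 ≫ a = x₁ := w.2
  rw [e1, e2]

/-- the descent datum defined by a gluing relation -/
noncomputable def GlueRel.dd : SchDD g where
  obj := Over.mk a
  φ T x₀ x₁ h :=
    { toFun := R.map x₀ x₁ h
      invFun := R.map x₁ x₀ h.symm
      left_inv := fun v => R.map_unique _ _ _ _ _ (R.symm (R.map_rel x₀ x₁ h v))
      right_inv := fun v => R.map_unique _ _ _ _ _ (R.symm (R.map_rel x₁ x₀ h.symm v)) }
  φ_natural := fun T T' k x₀ x₁ h h' v v' hv' => by
    change (R.map (k ≫ x₀) (k ≫ x₁) h' v').1 = k ≫ (R.map x₀ x₁ h v).1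
    obtain ⟨w, hw⟩ : ∃ w : Lifts (Over.mk a) (k ≫ x₁), w.1 = k ≫ (R.map x₀ x₁ h v).1 := by
      refine ⟨⟨k ≫ (R.map x₀ x₁ h v).1, ?_⟩, rfl⟩
      have e1 : (R.map x₀ x₁ h v).1 ≫ a = x₁ := (R.map x₀ x₁ h v).2
      change (k ≫ (R.map x₀ x₁ h v).1) ≫ a = k ≫ x₁
      rw [Category.assoc, e1]
    rw [← hw]
    refine congrArg Subtype.val (R.map_unique _ _ h' v' w ?_)
    rw [hw, hv']
    exact R.comp k (R.map_rel x₀ x₁ h v)
  φ_self := fun T x v => R.map_unique x x rfl v v (R.refl _)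
  φ_comp := fun T x₀ x₁ x₂ h₀₁ h₁₂ v => by
    change R.map x₁ x₂ h₁₂ (R.map x₀ x₁ h₀₁ v) = R.map x₀ x₂ (h₀₁.trans h₁₂) v
    exact (R.map_unique x₀ x₂ (h₀₁.trans h₁₂) v _
      (R.trans (R.map_rel x₀ x₁ h₀₁ v) (R.map_rel x₁ x₂ h₁₂ _))).symm

theorem GlueRel.dd_hom : R.dd.obj.hom = a := rfl

theorem GlueRel.dd_rel {T : Scheme.{u}} (x₀ x₁ : T ⟶ S') (h : x₀ ≫ g = x₁ ≫ g)
    (v : Lifts R.dd.obj x₀) : R.Rel v.1 (R.dd.φ x₀ x₁ h v).1 :=
  R.map_rel x₀ x₁ h v

end RelDD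

variable {S : Scheme.{u}}

/-- A flat, surjective, locally finitely presented morphism over `S` is an epimorphism in `Over S`. -/
theorem epi_over_of_fppf {X' Y' : Over S} (f : X' ⟶ Y') [Flat f.left] [Surjective f.left]
    [LocallyOfFinitePresentation f.left] : Epi f := by
  have : Epi ((Over.forget S).map f) := by
    change Epi f.left
    exact Flat.epi_of_flat_of_surjective _
  exact (Over.forget S).epi_of_epi_map this

section Sheaf

variable {T U V : Over S} (π : U ⟶ T) (av : V ⟶ U) {P : Sp S} (pT : P ⟶ (yon S).obj T)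
  (fP : (yon S).obj V ⟶ P)

/-- two points of `V` have the same image in `P` -/
def SRel ⦃Z : Scheme.{u}⦄ (v w : Z ⟶ V.left) : Prop :=
  ∃ (zs : Z ⟶ S) (hv : v ≫ V.hom = zs) (hw : w ≫ V.hom = zs),
    (yon S).map (Over.homMk v hv : Over.mk zs ⟶ V) ≫ fP =
      (yon S).map (Over.homMk w hw : Over.mk zs ⟶ V) ≫ fP

theorem sRel_iff {Z : Over S} (v w : Z ⟶ V) :
    SRel fP v.left w.left ↔ (yon S).map v ≫ fP = (yon S).map w ≫ fP := by
  constructor
  · rintro ⟨zs, hv, hw, h⟩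
    subst hv
    obtain ⟨ι, hι⟩ : ∃ ι : Z ⟶ Over.mk (v.left ≫ V.hom), ι.left = 𝟙 _ :=
      ⟨Over.homMk (𝟙 _) (by rw [Category.id_comp]; exact Over.w v), rfl⟩
    have e1 : ι ≫ (Over.homMk v.left rfl : Over.mk (v.left ≫ V.hom) ⟶ V) = v :=
      Over.OverMorphism.ext (by rw [Over.comp_left, hι]; exact Category.id_comp _)
    have e2 : ι ≫ (Over.homMk w.left hw : Over.mk (v.left ≫ V.hom) ⟶ V) = w :=
      Over.OverMorphism.ext (by rw [Over.comp_left, hι]; exact Category.id_comp _)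
    have := congrArg (fun k => (yon S).map ι ≫ k) h
    simp only [← Category.assoc, ← Functor.map_comp, e1, e2] at this
    exact this
  · intro h
    refine ⟨Z.hom, Over.w v, Over.w w, ?_⟩
    have e1 : (Over.homMk v.left (Over.w v) : Over.mk Z.hom ⟶ V) = v := Over.OverMorphism.ext rfl
    have e2 : (Over.homMk w.left (Over.w w) : Over.mk Z.hom ⟶ V) = w := Over.OverMorphism.ext rfl
    rw [e1, e2]
    exact h

variable {fP} in
theorem SRel.symm {Z : Scheme.{u}} {v w : Z ⟶ V.left} (h : SRel fP v w) : SRel fP w v := by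
  obtain ⟨zs, hv, hw, h⟩ := h
  exact ⟨zs, hw, hv, h.symm⟩

variable {fP} in
theorem SRel.trans {Z : Scheme.{u}} {v w z : Z ⟶ V.left} (h₁ : SRel fP v w) (h₂ : SRel fP w z) :
    SRel fP v z := by
  obtain ⟨zs, hv, hw, h₁⟩ := h₁
  obtain ⟨zs', hw', hz, h₂⟩ := h₂
  subst hw
  subst hw'
  exact ⟨_, hv, hz, h₁.trans h₂⟩

variable {fP} in
theorem SRel.comp {Z Z'' : Scheme.{u}} (k : Z'' ⟶ Z) {v w : Z ⟶ V.left} (h : SRel fP v w) :
    SRel fP (k ≫ v) (k ≫ w) := by
  obtain ⟨zs, hv, hw, h⟩ := h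
  have hv' : (k ≫ v) ≫ V.hom = k ≫ zs := by rw [Category.assoc, hv]
  have hw' : (k ≫ w) ≫ V.hom = k ≫ zs := by rw [Category.assoc, hw]
  refine ⟨k ≫ zs, hv', hw', ?_⟩
  obtain ⟨κ, hκ⟩ : ∃ κ : Over.mk (k ≫ zs) ⟶ Over.mk zs, κ.left = k := ⟨Over.homMk k rfl, rfl⟩
  have e1 : (Over.homMk (k ≫ v) hv' : Over.mk (k ≫ zs) ⟶ V) = κ ≫ Over.homMk v hv :=
    Over.OverMorphism.ext (by rw [Over.comp_left, hκ]; rfl)
  have e2 : (Over.homMk (k ≫ w) hw' : Over.mk (k ≫ zs) ⟶ V) = κ ≫ Over.homMk w hw :=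
    Over.OverMorphism.ext (by rw [Over.comp_left, hκ]; rfl)
  rw [e1, e2, Functor.map_comp, Functor.map_comp, Category.assoc, Category.assoc, h]

variable (sq : IsPullback fP ((yon S).map av) pT ((yon S).map π))

include sq in
theorem SRel.unique {Z : Scheme.{u}} {v w w' : Z ⟶ V.left} (h : SRel fP v w) (h' : SRel fP v w')
    (hww : w ≫ av.left = w' ≫ av.left) : w = w' := by
  obtain ⟨zs, hv, hw, h⟩ := h
  obtain ⟨zs', hv', hw', h'⟩ := h'
  subst hv
  subst hv'
  have e : (Over.homMk w hw : Over.mk (v ≫ V.hom) ⟶ V) = Over.homMk w' hw' := by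
    apply (yon S).map_injective
    apply sq.hom_ext
    · exact h.symm.trans h'
    · rw [← Functor.map_comp, ← Functor.map_comp]
      congr 1
      exact Over.OverMorphism.ext hww
  exact congrArg (fun k => k.left) e

include sq in
theorem SRel.exists_rel {Z : Scheme.{u}} (x₀ x₁ : Z ⟶ U.left) (h : x₀ ≫ π.left = x₁ ≫ π.left)
    (v : Z ⟶ V.left) (hv : v ≫ av.left = x₀) : ∃ w : Z ⟶ V.left, w ≫ av.left = x₁ ∧ SRel fP v w := by
  have hx₁ : x₁ ≫ U.hom = v ≫ V.hom := by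
    calc x₁ ≫ U.hom = (x₁ ≫ π.left) ≫ T.hom := by rw [Category.assoc, Over.w π]
      _ = (x₀ ≫ π.left) ≫ T.hom := by rw [h]
      _ = x₀ ≫ U.hom := by rw [Category.assoc, Over.w π]
      _ = v ≫ av.left ≫ U.hom := by rw [← hv, Category.assoc]
      _ = v ≫ V.hom := by rw [Over.w av]
  obtain ⟨Vv, hVv⟩ : ∃ Vv : Over.mk (v ≫ V.hom) ⟶ V, Vv.left = v := ⟨Over.homMk v rfl, rfl⟩
  obtain ⟨X₁, hX₁⟩ : ∃ X₁ : Over.mk (v ≫ V.hom) ⟶ U, X₁.left = x₁ := ⟨Over.homMk x₁ hx₁, rfl⟩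
  have hcomp : (Vv ≫ av) ≫ π = X₁ ≫ π :=
    Over.OverMorphism.ext (by
      rw [Over.comp_left, Over.comp_left, Over.comp_left, hVv, hX₁, hv, h])
  have compat : ((yon S).map Vv ≫ fP) ≫ pT = (yon S).map X₁ ≫ (yon S).map π := by
    rw [Category.assoc, sq.w, ← Functor.map_comp, ← Functor.map_comp, ← Functor.map_comp,
      ← Category.assoc, hcomp]
  obtain ⟨l, hl⟩ := (yon S).map_surjective (sq.lift _ _ compat)
  have hl1 : (yon S).map l ≫ fP = (yon S).map Vv ≫ fP := by rw [hl, sq.lift_fst]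
  have hl2 : l ≫ av = X₁ := by
    apply (yon S).map_injective
    rw [Functor.map_comp, hl, sq.lift_snd]
  refine ⟨l.left, ?_, ?_⟩
  · have := congrArg (fun k => k.left) hl2
    simpa only [Over.comp_left, hX₁] using this
  · have := (sRel_iff fP Vv l).mpr hl1.symm
    rw [hVv] at this
    exact this

/-- the gluing relation defined by the sheaf `P` -/
def sheafRel : GlueRel av.left π.left where
  Rel := SRel fP
  refl := fun Z v => ⟨v ≫ V.hom, rfl, rfl, rfl⟩
  symm := fun Z v w h => h.symm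
  trans := fun Z v w z h₁ h₂ => h₁.trans h₂
  comp := fun Z Z'' k v w h => h.comp k
  unique := fun Z v w w' h h' hww => SRel.unique π av pT fP sq h h' hww
  exists_rel := fun Z x₀ x₁ h v hv => SRel.exists_rel π av pT fP sq x₀ x₁ h v hv

/-- the canonical descent datum on `V ⟶ U` relative to `π`, defined by the sheaf `P` -/
noncomputable def sheafDD : SchDD π.left := (sheafRel π av pT fP sq).dd

theorem sheafDD_hom : (sheafDD π av pT fP sq).obj.hom = av.left := rfl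

/-- the base change of (the image of) an fppf cover along a morphism of sheaves is an epimorphism -/
theorem epi_of_isPullback_fppf [Flat π.left] [Surjective π.left] [LocallyOfFinitePresentation π.left]
    {P' Q : Sp S} (pT' : P' ⟶ (yon S).obj T) (f' : Q ⟶ P') (g' : Q ⟶ (yon S).obj U)
    (sq' : IsPullback f' g' pT' ((yon S).map π)) : Epi f' := by
  rw [epi_iff_locally_lift]
  intro Z y
  obtain ⟨t, ht⟩ := (yon S).map_surjective (y ≫ pT')
  have i1 : Flat (pullback.fst t π).left :=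
    MorphismProperty.of_isPullback (P := @Flat) (isPullback_left_forget t π).flip inferInstance
  have i2 : Surjective (pullback.fst t π).left :=
    MorphismProperty.of_isPullback (P := @Surjective) (isPullback_left_forget t π).flip inferInstance
  have i3 : LocallyOfFinitePresentation (pullback.fst t π).left :=
    MorphismProperty.of_isPullback (P := @LocallyOfFinitePresentation)
      (isPullback_left_forget t π).flip inferInstance
  refine ⟨Sieve.generate (Presieve.singleton (pullback.fst t π)),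
    sieve_mem_J_of_fppf (pullback.fst t π) _ ?_, ?_⟩
  · exact Sieve.le_generate _ _ _ (Presieve.singleton_self (pullback.fst t π))
  · rintro Z' g ⟨Z'', k, _, ⟨⟩, rfl⟩
    have hc : ((yon S).map (pullback.fst t π) ≫ y) ≫ pT' =
        (yon S).map (pullback.snd t π) ≫ (yon S).map π := by
      rw [Category.assoc, ← ht, ← Functor.map_comp, ← Functor.map_comp, pullback.condition]
    refine ⟨(yon S).map k ≫ sq'.lift _ _ hc, ?_⟩
    rw [Category.assoc, sq'.lift_fst, Functor.map_comp, Category.assoc]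

include sq in
/-- **If the canonical descent datum is effective, the descended scheme represents `P`.** -/
theorem exists_rep_of_effective [Flat π.left] [Surjective π.left]
    [LocallyOfFinitePresentation π.left] (W₀ : Over T.left)
    (e : (toDD π.left).obj W₀ ≅ sheafDD π av pT fP sq) :
    ∃ (W : Over S) (w : W ⟶ T) (q : V ⟶ W) (κ : (yon S).obj W ≅ P),
      κ.hom ≫ pT = (yon S).map w ∧ (yon S).map q ≫ κ.hom = fP ∧ IsPullback av q π w := by
  obtain ⟨q₀, hpb, hinv⟩ := quot_of_effective (sheafDD π av pT fP sq) W₀ e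
  have hpb' : IsPullback av.left q₀ π.left W₀.hom := hpb
  obtain ⟨W, hW⟩ : ∃ W : Over S, W = Over.mk (W₀.hom ≫ T.hom) := ⟨_, rfl⟩
  subst hW
  obtain ⟨w, hw⟩ : ∃ w : Over.mk (W₀.hom ≫ T.hom) ⟶ T, w.left = W₀.hom := ⟨Over.homMk W₀.hom rfl, rfl⟩
  have hqS : q₀ ≫ (Over.mk (W₀.hom ≫ T.hom)).hom = V.hom := by
    change q₀ ≫ W₀.hom ≫ T.hom = V.hom
    rw [← Category.assoc, ← hpb'.w, Category.assoc, Over.w π, Over.w av]
  obtain ⟨q, hq⟩ : ∃ q : V ⟶ Over.mk (W₀.hom ≫ T.hom), q.left = q₀ := ⟨Over.homMk q₀ hqS, rfl⟩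
  have hcomm : av ≫ π = q ≫ w :=
    Over.OverMorphism.ext (by rw [Over.comp_left, Over.comp_left, hq, hw]; exact hpb'.w)
  have pbO : IsPullback av q π w := by
    refine IsPullback.of_map (Over.forget S) hcomm ?_
    change IsPullback av.left q.left π.left w.left
    rw [hq, hw]
    exact hpb'
  have pbY := pbO.map (yon S)
  have hepiq : Epi ((yon S).map q) :=
    epi_of_isPullback_fppf π ((yon S).map w) ((yon S).map q) ((yon S).map av) pbY.flip
  have hepif : Epi fP := epi_of_isPullback_fppf π pT fP ((yon S).map av) sq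
  have := IsRegularEpiCategory.regularEpiOfEpi ((yon S).map q)
  -- compatibility
  have hcompat : ∀ {Q : Sp S} (g₁ g₂ : Q ⟶ (yon S).obj V),
      g₁ ≫ (yon S).map q = g₂ ≫ (yon S).map q → g₁ ≫ fP = g₂ ≫ fP := by
    intro Q g₁ g₂ h12
    apply sp_hom_ext'
    intro Z z
    obtain ⟨v₁, hv₁⟩ := (yon S).map_surjective (z ≫ g₁)
    obtain ⟨v₂, hv₂⟩ := (yon S).map_surjective (z ≫ g₂)
    rw [← Category.assoc, ← Category.assoc, ← hv₁, ← hv₂]
    have hq12 : v₁ ≫ q = v₂ ≫ q := by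
      apply (yon S).map_injective
      rw [Functor.map_comp, Functor.map_comp, hv₁, hv₂, Category.assoc, Category.assoc, h12]
    have hq12' : v₁.left ≫ q₀ = v₂.left ≫ q₀ := by
      have := congrArg (fun k => k.left) hq12
      simpa only [Over.comp_left, hq] using this
    rw [← sRel_iff]
    have hx : (v₁.left ≫ av.left) ≫ π.left = (v₂.left ≫ av.left) ≫ π.left := by
      rw [Category.assoc, Category.assoc, hpb'.w, ← Category.assoc, ← Category.assoc, hq12']
    obtain ⟨vv, hvv⟩ : ∃ vv : Lifts (sheafDD π av pT fP sq).obj (v₁.left ≫ av.left), vv.1 = v₁.left :=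
      ⟨⟨v₁.left, rfl⟩, rfl⟩
    have hrel : SRel fP vv.1 ((sheafDD π av pT fP sq).φ _ _ hx vv).1 :=
      (sheafRel π av pT fP sq).dd_rel _ _ hx vv
    have hφq := hinv _ _ hx vv
    have hφa : ((sheafDD π av pT fP sq).φ _ _ hx vv).1 ≫ av.left = v₂.left ≫ av.left :=
      ((sheafDD π av pT fP sq).φ _ _ hx vv).2
    have heq : ((sheafDD π av pT fP sq).φ _ _ hx vv).1 = v₂.left := by
      apply hpb'.hom_ext hφa
      rw [hφq, hvv, hq12']
    rw [heq, hvv] at hrel
    exact hrel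
  obtain ⟨κ₀, hκ₀⟩ : ∃ κ₀ : (yon S).obj (Over.mk (W₀.hom ≫ T.hom)) ⟶ P, (yon S).map q ≫ κ₀ = fP :=
    ⟨EffectiveEpi.desc ((yon S).map q) fP (fun g₁ g₂ h => hcompat g₁ g₂ h), EffectiveEpi.fac _ _ _⟩
  have hκT : κ₀ ≫ pT = (yon S).map w := by
    rw [← cancel_epi ((yon S).map q), ← Category.assoc, hκ₀, sq.w, ← Functor.map_comp,
      ← Functor.map_comp, hcomm]
  have hmono : Mono κ₀ := by
    constructor
    intro Q l l' hll
    apply sp_hom_ext'
    intro Z z
    obtain ⟨z₁, hz₁⟩ := (yon S).map_surjective (z ≫ l)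
    obtain ⟨z₂, hz₂⟩ := (yon S).map_surjective (z ≫ l')
    rw [← hz₁, ← hz₂]
    congr 1
    have hk12 : (yon S).map z₁ ≫ κ₀ = (yon S).map z₂ ≫ κ₀ := by
      rw [hz₁, hz₂, Category.assoc, Category.assoc, hll]
    have hw12 : z₁ ≫ w = z₂ ≫ w := by
      apply (yon S).map_injective
      rw [Functor.map_comp, Functor.map_comp, ← hκT, ← Category.assoc, hk12, Category.assoc]
    have i1 : Flat (pullback.fst (z₁ ≫ w) π).left :=
      MorphismProperty.of_isPullback (P := @Flat) (isPullback_left_forget (z₁ ≫ w) π).flip inferInstance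
    have i2 : Surjective (pullback.fst (z₁ ≫ w) π).left :=
      MorphismProperty.of_isPullback (P := @Surjective) (isPullback_left_forget (z₁ ≫ w) π).flip
        inferInstance
    have i3 : LocallyOfFinitePresentation (pullback.fst (z₁ ≫ w) π).left :=
      MorphismProperty.of_isPullback (P := @LocallyOfFinitePresentation)
        (isPullback_left_forget (z₁ ≫ w) π).flip inferInstance
    have hepic : Epi (pullback.fst (z₁ ≫ w) π) := epi_over_of_fppf _
    rw [← cancel_epi (pullback.fst (z₁ ≫ w) π)]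
    have hc1 : pullback.snd (z₁ ≫ w) π ≫ π = (pullback.fst (z₁ ≫ w) π ≫ z₁) ≫ w := by
      rw [Category.assoc]
      exact pullback.condition.symm
    have hc2 : pullback.snd (z₁ ≫ w) π ≫ π = (pullback.fst (z₁ ≫ w) π ≫ z₂) ≫ w := by
      rw [Category.assoc, ← hw12]
      exact pullback.condition.symm
    obtain ⟨v₁, hv₁a, hv₁q⟩ : ∃ v₁ : pullback (z₁ ≫ w) π ⟶ V,
        v₁ ≫ av = pullback.snd (z₁ ≫ w) π ∧ v₁ ≫ q = pullback.fst (z₁ ≫ w) π ≫ z₁ :=
      ⟨pbO.lift _ _ hc1, pbO.lift_fst _ _ _, pbO.lift_snd _ _ _⟩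
    obtain ⟨v₂, hv₂a, hv₂q⟩ : ∃ v₂ : pullback (z₁ ≫ w) π ⟶ V,
        v₂ ≫ av = pullback.snd (z₁ ≫ w) π ∧ v₂ ≫ q = pullback.fst (z₁ ≫ w) π ≫ z₂ :=
      ⟨pbO.lift _ _ hc2, pbO.lift_fst _ _ _, pbO.lift_snd _ _ _⟩
    have hvv : v₁ = v₂ := by
      apply (yon S).map_injective
      apply sq.hom_ext
      · rw [← hκ₀, ← Category.assoc, ← Category.assoc, ← Functor.map_comp, ← Functor.map_comp,
          hv₁q, hv₂q, Functor.map_comp, Functor.map_comp, Category.assoc, Category.assoc, hk12]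
      · rw [← Functor.map_comp, ← Functor.map_comp, hv₁a, hv₂a]
    rw [← hv₁q, ← hv₂q, hvv]
  have hepi : Epi κ₀ := epi_of_epi_fac hκ₀
  have hiso : IsIso κ₀ := isIso_of_mono_of_epi κ₀
  exact ⟨_, w, q, asIso κ₀, hκT, hκ₀, pbO⟩

end Sheaf

end Groth.Agent.Lib.Helper28.SheafDesc
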