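import Groth.Agent.Lib.Helper28.EffDesc.SheafDesc
import Groth.Agent.Lib.Helper16.QuasiFiniteDescent
import Groth.Agent.Lib.Helper16.ZmtSp5
import Groth.Agent.S10259
import Groth.Agent.S0081

/-!
# Effective descent (helper28): base change of a separated locally quasi-finite morphism along an fppf cover of sheaves

If `E = H ×_G F` with `F ⟶ G` an fppf cover representable by algebraic spaces and `E ⟶ F` representable by algebraic
spaces, separated and locally quasi-finite, then `H ⟶ G` is representable by schemes, separated and locally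
quasi-finite.
-/

set_option autoImplicit false
set_option maxHeartbeats 1600000
set_option backward.isDefEq.respectTransparency false
set_option backward.isDefEq.respectTransparency.types false
universe u
open CategoryTheory CategoryTheory.Limits AlgebraicGeometry Opposite

namespace Groth.Agent.Lib.Helper28.SheafDesc

open AlgSp Desc Groth.Agent.Lib.Helper15 Groth.Agent.Lib.Helper16 Groth.Agent.Lib.Helper28.EffDesc

variable {S : Scheme.{u}}

theorem exists_rep_sep_lqf {E F G H : Sp S} (a : E ⟶ F) (f : E ⟶ H) (g : F ⟶ G) (b : H ⟶ G)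
    (sq : IsPullback a f g b)
    (hg : RepBySpWith (IsSurjectiveMor ⊓ LocP @Flat ⊓ LocP @LocallyOfFinitePresentation) g.hom)
    (ha : RepBySpWith (IsSeparatedMor ⊓ LocP (@LocallyQuasiFinite ⊓ @LocallyOfFiniteType)) a.hom)
    {T : Over S} (ξ : (yon S).obj T ⟶ G) :
    ∃ (W : Over S) (fst : (yon S).obj W ⟶ H) (w : W ⟶ T) (_ : IsPullback fst ((yon S).map w) b ξ),
      IsSeparated w.left ∧ LocallyQuasiFinite w.left ∧ LocallyOfFiniteType w.left := by
  rw [repBySpWith_hom_iff] at hg ha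
  obtain ⟨hF', ⟨hs, hfl⟩, hfp⟩ :=
    hg ξ (pullback.fst g ξ) (pullback.snd g ξ) (IsPullback.of_hasPullback g ξ)
  obtain ⟨U, c, π, hcπ, i1, i2, i3⟩ := exists_fppf_chart hF' (pullback.snd g ξ) hs hfl hfp
  obtain ⟨η, hη⟩ : ∃ η : (yon S).obj U ⟶ F, η = c ≫ pullback.fst g ξ := ⟨_, rfl⟩
  have hηg : η ≫ g = (yon S).map π ≫ ξ := by
    rw [hη, Category.assoc, pullback.condition, ← Category.assoc, hcπ]
  obtain ⟨hE, hsep, hlqf⟩ :=
    ha η (pullback.fst a η) (pullback.snd a η) (IsPullback.of_hasPullback a η)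
  have hrep := Groth.Agent.S10259.result U ⟨pullback a η, hE⟩
    (ObjectProperty.homMk (pullback.snd a η)) hlqf hsep
  obtain ⟨V, ⟨r⟩⟩ := hrep.has_representation
  obtain ⟨ε, -⟩ : ∃ ε : (yon S).obj V ≅ pullback a η, True := ⟨isoOfRepresentableBy r, trivial⟩
  obtain ⟨av, hav⟩ := (yon S).map_surjective (ε.hom ≫ pullback.snd a η)
  obtain ⟨fstE, hfstE⟩ : ∃ fstE : (yon S).obj V ⟶ E, fstE = ε.hom ≫ pullback.fst a η := ⟨_, rfl⟩
  have sqE : IsPullback fstE ((yon S).map av) a η := by
    refine IsPullback.of_iso_pullback ⟨?_⟩ ε hfstE.symm hav.symm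
    rw [hfstE, hav, Category.assoc, Category.assoc, pullback.condition]
  -- properties of `av`
  have hεet : RepWith @Etale ε.hom := by
    have : (RepWith (S := S) @Etale).RespectsIso :=
      MorphismProperty.IsStableUnderBaseChange.respectsIso
    exact (RepWith (S := S) @Etale).of_isIso ε.hom
  have hsepV : IsSeparated av.left := by
    rw [← isSeparatedMor_yon_map_iff, hav]
    exact ZmtSp.isSeparatedMor_comp ε.hom _ (ZmtSp.isSeparatedMor_of_mono ε.hom) hsep
  have hlqfV : (@LocallyQuasiFinite ⊓ @LocallyOfFiniteType : MorphismProperty Scheme.{u}) av.left :=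
    hlqf ε.hom (𝟙 _) av hεet (repWith_id _ U) (by rw [Category.comp_id, hav])
  -- the big square
  have sqB : IsPullback (fstE ≫ f) ((yon S).map av) b ((yon S).map π ≫ ξ) := by
    rw [← hηg]
    exact (sqE.flip.paste_vert sq).flip
  have hcP : (fstE ≫ f) ≫ b = ((yon S).map av ≫ (yon S).map π) ≫ ξ := by
    rw [Category.assoc _ _ ξ]
    exact sqB.w
  obtain ⟨fP, hfP1, hfP2⟩ : ∃ fP : (yon S).obj V ⟶ pullback b ξ,
      fP ≫ pullback.fst b ξ = fstE ≫ f ∧ fP ≫ pullback.snd b ξ = (yon S).map av ≫ (yon S).map π :=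
    ⟨pullback.lift _ _ hcP, pullback.lift_fst _ _ _, pullback.lift_snd _ _ _⟩
  have sqP : IsPullback fP ((yon S).map av) (pullback.snd b ξ) ((yon S).map π) := by
    refine IsPullback.of_right ?_ hfP2 (IsPullback.of_hasPullback b ξ)
    rw [hfP1]
    exact sqB
  -- descent
  haveI : Flat π.left := i1
  haveI : LocallyOfFinitePresentation π.left := i2
  haveI : Surjective π.left := i3
  haveI : IsSeparated (sheafDD π av _ fP sqP).obj.hom := hsepV
  haveI : LocallyQuasiFinite (sheafDD π av _ fP sqP).obj.hom := hlqfV.1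
  haveI : LocallyOfFiniteType (sheafDD π av _ fP sqP).obj.hom := hlqfV.2
  obtain ⟨W₀, ⟨e⟩⟩ := schDD_effective_of_sep_lqf_fppf (sheafDD π av _ fP sqP)
  obtain ⟨W, w, q, κ, hκT, hκq, pbO⟩ := exists_rep_of_effective π av _ fP sqP W₀ e
  have pbS : IsPullback av.left q.left π.left w.left := pbO.map (Over.forget S)
  have hQ : (@Surjective ⊓ @Flat ⊓ @LocallyOfFinitePresentation : MorphismProperty Scheme.{u}) π.left :=
    ⟨⟨i3, i1⟩, i2⟩
  refine ⟨W, κ.hom ≫ pullback.fst b ξ, w, ?_, ?_, ?_, ?_⟩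
  · refine IsPullback.of_iso_pullback ⟨?_⟩ κ rfl hκT
    rw [Category.assoc, pullback.condition, ← Category.assoc, hκT]
  · haveI := Groth.Agent.S0081.result.{u}
    exact MorphismProperty.of_isPullback_of_descendsAlong (P := @IsSeparated)
      (Q := (@Surjective ⊓ @Flat ⊓ @LocallyOfFinitePresentation : MorphismProperty Scheme.{u}))
      pbS hQ hsepV
  · exact MorphismProperty.of_isPullback_of_descendsAlong (P := @LocallyQuasiFinite)
      (Q := (@Surjective ⊓ @Flat ⊓ @LocallyOfFinitePresentation : MorphismProperty Scheme.{u}))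
      pbS hQ hlqfV.1
  · exact MorphismProperty.of_isPullback_of_descendsAlong (P := @LocallyOfFiniteType)
      (Q := (@Surjective ⊓ @Flat ⊓ @LocallyOfFinitePresentation : MorphismProperty Scheme.{u}))
      pbS hQ hlqfV.2

/-- **S10098.** -/
theorem repWith_sep_lqf {E F G H : Sp S} (a : E ⟶ F) (f : E ⟶ H) (g : F ⟶ G) (b : H ⟶ G)
    (sq : IsPullback a f g b)
    (hg : RepBySpWith (IsSurjectiveMor ⊓ LocP @Flat ⊓ LocP @LocallyOfFinitePresentation) g.hom)
    (ha : RepBySpWith (IsSeparatedMor ⊓ LocP (@LocallyQuasiFinite ⊓ @LocallyOfFiniteType)) a.hom) :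
    RepWith @IsSeparated b ∧ RepWith (@LocallyQuasiFinite ⊓ @LocallyOfFiniteType) b := by
  refine ⟨MorphismProperty.relative.of_exists (fun T ξ => ?_),
    MorphismProperty.relative.of_exists (fun T ξ => ?_)⟩
  · obtain ⟨W, fst, w, hpb, h1, h2, h3⟩ := exists_rep_sep_lqf a f g b sq hg ha ξ
    exact ⟨W, fst, w, hpb, h1⟩
  · obtain ⟨W, fst, w, hpb, h1, h2, h3⟩ := exists_rep_sep_lqf a f g b sq hg ha ξ
    exact ⟨W, fst, w, hpb, ⟨h2, h3⟩⟩

end Groth.Agent.Lib.Helper28.SheafDesc
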