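import Groth.Agent.Lib.Helper28.EffDesc.Glue
import Groth.Agent.Lib.Helper22.ActionPts

/-!
# Effective descent (helper28): associated bundles `X ×^G Z` for `Z` affine over the base

For a principal `G`-bundle `f : X ⟶ Y` (flat, surjective, quasi-compact, `G × X ≅ X ×_Y X`) and an action of `G` on
`Z` affine over the base, the diagonal action on `X × Z` defines a descent datum on `X × Z ⟶ X` relative to `f`; it is
effective, which gives the associated bundle.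
-/

set_option autoImplicit false
set_option maxHeartbeats 1600000
set_option backward.isDefEq.respectTransparency false
set_option backward.isDefEq.respectTransparency.types false
universe u
open CategoryTheory CategoryTheory.Limits AlgebraicGeometry MonoidalCategory CartesianMonoidalCategory
  MonObj GrpObj

namespace Groth.Agent.Lib.Helper28.EffDesc

open Desc Groth.Agent.Lib.Helper22

section

variable {S : Scheme.{u}} {G X Y : Over S} [GrpObj G] (a : AlgGrp.Action G X) (f : X ⟶ Y)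
  (hsq : IsPullback a.act.left (snd G X).left f.left f.left)

include hsq in
theorem exists_tr {T : Over S} (x₀ x₁ : T ⟶ X) (h : x₀ ≫ f = x₁ ≫ f) :
    ∃ g : T ⟶ G, smul a g x₀ = x₁ ∧ ∀ g' : T ⟶ G, smul a g' x₀ = x₁ → g' = g := by
  have hl : x₁.left ≫ f.left = x₀.left ≫ f.left := by
    rw [← Over.comp_left, ← Over.comp_left, h]
  obtain ⟨c, hc1, hc2⟩ : ∃ c : T.left ⟶ (G ⊗ X).left, c ≫ a.act.left = x₁.left ∧
      c ≫ (snd G X).left = x₀.left :=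
    ⟨hsq.lift x₁.left x₀.left hl, hsq.lift_fst _ _ _, hsq.lift_snd _ _ _⟩
  have hcw : c ≫ (G ⊗ X).hom = T.hom := by
    rw [← Over.w (snd G X), ← Category.assoc, hc2, Over.w x₀]
  obtain ⟨c', hc'⟩ : ∃ c' : T ⟶ G ⊗ X, c'.left = c := ⟨Over.homMk c hcw, rfl⟩
  have e1 : c' ≫ a.act = x₁ := by
    apply Over.OverMorphism.ext
    rw [Over.comp_left, hc', hc1]
  have e2 : c' ≫ snd G X = x₀ := by
    apply Over.OverMorphism.ext
    rw [Over.comp_left, hc', hc2]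
  refine ⟨c' ≫ fst G X, ?_, ?_⟩
  · have e3 : lift (c' ≫ fst G X) x₀ = c' := by
      rw [← e2]; exact lift_comp_fst_snd c'
    rw [smul_def, e3, e1]
  · intro g' hg'
    have e4 : lift g' x₀ = c' := by
      apply Over.OverMorphism.ext
      apply hsq.hom_ext
      · rw [hc', hc1, ← Over.comp_left, ← smul_def, hg']
      · rw [hc', hc2, ← Over.comp_left, lift_snd]
    rw [← e4, lift_fst]

/-- the group element translating `x₀` to `x₁` -/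
noncomputable def tr {T : Over S} (x₀ x₁ : T ⟶ X) (h : x₀ ≫ f = x₁ ≫ f) : T ⟶ G :=
  (exists_tr a f hsq x₀ x₁ h).choose

theorem smul_tr {T : Over S} (x₀ x₁ : T ⟶ X) (h : x₀ ≫ f = x₁ ≫ f) :
    smul a (tr a f hsq x₀ x₁ h) x₀ = x₁ :=
  (exists_tr a f hsq x₀ x₁ h).choose_spec.1

theorem tr_unique {T : Over S} (x₀ x₁ : T ⟶ X) (h : x₀ ≫ f = x₁ ≫ f) (g' : T ⟶ G)
    (hg' : smul a g' x₀ = x₁) : g' = tr a f hsq x₀ x₁ h :=
  (exists_tr a f hsq x₀ x₁ h).choose_spec.2 g' hg'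

theorem tr_self {T : Over S} (x : T ⟶ X) : tr a f hsq x x rfl = 1 :=
  (tr_unique a f hsq x x rfl 1 (pt_one_smul a x)).symm

theorem tr_comp {T : Over S} (x₀ x₁ x₂ : T ⟶ X) (h₀₁ : x₀ ≫ f = x₁ ≫ f) (h₁₂ : x₁ ≫ f = x₂ ≫ f) :
    tr a f hsq x₁ x₂ h₁₂ * tr a f hsq x₀ x₁ h₀₁ = tr a f hsq x₀ x₂ (h₀₁.trans h₁₂) :=
  tr_unique a f hsq x₀ x₂ _ _ (by rw [pt_mul_smul, smul_tr, smul_tr])

theorem comp_tr {T T' : Over S} (s : T' ⟶ T) (x₀ x₁ : T ⟶ X) (h : x₀ ≫ f = x₁ ≫ f)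
    (h' : (s ≫ x₀) ≫ f = (s ≫ x₁) ≫ f) :
    s ≫ tr a f hsq x₀ x₁ h = tr a f hsq (s ≫ x₀) (s ≫ x₁) h' :=
  tr_unique a f hsq _ _ h' _ (by rw [← comp_smul, smul_tr])

variable {Z : Over S} (b : AlgGrp.Action G Z)

/-- the gluing map on points of `X × Z` -/
noncomputable def Psi {T : Over S} (x₀ x₁ : T ⟶ X) (h : x₀ ≫ f = x₁ ≫ f) (w : T ⟶ X ⊗ Z) :
    T ⟶ X ⊗ Z :=
  lift x₁ (smul b (tr a f hsq x₀ x₁ h) (w ≫ snd X Z))

theorem Psi_fst {T : Over S} (x₀ x₁ : T ⟶ X) (h : x₀ ≫ f = x₁ ≫ f) (w : T ⟶ X ⊗ Z) :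
    Psi a f hsq b x₀ x₁ h w ≫ fst X Z = x₁ := lift_fst _ _

theorem Psi_self {T : Over S} (x : T ⟶ X) (w : T ⟶ X ⊗ Z) (hw : w ≫ fst X Z = x) :
    Psi a f hsq b x x rfl w = w := by
  unfold Psi
  rw [tr_self, pt_one_smul, ← hw]
  exact lift_comp_fst_snd w

theorem Psi_comp {T : Over S} (x₀ x₁ x₂ : T ⟶ X) (h₀₁ : x₀ ≫ f = x₁ ≫ f) (h₁₂ : x₁ ≫ f = x₂ ≫ f)
    (w : T ⟶ X ⊗ Z) :
    Psi a f hsq b x₁ x₂ h₁₂ (Psi a f hsq b x₀ x₁ h₀₁ w) = Psi a f hsq b x₀ x₂ (h₀₁.trans h₁₂) w := by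
  unfold Psi
  rw [lift_snd, ← pt_mul_smul, tr_comp]

theorem comp_Psi {T T' : Over S} (s : T' ⟶ T) (x₀ x₁ : T ⟶ X) (h : x₀ ≫ f = x₁ ≫ f)
    (h' : (s ≫ x₀) ≫ f = (s ≫ x₁) ≫ f) (w : T ⟶ X ⊗ Z) :
    s ≫ Psi a f hsq b x₀ x₁ h w = Psi a f hsq b (s ≫ x₀) (s ≫ x₁) h' (s ≫ w) := by
  unfold Psi
  rw [comp_lift, comp_smul, comp_tr a f hsq s x₀ x₁ h h', Category.assoc]

theorem hom_v {T : Scheme.{u}} (t : T ⟶ S) (x₀ : T ⟶ X.left) (h₀ : x₀ ≫ X.hom = t)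
    (v : T ⟶ (X ⊗ Z).left) (hv : v ≫ (fst X Z).left = x₀) : v ≫ (X ⊗ Z).hom = (Over.mk t).hom := by
  rw [← Over.w (fst X Z), ← Category.assoc, hv, h₀]
  rfl

/-- the gluing map on scheme-valued points -/
noncomputable def PhiAux {T : Scheme.{u}} (t : T ⟶ S) (x₀ x₁ : T ⟶ X.left) (h₀ : x₀ ≫ X.hom = t)
    (h₁ : x₁ ≫ X.hom = t) (h : x₀ ≫ f.left = x₁ ≫ f.left) (v : T ⟶ (X ⊗ Z).left)
    (hv : v ≫ (fst X Z).left = x₀) : T ⟶ (X ⊗ Z).left :=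
  (Psi a f hsq b (Over.homMk x₀ h₀ : Over.mk t ⟶ X) (Over.homMk x₁ h₁) (Over.OverMorphism.ext h)
    (Over.homMk v (hom_v t x₀ h₀ v hv))).left

theorem PhiAux_fst {T : Scheme.{u}} (t : T ⟶ S) (x₀ x₁ : T ⟶ X.left) (h₀ : x₀ ≫ X.hom = t)
    (h₁ : x₁ ≫ X.hom = t) (h : x₀ ≫ f.left = x₁ ≫ f.left) (v : T ⟶ (X ⊗ Z).left)
    (hv : v ≫ (fst X Z).left = x₀) :
    PhiAux a f hsq b t x₀ x₁ h₀ h₁ h v hv ≫ (fst X Z).left = x₁ := by
  unfold PhiAux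
  rw [← Over.comp_left, Psi_fst]
  rfl

theorem PhiAux_congr_t {T : Scheme.{u}} (t t' : T ⟶ S) (e : t = t') (x₀ x₁ : T ⟶ X.left)
    (h₀ : x₀ ≫ X.hom = t) (h₁ : x₁ ≫ X.hom = t) (h : x₀ ≫ f.left = x₁ ≫ f.left)
    (v : T ⟶ (X ⊗ Z).left) (hv : v ≫ (fst X Z).left = x₀) :
    PhiAux a f hsq b t x₀ x₁ h₀ h₁ h v hv =
      PhiAux a f hsq b t' x₀ x₁ (h₀.trans e) (h₁.trans e) h v hv := by
  subst e; rfl

theorem PhiAux_self {T : Scheme.{u}} (t : T ⟶ S) (x : T ⟶ X.left) (h₀ : x ≫ X.hom = t)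
    (v : T ⟶ (X ⊗ Z).left) (hv : v ≫ (fst X Z).left = x) :
    PhiAux a f hsq b t x x h₀ h₀ rfl v hv = v := by
  unfold PhiAux
  rw [Psi_self]
  · rfl
  · apply Over.OverMorphism.ext
    exact hv

theorem PhiAux_comp {T : Scheme.{u}} (t : T ⟶ S) (x₀ x₁ x₂ : T ⟶ X.left) (h₀ : x₀ ≫ X.hom = t)
    (h₁ : x₁ ≫ X.hom = t) (h₂ : x₂ ≫ X.hom = t) (h₀₁ : x₀ ≫ f.left = x₁ ≫ f.left)
    (h₁₂ : x₁ ≫ f.left = x₂ ≫ f.left) (v : T ⟶ (X ⊗ Z).left) (hv : v ≫ (fst X Z).left = x₀) :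
    PhiAux a f hsq b t x₁ x₂ h₁ h₂ h₁₂ (PhiAux a f hsq b t x₀ x₁ h₀ h₁ h₀₁ v hv)
      (PhiAux_fst a f hsq b t x₀ x₁ h₀ h₁ h₀₁ v hv) =
    PhiAux a f hsq b t x₀ x₂ h₀ h₂ (h₀₁.trans h₁₂) v hv := by
  unfold PhiAux
  exact congrArg (fun m : Over.mk t ⟶ X ⊗ Z => m.left)
    (Psi_comp a f hsq b (Over.homMk x₀ h₀ : Over.mk t ⟶ X) (Over.homMk x₁ h₁) (Over.homMk x₂ h₂)
      (Over.OverMorphism.ext h₀₁) (Over.OverMorphism.ext h₁₂) (Over.homMk v (hom_v t x₀ h₀ v hv)))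

theorem comp_PhiAux {T T' : Scheme.{u}} (g : T' ⟶ T) (t : T ⟶ S) (t' : T' ⟶ S) (ht : g ≫ t = t')
    (x₀ x₁ : T ⟶ X.left) (h₀ : x₀ ≫ X.hom = t) (h₁ : x₁ ≫ X.hom = t)
    (h : x₀ ≫ f.left = x₁ ≫ f.left) (v : T ⟶ (X ⊗ Z).left) (hv : v ≫ (fst X Z).left = x₀)
    (h₀' : (g ≫ x₀) ≫ X.hom = t') (h₁' : (g ≫ x₁) ≫ X.hom = t')
    (h' : (g ≫ x₀) ≫ f.left = (g ≫ x₁) ≫ f.left) (hv' : (g ≫ v) ≫ (fst X Z).left = g ≫ x₀) :
    PhiAux a f hsq b t' (g ≫ x₀) (g ≫ x₁) h₀' h₁' h' (g ≫ v) hv' =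
      g ≫ PhiAux a f hsq b t x₀ x₁ h₀ h₁ h v hv := by
  subst ht
  unfold PhiAux
  have key := comp_Psi a f hsq b (Over.homMk g rfl : Over.mk (g ≫ t) ⟶ Over.mk t)
    (Over.homMk x₀ h₀ : Over.mk t ⟶ X) (Over.homMk x₁ h₁) (Over.OverMorphism.ext h)
    (Over.OverMorphism.ext h')
    (Over.homMk v (hom_v t x₀ h₀ v hv))
  exact (congrArg (fun m : Over.mk (g ≫ t) ⟶ X ⊗ Z => m.left) key).symm

theorem PhiAux_of_over {T : Over S} (x₀ x₁ : T ⟶ X) (h : x₀ ≫ f = x₁ ≫ f) (w : T ⟶ X ⊗ Z)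
    (hw : w ≫ fst X Z = x₀) :
    PhiAux a f hsq b T.hom x₀.left x₁.left (Over.w x₀) (Over.w x₁)
      (by rw [← Over.comp_left, ← Over.comp_left, h]) w.left
      (by rw [← Over.comp_left, hw]) = (Psi a f hsq b x₀ x₁ h w).left := rfl

/-- the descent datum on `X × Z ⟶ X` relative to `f` given by the diagonal action -/
noncomputable def assocDD : SchDD f.left where
  obj := Over.mk (fst X Z).left
  φ T x₀ x₁ h :=
    { toFun := fun v => ⟨PhiAux a f hsq b (x₀ ≫ X.hom) x₀ x₁ rfl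
          (by rw [← Over.w f, ← Category.assoc, ← h, Category.assoc]) h v.1 v.2,
        PhiAux_fst a f hsq b _ _ _ _ _ _ _ _⟩
      invFun := fun v => ⟨PhiAux a f hsq b (x₀ ≫ X.hom) x₁ x₀
          (by rw [← Over.w f, ← Category.assoc, ← h, Category.assoc]) rfl h.symm v.1 v.2,
        PhiAux_fst a f hsq b _ _ _ _ _ _ _ _⟩
      left_inv := fun v => by
        apply Subtype.ext
        dsimp only
        rw [PhiAux_comp, PhiAux_self]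
      right_inv := fun v => by
        apply Subtype.ext
        dsimp only
        rw [PhiAux_comp, PhiAux_self] }
  φ_natural := fun T T' g x₀ x₁ h h' v v' hv' => by
    obtain ⟨v'1, hv'2⟩ := v'
    dsimp only at hv'
    subst hv'
    dsimp only [Equiv.coe_fn_mk]
    exact comp_PhiAux a f hsq b g (x₀ ≫ X.hom) ((g ≫ x₀) ≫ X.hom) (Category.assoc _ _ _).symm
      x₀ x₁ rfl _ h v.1 v.2 rfl _ h' hv'2
  φ_self := fun T x v => by
    apply Subtype.ext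
    dsimp only [Equiv.coe_fn_mk]
    exact PhiAux_self a f hsq b _ x rfl v.1 v.2
  φ_comp := fun T x₀ x₁ x₂ h₀₁ h₁₂ v => by
    apply Subtype.ext
    dsimp only [Equiv.coe_fn_mk]
    have e : x₁ ≫ X.hom = x₀ ≫ X.hom := by
      rw [← Over.w f, ← Category.assoc, ← h₀₁, Category.assoc]
    rw [PhiAux_congr_t a f hsq b (x₁ ≫ X.hom) (x₀ ≫ X.hom) e]
    exact PhiAux_comp a f hsq b _ x₀ x₁ x₂ rfl e _ h₀₁ h₁₂ v.1 v.2

theorem assocDD_phi {T : Scheme.{u}} (x₀ x₁ : T ⟶ X.left) (h : x₀ ≫ f.left = x₁ ≫ f.left)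
    (v : Lifts (assocDD a f hsq b).obj x₀) :
    ((assocDD a f hsq b).φ x₀ x₁ h v).1 = PhiAux a f hsq b (x₀ ≫ X.hom) x₀ x₁ rfl
      (by rw [← Over.w f, ← Category.assoc, ← h, Category.assoc]) h v.1 v.2 := rfl

include hsq in
theorem act_f : a.act ≫ f = snd G X ≫ f := by
  apply Over.OverMorphism.ext
  exact hsq.w

include hsq in
/-- **Existence of the associated bundle** `X ×^G Z` for `Z` affine over the base. -/
theorem exists_assocBundle [Flat f.left] [Surjective f.left] [QuasiCompact f.left]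
    [IsAffineHom Z.hom] :
    ∃ (W : Over S) (φ : X ⊗ Z ⟶ W) (ψ : W ⟶ Y),
      lift ((G ◁ fst X Z) ≫ a.act) ((G ◁ snd X Z) ≫ b.act) ≫ φ = snd G (X ⊗ Z) ≫ φ ∧
      IsPullback (fst X Z).left φ.left f.left ψ.left := by
  have haff : IsAffineHom (assocDD a f hsq b).obj.hom := by
    change IsAffineHom (pullback.fst X.hom Z.hom)
    exact MorphismProperty.pullback_fst (P := @IsAffineHom) _ _ inferInstance
  obtain ⟨U, u, q, hpb, hinv⟩ := exists_quot_of_local (assocDD a f hsq b)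
    (fun W => localQuot_affineOpen _ W.2)
  have hpb' : IsPullback (fst X Z).left q f.left u := hpb
  have hq : q ≫ u ≫ Y.hom = (X ⊗ Z).hom := by
    rw [← Category.assoc, ← hpb'.w, Category.assoc, Over.w f, Over.w (fst X Z)]
  refine ⟨Over.mk (u ≫ Y.hom), Over.homMk q hq, Over.homMk u rfl, ?_, hpb'⟩
  apply Over.OverMorphism.ext
  change (lift ((G ◁ fst X Z) ≫ a.act) ((G ◁ snd X Z) ≫ b.act)).left ≫ q =
    (snd G (X ⊗ Z)).left ≫ q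
  have h' : (snd G (X ⊗ Z) ≫ fst X Z) ≫ f = ((G ◁ fst X Z) ≫ a.act) ≫ f := by
    rw [Category.assoc, Category.assoc, act_f a f hsq, ← Category.assoc (G ◁ fst X Z),
      whiskerLeft_snd, Category.assoc]
  have hh : (snd G (X ⊗ Z) ≫ fst X Z).left ≫ f.left = ((G ◁ fst X Z) ≫ a.act).left ≫ f.left := by
    rw [← Over.comp_left, ← Over.comp_left, h']
  obtain ⟨v, hv⟩ : ∃ v : Lifts (assocDD a f hsq b).obj (snd G (X ⊗ Z) ≫ fst X Z).left,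
      v.1 = (snd G (X ⊗ Z)).left := ⟨⟨(snd G (X ⊗ Z)).left, rfl⟩, rfl⟩
  have key := hinv _ _ hh v
  have e0 : ∀ {A B : Over S} (m : A ⟶ B), lift (fst G A) (snd G A ≫ m) = G ◁ m := by
    intro A B m
    apply CartesianMonoidalCategory.hom_ext
    · rw [lift_fst, whiskerLeft_fst]
    · rw [lift_snd, whiskerLeft_snd]
  have e1 : tr a f hsq (snd G (X ⊗ Z) ≫ fst X Z) ((G ◁ fst X Z) ≫ a.act) h' = fst G (X ⊗ Z) := by
    refine (tr_unique a f hsq _ _ h' _ ?_).symm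
    rw [smul_def, e0]
  have e2 : Psi a f hsq b (snd G (X ⊗ Z) ≫ fst X Z) ((G ◁ fst X Z) ≫ a.act) h' (snd G (X ⊗ Z)) =
      lift ((G ◁ fst X Z) ≫ a.act) ((G ◁ snd X Z) ≫ b.act) := by
    unfold Psi
    rw [e1, smul_def, e0]
  have e3 : ((assocDD a f hsq b).φ _ _ hh v).1 =
      (lift ((G ◁ fst X Z) ≫ a.act) ((G ◁ snd X Z) ≫ b.act)).left := by
    rw [assocDD_phi, ← e2]
    obtain ⟨v1, hv2⟩ := v
    dsimp only at hv
    subst hv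
    rw [PhiAux_congr_t a f hsq b _ (G ⊗ (X ⊗ Z)).hom (Over.w (snd G (X ⊗ Z) ≫ fst X Z))]
    exact PhiAux_of_over a f hsq b (snd G (X ⊗ Z) ≫ fst X Z) ((G ◁ fst X Z) ≫ a.act) h'
      (snd G (X ⊗ Z)) rfl
  rw [← e3, ← hv]
  exact key

end

end Groth.Agent.Lib.Helper28.EffDesc
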