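import Groth.Agent.Lib.Helper28.EffDesc.AssocBundle
import Groth.Agent.Lib.Helper14.PerfectGeomRed
import Groth.Agent.Lib.Helper3.SeparatedDescent
import Groth.Agent.S9840

/-!
# Effective descent (helper28): the associated bundle of varieties over an algebraically closed field
-/

set_option autoImplicit false
set_option maxHeartbeats 1600000
set_option backward.isDefEq.respectTransparency false
set_option backward.isDefEq.respectTransparency.types false
universe u
open CategoryTheory CategoryTheory.Limits AlgebraicGeometry MonoidalCategory CartesianMonoidalCategory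
  MonObj GrpObj

namespace Groth.Agent.Lib.Helper28.EffDesc

theorem exists_assocBundle_variety (k : Type u) [Field k] [IsAlgClosed k]
    (G X Y Z : Over (Spec (CommRingCat.of k))) [GrpObj G]
    [IsReduced X.left] [QuasiCompact X.hom]
    [IsSeparated Y.hom] [LocallyOfFiniteType Y.hom]
    [IsReduced Z.left] [IsAffine Z.left] [LocallyOfFiniteType Z.hom]
    (a : AlgGrp.Action G X) (f : X ⟶ Y) [Flat f.left] [Surjective f.left]
    (hsq : IsPullback a.act.left (snd G X).left f.left f.left) (b : AlgGrp.Action G Z) :
    ∃ (W : Over (Spec (CommRingCat.of k))) (φ : X ⊗ Z ⟶ W) (ψ : W ⟶ Y),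
      IsReduced W.left ∧ IsSeparated W.hom ∧ LocallyOfFiniteType W.hom ∧ QuasiCompact W.hom ∧
      lift ((G ◁ fst X Z) ≫ a.act) ((G ◁ snd X Z) ≫ b.act) ≫ φ = snd G (X ⊗ Z) ≫ φ ∧
      IsPullback (fst X Z).left φ.left f.left ψ.left := by
  haveI : QuasiCompact f.left := by
    haveI : QuasiCompact (f.left ≫ Y.hom) := by rw [Over.w f]; infer_instance
    exact QuasiCompact.of_comp f.left Y.hom
  haveI : IsAffineHom Z.hom := inferInstance
  obtain ⟨W, φ, ψ, hinv, hpb⟩ := exists_assocBundle a f hsq b
  have hφflat : Flat φ.left := MorphismProperty.of_isPullback (P := @Flat) hpb inferInstance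
  have hφsurj : Surjective φ.left :=
    MorphismProperty.of_isPullback (P := @Surjective) hpb inferInstance
  have hQ : (@Surjective ⊓ @Flat ⊓ @QuasiCompact : MorphismProperty Scheme.{u}) f.left :=
    ⟨⟨inferInstance, inferInstance⟩, inferInstance⟩
  -- reducedness
  haveI : IsReduced (FBase.bc X.hom k) := by
    unfold FBase.bc
    haveI : IsIso (Spec.map (CommRingCat.ofHom (algebraMap k k))) := by
      have : CommRingCat.ofHom (algebraMap k k) = 𝟙 (CommRingCat.of k) := rfl
      rw [this]; infer_instance
    exact isReduced_of_isOpenImmersion (pullback.fst X.hom (Spec.map (CommRingCat.ofHom (algebraMap k k))))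
  haveI : GeometricallyReduced X.hom :=
    Groth.Agent.Lib.Helper14.PerfectGeomRed.geometricallyReduced_of_perfect X.hom k
  haveI hredV : IsReduced (X ⊗ Z).left :=
    Groth.Agent.Lib.Helper6.GeomReducedProd.isReduced_pullback X.hom Z.hom
  have hred : IsReduced W.left := Groth.Agent.S9840.result φ.left
  -- separatedness and finite type by descent
  have hfst_aff : IsAffineHom (fst X Z).left := by
    change IsAffineHom (pullback.fst X.hom Z.hom)
    exact MorphismProperty.pullback_fst (P := @IsAffineHom) _ _ inferInstance
  have hfst_sep : IsSeparated (fst X Z).left := inferInstance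
  have hfst_lft : LocallyOfFiniteType (fst X Z).left := by
    change LocallyOfFiniteType (pullback.fst X.hom Z.hom)
    exact MorphismProperty.pullback_fst (P := @LocallyOfFiniteType) _ _ inferInstance
  have hψsep : IsSeparated ψ.left :=
    MorphismProperty.of_isPullback_of_descendsAlong (P := @IsSeparated)
      (Q := (@Surjective ⊓ @Flat ⊓ @QuasiCompact : MorphismProperty Scheme.{u})) hpb hQ hfst_sep
  have hψlft : LocallyOfFiniteType ψ.left :=
    MorphismProperty.of_isPullback_of_descendsAlong (P := @LocallyOfFiniteType)
      (Q := (@Surjective ⊓ @Flat ⊓ @QuasiCompact : MorphismProperty Scheme.{u})) hpb hQ hfst_lft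
  have hWsep : IsSeparated W.hom := by rw [← Over.w ψ]; infer_instance
  have hWlft : LocallyOfFiniteType W.hom := by rw [← Over.w ψ]; infer_instance
  -- quasi-compactness
  have hWqc : QuasiCompact W.hom := by
    haveI : QuasiCompact (X ⊗ Z).hom := by
      have : QuasiCompact (pullback.fst X.hom Z.hom ≫ X.hom) := by
        haveI : QuasiCompact (pullback.fst X.hom Z.hom) :=
          MorphismProperty.pullback_fst (P := @QuasiCompact) _ _ inferInstance
        infer_instance
      exact this
    haveI : CompactSpace (X ⊗ Z).left := QuasiCompact.compactSpace_of_compactSpace (X ⊗ Z).hom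
    haveI : CompactSpace W.left := by
      have hs : Function.Surjective φ.left := φ.left.surjective
      have := isCompact_range φ.left.continuous
      rw [hs.range_eq] at this
      exact isCompact_univ_iff.mp this
    infer_instance
  exact ⟨W, φ, ψ, hred, hWsep, hWlft, hWqc, hinv, hpb⟩

end Groth.Agent.Lib.Helper28.EffDesc
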