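import Groth.Agent.Lib.Helper28.EffDesc.AssocBundle
import Groth.Agent.Lib.Helper28.GIT2.TorsorGeomQuot
import Groth.Prelude.Def_ChGrp

/-!
# Effective descent (helper28): the associated bundle of an fpqc torsor under an affine group over a field
-/

set_option autoImplicit false
set_option maxHeartbeats 1600000
set_option backward.isDefEq.respectTransparency false
set_option backward.isDefEq.respectTransparency.types false
universe u
open CategoryTheory CategoryTheory.Limits AlgebraicGeometry MonoidalCategory CartesianMonoidalCategory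
  MonObj GrpObj

namespace Groth.Agent.Lib.Helper28.EffDesc

open Groth.Agent.Lib.Helper22 Groth.Agent.Lib.Helper29

section

variable {S : Scheme.{u}} {G X Y Z : Over S} [GrpObj G] (a : AlgGrp.Action G X) (f : X ⟶ Y)
  (hsq : IsPullback a.act.left (snd G X).left f.left f.left) (b : AlgGrp.Action G Z)

theorem smul_prod_fst {T : Over S} (g : T ⟶ G) (w : T ⟶ X ⊗ Z) :
    smul (a.prod b) g w ≫ fst X Z = smul a g (w ≫ fst X Z) := by
  rw [smul_def, smul_def, Category.assoc, AlgGrp.Action.prod_act, lift_fst, ← Category.assoc,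
    lift_whiskerLeft]

include hsq in
/-- the quotient map of the associated bundle is a pseudo-torsor -/
theorem torsor_of_assocBundle {W : Over S} (φ : X ⊗ Z ⟶ W) (ψ : W ⟶ Y)
    (hinv : (a.prod b).act ≫ φ = snd G (X ⊗ Z) ≫ φ)
    (hpb : IsPullback (fst X Z).left φ.left f.left ψ.left) :
    IsPullback (a.prod b).act (snd G (X ⊗ Z)) φ φ := by
  have hφψ : φ ≫ ψ = fst X Z ≫ f := by
    apply Over.OverMorphism.ext
    exact hpb.w.symm
  have hmono : ∀ {T : Over S} (u v : T ⟶ X ⊗ Z), u ≫ fst X Z = v ≫ fst X Z → u ≫ φ = v ≫ φ →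
      u = v := by
    intro T u v h1 h2
    apply Over.OverMorphism.ext
    apply hpb.hom_ext
    · rw [← Over.comp_left, ← Over.comp_left, h1]
    · rw [← Over.comp_left, ← Over.comp_left, h2]
  refine TorsorComp.isPullback_of_existsUnique hinv (fun T w₁ w₂ hw => ?_)
  have hx : (w₂ ≫ fst X Z) ≫ f = (w₁ ≫ fst X Z) ≫ f := by
    rw [Category.assoc, Category.assoc, ← hφψ, ← Category.assoc, ← Category.assoc, hw]
  have hg := smul_tr a f hsq (w₂ ≫ fst X Z) (w₁ ≫ fst X Z) hx
  refine ⟨lift (tr a f hsq (w₂ ≫ fst X Z) (w₁ ≫ fst X Z) hx) w₂, ⟨?_, lift_snd _ _⟩, ?_⟩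
  · rw [← smul_def]
    apply hmono
    · rw [smul_prod_fst, hg]
    · rw [smul_def, Category.assoc, hinv, ← Category.assoc, lift_snd, hw]
  · rintro m ⟨hm1, hm2⟩
    have e1 : m = lift (m ≫ fst G (X ⊗ Z)) w₂ := by
      rw [← hm2]; exact (lift_comp_fst_snd m).symm
    have e2 : smul (a.prod b) (m ≫ fst G (X ⊗ Z)) w₂ = w₁ := by
      rw [smul_def, ← e1, hm1]
    have e3 : smul a (m ≫ fst G (X ⊗ Z)) (w₂ ≫ fst X Z) = w₁ ≫ fst X Z := by
      rw [← smul_prod_fst a b, e2]
    rw [e1, tr_unique a f hsq _ _ hx _ e3]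

end

/-- **The associated bundle of an fpqc torsor** under an affine group scheme over a field, with affine fibre. -/
theorem assocBundle_torsor (k : Type u) [Field k]
    (G X Y F : Over (Spec (CommRingCat.of k))) [GrpObj G] [IsAffine G.left]
    (a : AlgGrp.Action G X) (φ : X ⟶ Y)
    (hcart : IsPullback a.act (snd G X) φ φ)
    (hloc : NonAbH1.IsLocallyTrivialFor Scheme.fpqcPrecoverage (Over.mk φ.left : Over Y.left))
    [IsAffine F.left] (b : AlgGrp.Action G F) :
    ∃ (Q : Over (Spec (CommRingCat.of k))) (q : X ⊗ F ⟶ Q) (r : Q ⟶ Y),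
      q ≫ r = fst X F ≫ φ ∧
      IsPullback (a.prod b).act (snd G (X ⊗ F)) q q ∧
      NonAbH1.IsLocallyTrivialFor Scheme.fpqcPrecoverage (Over.mk q.left : Over Q.left) ∧
      IsAffineHom q.left ∧ GIT.IsGeomQuot (a.prod b) q := by
  have Pq' : IsPullback a.act.left (snd G X).left φ.left φ.left := hcart.map (Over.forget _)
  -- `φ` is flat, surjective and quasi-compact
  obtain ⟨haff, hgq⟩ := TorsorGeomQuot.main k G X Y a φ hcart hloc
  have hsurj : Surjective φ.left := ⟨hgq.surj⟩
  have hqc : QuasiCompact φ.left := inferInstance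
  have hflat : Flat φ.left := by
    obtain ⟨R, hR, hsec⟩ := hloc
    obtain ⟨κ, V, π, rfl⟩ := R.exists_eq_ofArrows
    choose s hs using fun l => hsec (π l) ⟨l⟩
    have hs' : ∀ l, s l ≫ φ.left = π l := hs
    have hG : Flat G.hom := inferInstance
    have h1 : Flat (pullback.snd G.hom X.hom) :=
      MorphismProperty.pullback_snd (P := @Flat) _ _ hG
    have h2 : Flat (pullback.snd φ.left φ.left) := by
      have e : Pq'.isoPullback.hom ≫ pullback.snd φ.left φ.left = (snd G X).left :=
        Pq'.isoPullback_hom_snd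
      rw [← MorphismProperty.cancel_left_of_respectsIso @Flat Pq'.isoPullback.hom, e]
      exact h1
    refine TorsorDesc.of_fpqc @Flat φ.left hR (fun {U} g hg => ?_)
    obtain ⟨l⟩ := hg
    rw [TorsorDesc.snd_congr @Flat φ.left (hs' l).symm]
    exact TorsorDesc.snd_comp @Flat φ.left φ.left (s l) h2
  have hFaff : IsAffineHom F.hom := inferInstance
  obtain ⟨Q, q, r, hinv, hpb⟩ := exists_assocBundle a φ Pq' b
  have h2 : IsPullback (a.prod b).act (snd G (X ⊗ F)) q q :=
    torsor_of_assocBundle a φ Pq' b q r hinv hpb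
  have hqflat : Flat q.left := MorphismProperty.of_isPullback (P := @Flat) hpb inferInstance
  have hqsurj : Surjective q.left :=
    MorphismProperty.of_isPullback (P := @Surjective) hpb inferInstance
  have hqqc : QuasiCompact q.left :=
    MorphismProperty.of_isPullback (P := @QuasiCompact) hpb inferInstance
  have h3 : NonAbH1.IsLocallyTrivialFor Scheme.fpqcPrecoverage (Over.mk q.left : Over Q.left) := by
    refine ⟨Presieve.singleton q.left, Scheme.Hom.singleton_mem_fpqcPrecoverage q.left, ?_⟩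
    intro S' g hg
    obtain ⟨⟩ := hg
    exact ⟨𝟙 _, Category.id_comp _⟩
  obtain ⟨h4, h5⟩ := TorsorGeomQuot.main k G (X ⊗ F) Q (a.prod b) q h2 h3
  refine ⟨Q, q, r, ?_, h2, h3, h4, h5⟩
  apply Over.OverMorphism.ext
  exact hpb.w.symm

end Groth.Agent.Lib.Helper28.EffDesc
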