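import Groth.Agent.Lib.Helper28.EffDesc.LocalEff

/-!
# Effective descent (helper28): descent data relative to a morphism with local sections are effective

If `p : X ⟶ S` has a section `s` over an open `W` of `S`, the preimage `O` of `W` in the total space of a descent
datum `D` is stable and has the quotient `O ⟶ D.obj.left ×_X W` (transport along the section).  These local quotients
glue (`exists_quot_of_cover`).
-/

set_option autoImplicit false
set_option maxHeartbeats 1600000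
set_option backward.isDefEq.respectTransparency false
set_option backward.isDefEq.respectTransparency.types false
universe u
open CategoryTheory CategoryTheory.Limits AlgebraicGeometry

namespace Groth.Agent.Lib.Helper28.EffDesc

open Desc

lemma isPullback_of_ex_uniq {C : Type*} [Category C] {W X Y Z : C} {fst : W ⟶ X}
    {snd : W ⟶ Y} {f : X ⟶ Z} {g : Y ⟶ Z} (w : fst ≫ f = snd ≫ g)
    (hex : ∀ {T : C} (a : T ⟶ X) (b : T ⟶ Y), a ≫ f = b ≫ g →
      ∃ l : T ⟶ W, l ≫ fst = a ∧ l ≫ snd = b)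
    (huniq : ∀ {T : C} (l l' : T ⟶ W), l ≫ fst = l' ≫ fst → l ≫ snd = l' ≫ snd → l = l') :
    IsPullback fst snd f g :=
  ⟨⟨w⟩, ⟨PullbackCone.IsLimit.mk w (fun s => (hex s.fst s.snd s.condition).choose)
    (fun s => (hex s.fst s.snd s.condition).choose_spec.1)
    (fun s => (hex s.fst s.snd s.condition).choose_spec.2)
    (fun s m h1 h2 => huniq _ _ (h1.trans (hex s.fst s.snd s.condition).choose_spec.1.symm)
      (h2.trans (hex s.fst s.snd s.condition).choose_spec.2.symm))⟩⟩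

variable {X S : Scheme.{u}} {p : X ⟶ S}

/-- the preimage of an open of the base is stable -/
theorem stable_preimage (D : SchDD p) (W : S.Opens) : Stable D ((D.obj.hom ≫ p) ⁻¹ᵁ W) := by
  intro T x₀ x₁ h v hv
  rintro _ ⟨t, rfl⟩
  have e : (D.φ x₀ x₁ h v).1 ≫ D.obj.hom ≫ p = v.1 ≫ D.obj.hom ≫ p := by
    have e1 : (D.φ x₀ x₁ h v).1 ≫ D.obj.hom = x₁ := phi_hom D x₀ x₁ h v
    have e2 : v.1 ≫ D.obj.hom = x₀ := v.2
    rw [← Category.assoc, e1, ← Category.assoc, e2, h]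
  have h1 : v.1 t ∈ (D.obj.hom ≫ p) ⁻¹ᵁ W := hv ⟨t, rfl⟩
  have h2 : (D.obj.hom ≫ p) (v.1 t) ∈ W := h1
  change (D.obj.hom ≫ p) ((D.φ x₀ x₁ h v).1 t) ∈ W
  rw [← Scheme.Hom.comp_apply] at h2 ⊢
  rw [e]
  exact h2

/-- over an open of the base over which `p` has a section, the descent datum has a quotient -/
theorem quotOn_of_section (D : SchDD p) (O : D.obj.left.Opens) (hO : Stable D O) (W : S.Opens)
    (hOW : O = (D.obj.hom ≫ p) ⁻¹ᵁ W) (s : (W : Scheme.{u}) ⟶ X) (hs : s ≫ p = W.ι) :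
    QuotOn D O hO := by
  have hmem : ∀ z : D.obj.left, z ∈ O ↔ (D.obj.hom ≫ p) z ∈ W := by
    intro z
    rw [hOW]
    rfl
  obtain ⟨c, hc⟩ : ∃ c : (O : Scheme.{u}) ⟶ (W : Scheme.{u}), c ≫ W.ι = O.ι ≫ D.obj.hom ≫ p := by
    refine ⟨IsOpenImmersion.lift W.ι (O.ι ≫ D.obj.hom ≫ p) ?_, IsOpenImmersion.lift_fac _ _ _⟩
    rw [Scheme.Opens.range_ι]
    rintro _ ⟨z, rfl⟩
    rw [Scheme.Hom.comp_apply]
    exact (hmem _).mp z.2
  have h10 : (O.ι ≫ D.obj.hom) ≫ p = (c ≫ s) ≫ p := by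
    rw [Category.assoc, Category.assoc, hs, hc]
  obtain ⟨m, hm⟩ : ∃ m : (O : Scheme.{u}) ⟶ D.obj.left,
      m = (D.φ (O.ι ≫ D.obj.hom) (c ≫ s) h10 ⟨O.ι, rfl⟩).1 := ⟨_, rfl⟩
  have hma : m ≫ D.obj.hom = c ≫ s := by
    rw [hm]
    exact phi_hom D _ _ h10 _
  have hmt : ∀ {T : Scheme.{u}} (t : T ⟶ (O : Scheme.{u})) (x₀ x₁ : T ⟶ X)
      (h : x₀ ≫ p = x₁ ≫ p) (v : Lifts D.obj x₀), t ≫ O.ι = v.1 → t ≫ c ≫ s = x₁ →
      t ≫ m = (D.φ x₀ x₁ h v).1 := by
    intro T t x₀ x₁ h v hv hx₁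
    have hx₀ : t ≫ O.ι ≫ D.obj.hom = x₀ := by
      rw [← Category.assoc, hv]
      exact v.2
    rw [hm]
    exact (phi_natural' D t (O.ι ≫ D.obj.hom) (c ≫ s) h10 x₀ x₁ hx₀ hx₁ h ⟨O.ι, rfl⟩ v hv.symm).symm
  obtain ⟨q, hq1, hq2⟩ : ∃ q : (O : Scheme.{u}) ⟶ pullback D.obj.hom s,
      q ≫ pullback.fst D.obj.hom s = m ∧ q ≫ pullback.snd D.obj.hom s = c :=
    ⟨pullback.lift m c hma, pullback.lift_fst _ _ _, pullback.lift_snd _ _ _⟩
  refine ⟨pullback D.obj.hom s, pullback.snd D.obj.hom s ≫ W.ι, q, ?_, ?_⟩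
  · refine isPullback_of_ex_uniq ?_ ?_ ?_
    · rw [← Category.assoc q, hq2, hc, Category.assoc]
    · intro T x y hxy
      have hz : (y ≫ pullback.snd D.obj.hom s ≫ s) ≫ p = x ≫ p := by
        rw [Category.assoc, Category.assoc, hs, hxy]
      obtain ⟨v₀, hv₀⟩ : ∃ v₀ : Lifts D.obj (y ≫ pullback.snd D.obj.hom s ≫ s),
          v₀.1 = y ≫ pullback.fst D.obj.hom s := by
        refine ⟨⟨y ≫ pullback.fst D.obj.hom s, ?_⟩, rfl⟩
        rw [Category.assoc, pullback.condition]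
      have hφx : (D.φ _ _ hz v₀).1 ≫ D.obj.hom = x := phi_hom D _ _ hz v₀
      have hrange : Set.range (D.φ _ _ hz v₀).1 ⊆ Set.range O.ι := by
        rw [Scheme.Opens.range_ι]
        rintro _ ⟨t, rfl⟩
        refine (hmem _).mpr ?_
        have e : (D.φ _ _ hz v₀).1 ≫ D.obj.hom ≫ p = y ≫ pullback.snd D.obj.hom s ≫ W.ι := by
          rw [← Category.assoc, hφx, hxy]
        rw [← Scheme.Hom.comp_apply, e, Scheme.Hom.comp_apply, Scheme.Hom.comp_apply]
        exact ((pullback.snd D.obj.hom s) (y t)).2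
      obtain ⟨w, hw⟩ : ∃ w : T ⟶ (O : Scheme.{u}), w ≫ O.ι = (D.φ _ _ hz v₀).1 :=
        ⟨IsOpenImmersion.lift O.ι _ hrange, IsOpenImmersion.lift_fac _ _ _⟩
      have hwx : w ≫ O.ι ≫ D.obj.hom = x := by
        rw [← Category.assoc, hw]
        exact hφx
      have hwc : w ≫ c = y ≫ pullback.snd D.obj.hom s := by
        have e1 : (w ≫ O.ι ≫ D.obj.hom) ≫ p = x ≫ p := by rw [hwx]
        simp only [Category.assoc] at e1
        rw [← cancel_mono W.ι]
        simp only [Category.assoc]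
        rw [hc, e1, hxy]
      have hwcs : w ≫ c ≫ s = y ≫ pullback.snd D.obj.hom s ≫ s := by
        simpa only [Category.assoc] using congrArg (fun g => g ≫ s) hwc
      refine ⟨w, hwx, ?_⟩
      apply pullback.hom_ext
      · rw [Category.assoc, hq1]
        have e := hmt w x (y ≫ pullback.snd D.obj.hom s ≫ s) hz.symm (D.φ _ _ hz v₀) hw hwcs
        rw [e, D.φ_comp, D.φ_self, hv₀]
      · rw [Category.assoc, hq2, hwc]
    · intro T l l' h1 h2
      have hcc : l ≫ c = l' ≫ c := by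
        have := congrArg (fun g => g ≫ pullback.snd D.obj.hom s) h2
        simpa only [Category.assoc, hq2] using this
      have hmm : l ≫ m = l' ≫ m := by
        have := congrArg (fun g => g ≫ pullback.fst D.obj.hom s) h2
        simpa only [Category.assoc, hq1] using this
      have hp1 : (l ≫ O.ι ≫ D.obj.hom) ≫ p = (l ≫ c ≫ s) ≫ p := by
        simp only [Category.assoc]
        rw [hs, hc]
      obtain ⟨v, hv⟩ : ∃ v : Lifts D.obj (l ≫ O.ι ≫ D.obj.hom), v.1 = l ≫ O.ι :=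
        ⟨⟨l ≫ O.ι, Category.assoc _ _ _⟩, rfl⟩
      obtain ⟨v', hv'⟩ : ∃ v' : Lifts D.obj (l ≫ O.ι ≫ D.obj.hom), v'.1 = l' ≫ O.ι :=
        ⟨⟨l' ≫ O.ι, by rw [Category.assoc]; exact h1.symm⟩, rfl⟩
      have e1 := hmt l _ _ hp1 v hv.symm rfl
      have e2 := hmt l' _ _ hp1 v' hv'.symm
        (by simpa only [Category.assoc] using congrArg (fun g => g ≫ s) hcc.symm)
      have e3 : D.φ _ _ hp1 v = D.φ _ _ hp1 v' := Subtype.ext (e1.symm.trans (hmm.trans e2))
      have e4 : v = v' := (D.φ _ _ hp1).injective e3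
      rw [← cancel_mono O.ι, ← hv, ← hv', e4]
  · intro T x₀ x₁ h v
    obtain ⟨r, hr⟩ : ∃ r : T ⟶ (O : Scheme.{u}), r = ((restrictDD D O hO).φ x₀ x₁ h v).1 :=
      ⟨_, rfl⟩
    obtain ⟨v1, hv1⟩ : ∃ v1 : T ⟶ (O : Scheme.{u}), v1 = v.1 := ⟨_, rfl⟩
    have hrι : r ≫ O.ι = (D.φ x₀ x₁ h (toLifts D O v)).1 := by
      rw [hr]
      exact restrictDD_phi_ι D O hO x₀ x₁ h v
    have hv1ι : v1 ≫ O.ι = (toLifts D O v).1 := congrArg (fun g => g ≫ O.ι) hv1
    have hv2 : v1 ≫ O.ι ≫ D.obj.hom = x₀ := by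
      rw [hv1]
      exact v.2
    have hr2 : r ≫ O.ι ≫ D.obj.hom = x₁ := by
      rw [← Category.assoc, hrι]
      exact phi_hom D _ _ h _
    have hcc : r ≫ c = v1 ≫ c := by
      have e1 : (r ≫ O.ι ≫ D.obj.hom) ≫ p = (v1 ≫ O.ι ≫ D.obj.hom) ≫ p := by rw [hr2, hv2, h]
      rw [← cancel_mono W.ι]
      simp only [Category.assoc]
      rw [hc]
      simpa only [Category.assoc] using e1
    have h₀ : x₀ ≫ p = (v1 ≫ c ≫ s) ≫ p := by
      have e : (v1 ≫ O.ι ≫ D.obj.hom) ≫ p = (v1 ≫ c ≫ s) ≫ p := by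
        simp only [Category.assoc]
        rw [hs, hc]
      exact (congrArg (fun g => g ≫ p) hv2).symm.trans e
    have h₁ : x₁ ≫ p = (v1 ≫ c ≫ s) ≫ p := h.symm.trans h₀
    have e1 := hmt v1 x₀ _ h₀ (toLifts D O v) hv1ι rfl
    have e2 := hmt r x₁ _ h₁ (D.φ x₀ x₁ h (toLifts D O v)) hrι
      (by simpa only [Category.assoc] using congrArg (fun g => g ≫ s) hcc)
    have key : r ≫ q = v1 ≫ q := by
      apply pullback.hom_ext
      · rw [Category.assoc, Category.assoc, hq1, e1, e2, D.φ_comp]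
      · rw [Category.assoc, Category.assoc, hq2, hcc]
    rw [hr, hv1] at key
    exact key

/-- a descent datum with a covering family of stable opens with quotients has a quotient -/
theorem exists_quot_of_forall_quotOn [Flat p] [Surjective p] [QuasiCompact p] (D : SchDD p)
    (h : ∀ v : D.obj.left, ∃ (O : D.obj.left.Opens) (hO : Stable D O), QuotOn D O hO ∧ v ∈ O) :
    ∃ (U : Scheme.{u}) (u : U ⟶ S) (q : D.obj.left ⟶ U), IsPullback D.obj.hom q p u ∧ IsInv D q :=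
  exists_quot_of_cover D
    ⟨{O | ∃ hO : Stable D O, QuotOn D O hO}, fun v => by
        obtain ⟨O, hO, hQ, hv⟩ := h v
        exact ⟨O, ⟨hO, hQ⟩, hv⟩,
      fun O hO O' hO' v hv hv' => by
        obtain ⟨hst, hQ⟩ := hO
        obtain ⟨hst', hQ'⟩ := hO'
        exact ⟨O ⊓ O', ⟨stable_inf hst hst',
          quotOn_of_le D O (O ⊓ O') hst (stable_inf hst hst') inf_le_left hQ⟩, ⟨hv, hv'⟩,
          inf_le_left, inf_le_right⟩⟩
    (fun O hO => hO)

/-- **Descent data relative to a morphism with sections locally on the base are effective.** -/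
theorem exists_quot_of_local_sections [Flat p] [Surjective p] [QuasiCompact p] (D : SchDD p)
    (hsec : ∀ y : S, ∃ (W : S.Opens) (s : (W : Scheme.{u}) ⟶ X), y ∈ W ∧ s ≫ p = W.ι) :
    ∃ (U : Scheme.{u}) (u : U ⟶ S) (q : D.obj.left ⟶ U), IsPullback D.obj.hom q p u ∧ IsInv D q := by
  refine exists_quot_of_forall_quotOn D (fun v => ?_)
  obtain ⟨W, s, hy, hs⟩ := hsec ((D.obj.hom ≫ p) v)
  exact ⟨(D.obj.hom ≫ p) ⁻¹ᵁ W, stable_preimage D W,
    quotOn_of_section D _ (stable_preimage D W) W rfl s hs, hy⟩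

end Groth.Agent.Lib.Helper28.EffDesc
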