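import Groth.Agent.Lib.Helper28.EffDesc.AssocTorsor
import Groth.Agent.Lib.Helper28.EffDesc.Section
import Groth.Prelude.Def_W4bk4git07Quot

/-!
# Effective descent (helper28): the associated bundle of a Zariski locally trivial principal bundle

For a principal `G`-bundle `f : X ⟶ Y` with sections locally on `Y` for the Zariski topology, the associated bundle
`X ×^G Z` exists as a scheme for every `G`-scheme `Z`.
-/

set_option autoImplicit false
set_option maxHeartbeats 1600000
set_option backward.isDefEq.respectTransparency false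
set_option backward.isDefEq.respectTransparency.types false
universe u
open CategoryTheory CategoryTheory.Limits AlgebraicGeometry MonoidalCategory CartesianMonoidalCategory
  MonObj GrpObj

namespace Groth.Agent.Lib.Helper28.EffDesc

open Desc Groth.Agent.Lib.Helper22

section

variable {S : Scheme.{u}} {G X Y : Over S} [GrpObj G] (a : AlgGrp.Action G X) (f : X ⟶ Y)
  (hsq : IsPullback a.act.left (snd G X).left f.left f.left) {Z : Over S} (b : AlgGrp.Action G Z)

/-- a quotient of the descent datum of the diagonal action is the associated bundle -/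
theorem exists_assocBundle_of_quot
    (hq : ∃ (U : Scheme.{u}) (u : U ⟶ Y.left) (q : (assocDD a f hsq b).obj.left ⟶ U),
      IsPullback (assocDD a f hsq b).obj.hom q f.left u ∧ IsInv (assocDD a f hsq b) q) :
    ∃ (W : Over S) (φ : X ⊗ Z ⟶ W) (ψ : W ⟶ Y),
      lift ((G ◁ fst X Z) ≫ a.act) ((G ◁ snd X Z) ≫ b.act) ≫ φ = snd G (X ⊗ Z) ≫ φ ∧
      IsPullback (fst X Z).left φ.left f.left ψ.left := by
  obtain ⟨U, u, q, hpb, hinv⟩ := hq
  have hpb' : IsPullback (fst X Z).left q f.left u := hpb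
  have hq : q ≫ u ≫ Y.hom = (X ⊗ Z).hom := by
    rw [← Category.assoc, ← hpb'.w, Category.assoc, Over.w f, Over.w (fst X Z)]
  refine ⟨Over.mk (u ≫ Y.hom), Over.homMk q hq, Over.homMk u rfl, ?_, hpb'⟩
  apply Over.OverMorphism.ext
  change (lift ((G ◁ fst X Z) ≫ a.act) ((G ◁ snd X Z) ≫ b.act)).left ≫ q =
    (snd G (X ⊗ Z)).left ≫ q
  have h' : (snd G (X ⊗ Z) ≫ fst X Z) ≫ f = ((G ◁ fst X Z) ≫ a.act) ≫ f := by
    rw [Category.assoc, Category.assoc, act_f a f hsq, ← Category.assoc (G ◁ fst X Z),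
      whiskerLeft_snd, Category.assoc]
  have hh : (snd G (X ⊗ Z) ≫ fst X Z).left ≫ f.left = ((G ◁ fst X Z) ≫ a.act).left ≫ f.left := by
    rw [← Over.comp_left, ← Over.comp_left, h']
  obtain ⟨v, hv⟩ : ∃ v : Lifts (assocDD a f hsq b).obj (snd G (X ⊗ Z) ≫ fst X Z).left,
      v.1 = (snd G (X ⊗ Z)).left := ⟨⟨(snd G (X ⊗ Z)).left, rfl⟩, rfl⟩
  have key := hinv _ _ hh v
  have e0 : ∀ {A B : Over S} (m : A ⟶ B), lift (fst G A) (snd G A ≫ m) = G ◁ m := by
    intro A B m
    apply CartesianMonoidalCategory.hom_ext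
    · rw [lift_fst, whiskerLeft_fst]
    · rw [lift_snd, whiskerLeft_snd]
  have e1 : tr a f hsq (snd G (X ⊗ Z) ≫ fst X Z) ((G ◁ fst X Z) ≫ a.act) h' = fst G (X ⊗ Z) := by
    refine (tr_unique a f hsq _ _ h' _ ?_).symm
    rw [smul_def, e0]
  have e2 : Psi a f hsq b (snd G (X ⊗ Z) ≫ fst X Z) ((G ◁ fst X Z) ≫ a.act) h' (snd G (X ⊗ Z)) =
      lift ((G ◁ fst X Z) ≫ a.act) ((G ◁ snd X Z) ≫ b.act) := by
    unfold Psi
    rw [e1, smul_def, e0]
  have e3 : ((assocDD a f hsq b).φ _ _ hh v).1 =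
      (lift ((G ◁ fst X Z) ≫ a.act) ((G ◁ snd X Z) ≫ b.act)).left := by
    rw [assocDD_phi, ← e2]
    obtain ⟨v1, hv2⟩ := v
    dsimp only at hv
    subst hv
    rw [PhiAux_congr_t a f hsq b _ (G ⊗ (X ⊗ Z)).hom (Over.w (snd G (X ⊗ Z) ≫ fst X Z))]
    exact PhiAux_of_over a f hsq b (snd G (X ⊗ Z) ≫ fst X Z) ((G ◁ fst X Z) ≫ a.act) h'
      (snd G (X ⊗ Z)) rfl
  rw [← e3, ← hv]
  exact key

include hsq in
/-- **The associated bundle of a Zariski locally trivial principal bundle exists.** -/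
theorem exists_assocBundle_zariski [Flat f.left] [Surjective f.left] [QuasiCompact f.left]
    (hsec : ∀ y : Y.left, ∃ (W : Y.left.Opens) (s : (W : Scheme.{u}) ⟶ X.left),
      y ∈ W ∧ s ≫ f.left = W.ι) :
    ∃ (W : Over S) (φ : X ⊗ Z ⟶ W) (ψ : W ⟶ Y),
      lift ((G ◁ fst X Z) ≫ a.act) ((G ◁ snd X Z) ≫ b.act) ≫ φ = snd G (X ⊗ Z) ≫ φ ∧
      IsPullback (fst X Z).left φ.left f.left ψ.left :=
  exists_assocBundle_of_quot a f hsq b (exists_quot_of_local_sections (assocDD a f hsq b) hsec)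

end

/-- the diagonal action on `X × U` has a principal bundle quotient when `U ⟶ B` is a Zariski locally trivial
principal bundle -/
theorem principalBundle_prod_of_zariski {S : Scheme.{u}} {G X U B : Over S} [GrpObj G]
    (a : AlgGrp.Action G X) (b : AlgGrp.Action G U) (π : U ⟶ B) (hinv : GIT.IsInvariant b π)
    [Flat π.left] [Surjective π.left] [QuasiCompact π.left] (hcart : IsIso (GIT.PsiY b π hinv))
    (hzar : ∀ y : ↥B.left, ∃ (W : B.left.Opens) (s : (↑W : Scheme.{u}) ⟶ U.left),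
      y ∈ W ∧ s ≫ π.left = W.ι) :
    ∃ (Q : Over S) (ρ : X ⊗ U ⟶ Q) (hρ : GIT.IsInvariant (a.prod b) ρ),
      Flat ρ.left ∧ Surjective ρ.left ∧ IsIso (GIT.PsiY (a.prod b) ρ hρ) := by
  have hsq : IsPullback b.act.left (snd G U).left π.left π.left :=
    IsPullback.of_iso_pullback ⟨hinv.left⟩ (asIso (GIT.PsiY b π hinv))
      (by rw [asIso_hom]; exact pullback.lift_fst _ _ _)
      (by rw [asIso_hom]; exact pullback.lift_snd _ _ _)
  obtain ⟨Q, φ, ψ, hφ, hpb⟩ := exists_assocBundle_zariski b π hsq a hzar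
  have T1 : IsPullback (b.prod a).act (snd G (U ⊗ X)) φ φ :=
    torsor_of_assocBundle b π hsq a φ ψ hφ hpb
  obtain ⟨e, he1, he2⟩ : ∃ e : U ⊗ X ≅ X ⊗ U, e.hom = lift (snd U X) (fst U X) ∧
      e.inv = lift (snd X U) (fst X U) := by
    refine ⟨⟨lift (snd U X) (fst U X), lift (snd X U) (fst X U), ?_, ?_⟩, rfl, rfl⟩
    · apply CartesianMonoidalCategory.hom_ext
      · simp only [Category.assoc, lift_fst, lift_snd, Category.id_comp]
      · simp only [Category.assoc, lift_fst, lift_snd, Category.id_comp]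
    · apply CartesianMonoidalCategory.hom_ext
      · simp only [Category.assoc, lift_fst, lift_snd, Category.id_comp]
      · simp only [Category.assoc, lift_fst, lift_snd, Category.id_comp]
  have hequiv : (b.prod a).act ≫ e.hom = (G ◁ e.hom) ≫ (a.prod b).act := by
    rw [he1, AlgGrp.Action.prod_act, AlgGrp.Action.prod_act]
    apply CartesianMonoidalCategory.hom_ext
    · simp only [Category.assoc, lift_fst, lift_snd]
      rw [← MonoidalCategory.whiskerLeft_comp_assoc, lift_fst]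
    · simp only [Category.assoc, lift_fst, lift_snd]
      rw [← MonoidalCategory.whiskerLeft_comp_assoc, lift_snd]
  have hsnd : snd G (U ⊗ X) ≫ e.hom = (G ◁ e.hom) ≫ snd G (X ⊗ U) := by
    rw [whiskerLeft_snd]
  obtain ⟨ρ, hρdef⟩ : ∃ ρ : X ⊗ U ⟶ Q, ρ = e.inv ≫ φ := ⟨_, rfl⟩
  have T2 : IsPullback (a.prod b).act (snd G (X ⊗ U)) ρ ρ := by
    refine IsPullback.of_iso T1 (whiskerLeftIso G e) e e (Iso.refl _) ?_ ?_ ?_ ?_
    · rw [whiskerLeftIso_hom]
      exact hequiv
    · rw [whiskerLeftIso_hom]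
      exact hsnd
    · rw [Iso.refl_hom, Category.comp_id, hρdef, Iso.hom_inv_id_assoc]
    · rw [Iso.refl_hom, Category.comp_id, hρdef, Iso.hom_inv_id_assoc]
  have hρ : GIT.IsInvariant (a.prod b) ρ := T2.w
  have T2' : IsPullback (a.prod b).act.left (snd G (X ⊗ U)).left ρ.left ρ.left :=
    T2.map (Over.forget _)
  have hiso : IsIso (GIT.PsiY (a.prod b) ρ hρ) := by
    have e' : GIT.PsiY (a.prod b) ρ hρ = T2'.isoPullback.hom := by
      apply pullback.hom_ext
      · rw [T2'.isoPullback_hom_fst]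
        exact pullback.lift_fst _ _ _
      · rw [T2'.isoPullback_hom_snd]
        exact pullback.lift_snd _ _ _
    rw [e']
    infer_instance
  have hφflat : Flat φ.left := MorphismProperty.of_isPullback (P := @Flat) hpb inferInstance
  have hφsurj : Surjective φ.left :=
    MorphismProperty.of_isPullback (P := @Surjective) hpb inferInstance
  have hiso' : IsIso e.inv.left := by
    have : IsIso ((Over.forget S).map e.inv) := inferInstance
    exact this
  have hρl : ρ.left = e.inv.left ≫ φ.left := by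
    rw [hρdef]
    rfl
  refine ⟨Q, ρ, hρ, ?_, ?_, hiso⟩
  · rw [hρl]
    infer_instance
  · rw [hρl]
    infer_instance

end Groth.Agent.Lib.Helper28.EffDesc
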