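import Groth.Agent.Lib.Helper28.EffDesc.GlueAbs

/-!
# Effective descent (helper28): gluing cartesian quotients over a locally directed open cover of the total space
-/

set_option autoImplicit false
set_option maxHeartbeats 1600000
set_option backward.isDefEq.respectTransparency false
set_option backward.isDefEq.respectTransparency.types false
universe u
open CategoryTheory CategoryTheory.Limits AlgebraicGeometry

namespace Groth.Agent.Lib.Helper28.EffDesc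

/-- a commutative square is cartesian if it is so locally on the bottom left corner -/
theorem isPullback_of_local_target {V X S U : Scheme.{u}} (a : V ⟶ X) (q : V ⟶ U) (p : X ⟶ S)
    (u : U ⟶ S) (hw : a ≫ p = q ≫ u) (𝒲 : U.OpenCover) (Vi : 𝒲.I₀ → Scheme.{u})
    (fi : ∀ i, Vi i ⟶ V) (qi : ∀ i, Vi i ⟶ 𝒲.X i)
    (hsq : ∀ i, IsPullback (fi i) (qi i) q (𝒲.f i))
    (hpb : ∀ i, IsPullback (fi i ≫ a) (qi i) p (𝒲.f i ≫ u)) : IsPullback a q p u := by
  suffices hc : IsIso (pullback.lift a q hw) from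
    IsPullback.of_iso_pullback ⟨hw⟩ (asIso (pullback.lift a q hw)) (pullback.lift_fst _ _ _)
      (pullback.lift_snd _ _ _)
  change MorphismProperty.isomorphisms Scheme.{u} _
  refine IsZariskiLocalAtTarget.of_openCover (P := MorphismProperty.isomorphisms Scheme.{u})
    (𝒲.pullback₁ (pullback.snd p u)) (fun i => ?_)
  have h1 : IsPullback (pullback.fst (pullback.snd p u) (𝒲.f i) ≫ pullback.fst p u)
      (pullback.snd (pullback.snd p u) (𝒲.f i)) p (𝒲.f i ≫ u) :=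
    (IsPullback.of_hasPullback (pullback.snd p u) (𝒲.f i)).paste_horiz (IsPullback.of_hasPullback p u)
  obtain ⟨e, he1, he2⟩ : ∃ e : Vi i ≅ pullback (pullback.snd p u) (𝒲.f i),
      e.hom ≫ pullback.fst (pullback.snd p u) (𝒲.f i) ≫ pullback.fst p u = fi i ≫ a ∧
      e.hom ≫ pullback.snd (pullback.snd p u) (𝒲.f i) = qi i :=
    ⟨(hpb i).isoIsPullback _ _ h1, (hpb i).isoIsPullback_hom_fst _ _ h1,
      (hpb i).isoIsPullback_hom_snd _ _ h1⟩
  have big : IsPullback (fi i) (e.hom ≫ pullback.snd (pullback.snd p u) (𝒲.f i))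
      (pullback.lift a q hw ≫ pullback.snd p u) (𝒲.f i) := by
    rw [he2, pullback.lift_snd]
    exact hsq i
  have comm : fi i ≫ pullback.lift a q hw = e.hom ≫ pullback.fst (pullback.snd p u) (𝒲.f i) := by
    apply pullback.hom_ext
    · rw [Category.assoc, pullback.lift_fst, Category.assoc, he1]
    · rw [Category.assoc, pullback.lift_snd, Category.assoc, pullback.condition, ← Category.assoc,
        he2, (hsq i).w]
  have sq : IsPullback (fi i) e.hom (pullback.lift a q hw)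
      (pullback.fst (pullback.snd p u) (𝒲.f i)) :=
    IsPullback.of_bot big comm (IsPullback.of_hasPullback _ _)
  have hsnd : pullback.snd (pullback.lift a q hw) (pullback.fst (pullback.snd p u) (𝒲.f i)) =
      sq.isoPullback.inv ≫ e.hom := by
    rw [Iso.eq_inv_comp, sq.isoPullback_hom_snd]
  change IsIso (pullback.snd (pullback.lift a q hw) (pullback.fst (pullback.snd p u) (𝒲.f i)))
  rw [hsnd]
  infer_instance

section Data

variable {V X S : Scheme.{u}} (a : V ⟶ X) (p : X ⟶ S) [Flat p] [Surjective p] [QuasiCompact p]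
  (𝒱 : V.OpenCover) [Category 𝒱.I₀] [𝒱.LocallyDirected]
  (U : 𝒱.I₀ → Scheme.{u}) (u : ∀ i, U i ⟶ S) (q : ∀ i, 𝒱.X i ⟶ U i)
  (hpb : ∀ i, IsPullback (𝒱.f i ≫ a) (q i) p (u i))
  (τ : ∀ {i j : 𝒱.I₀}, (i ⟶ j) → (U i ⟶ U j))
  (hτ : ∀ {i j : 𝒱.I₀} (hij : i ⟶ j), q i ≫ τ hij = 𝒱.trans hij ≫ q j)

include hpb in
theorem vepi_qi (i : 𝒱.I₀) : Epi (q i) := by
  have : Flat (q i) := MorphismProperty.of_isPullback (P := @Flat) (hpb i) inferInstance
  have : Surjective (q i) := MorphismProperty.of_isPullback (P := @Surjective) (hpb i) inferInstance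
  exact Flat.epi_of_flat_of_surjective (q i)

include hpb in
theorem vsurj_qi (i : 𝒱.I₀) : Function.Surjective (q i) := by
  have : Surjective (q i) := MorphismProperty.of_isPullback (P := @Surjective) (hpb i) inferInstance
  exact (q i).surjective

include hpb hτ in
theorem vtau_u {i j : 𝒱.I₀} (hij : i ⟶ j) : τ hij ≫ u j = u i := by
  have := vepi_qi a p 𝒱 U u q hpb i
  rw [← cancel_epi (q i), ← Category.assoc, hτ, Category.assoc, ← (hpb j).w, ← Category.assoc,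
    ← Category.assoc, 𝒱.trans_map, (hpb i).w]

include hpb hτ in
theorem vtau_id (i : 𝒱.I₀) : τ (𝟙 i) = 𝟙 (U i) := by
  have := vepi_qi a p 𝒱 U u q hpb i
  rw [← cancel_epi (q i), hτ, 𝒱.trans_id, Category.id_comp, Category.comp_id]

include hpb hτ in
theorem vtau_comp {i j k : 𝒱.I₀} (hij : i ⟶ j) (hjk : j ⟶ k) : τ (hij ≫ hjk) = τ hij ≫ τ hjk := by
  have := vepi_qi a p 𝒱 U u q hpb i
  rw [← cancel_epi (q i), hτ, 𝒱.trans_comp, Category.assoc, ← hτ hjk, ← Category.assoc, ← hτ hij,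
    Category.assoc]

include hpb hτ in
theorem vtau_cart {i j : 𝒱.I₀} (hij : i ⟶ j) : IsPullback (𝒱.trans hij) (q i) (q j) (τ hij) := by
  have big : IsPullback (𝒱.trans hij ≫ 𝒱.f j ≫ a) (q i) p (τ hij ≫ u j) := by
    rw [← Category.assoc, 𝒱.trans_map, vtau_u a p 𝒱 U u q hpb τ hτ hij]
    exact hpb i
  exact IsPullback.of_right big (hτ hij).symm (hpb j)

include hpb hτ in
theorem vtau_open {i j : 𝒱.I₀} (hij : i ⟶ j) : IsOpenImmersion (τ hij) := by
  have hQ : (@Surjective ⊓ @Flat ⊓ @QuasiCompact : MorphismProperty Scheme.{u}) (q j) :=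
    ⟨⟨MorphismProperty.of_isPullback (P := @Surjective) (hpb j) inferInstance,
      MorphismProperty.of_isPullback (P := @Flat) (hpb j) inferInstance⟩,
      MorphismProperty.of_isPullback (P := @QuasiCompact) (hpb j) inferInstance⟩
  exact MorphismProperty.of_isPullback_of_descendsAlong (P := @IsOpenImmersion)
    (Q := (@Surjective ⊓ @Flat ⊓ @QuasiCompact : MorphismProperty Scheme.{u}))
    (vtau_cart a p 𝒱 U u q hpb τ hτ hij) hQ (inferInstance : IsOpenImmersion (𝒱.trans hij))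

/-- the diagram of the local quotients -/
noncomputable def vF : 𝒱.I₀ ⥤ Scheme.{u} where
  obj := U
  map := fun {i j} hij => τ hij
  map_id := fun i => vtau_id a p 𝒱 U u q hpb τ hτ i
  map_comp := fun {i j k} hij hjk => vtau_comp a p 𝒱 U u q hpb τ hτ hij hjk

theorem vF_map {i j : 𝒱.I₀} (hij : i ⟶ j) : (vF a p 𝒱 U u q hpb τ hτ).map hij = τ hij := rfl

theorem vF_locDir : ((vF a p 𝒱 U u q hpb τ hτ) ⋙ Scheme.forget).IsLocallyDirected := by
  constructor
  intro i j k fi fj xi xj heq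
  obtain ⟨yi, rfl⟩ := vsurj_qi a p 𝒱 U u q hpb i xi
  obtain ⟨yj, rfl⟩ := vsurj_qi a p 𝒱 U u q hpb j xj
  have heq' : τ fi (q i yi) = τ fj (q j yj) := heq
  have e1 : q k (𝒱.trans fi yi) = τ fj (q j yj) := by
    rw [← heq', ← Scheme.Hom.comp_apply, ← Scheme.Hom.comp_apply, hτ fi]
  obtain ⟨y', hy'1, hy'2⟩ := Scheme.exists_preimage_of_isPullback (vtau_cart a p 𝒱 U u q hpb τ hτ fj)
    (𝒱.trans fi yi) (q j yj) e1
  obtain ⟨l, fli, flj, x, hx1, hx2⟩ := 𝒱.exists_of_trans_eq_trans fi fj yi y' hy'1.symm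
  refine ⟨l, fli, flj, q l x, ?_, ?_⟩
  · change τ fli (q l x) = q i yi
    rw [← Scheme.Hom.comp_apply, hτ fli, Scheme.Hom.comp_apply, hx1]
  · change τ flj (q l x) = q j yj
    rw [← Scheme.Hom.comp_apply, hτ flj, Scheme.Hom.comp_apply, hx2, hy'2]

variable [Small.{u} 𝒱.I₀] [Quiver.IsThin 𝒱.I₀]

include hpb hτ in
theorem glueV_aux :
    ∃ (U' : Scheme.{u}) (u' : U' ⟶ S) (q' : V ⟶ U'), IsPullback a q' p u' ∧
      ∀ i, ∃ ι : U i ⟶ U', 𝒱.f i ≫ q' = q i ≫ ι := by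
  have hopen : ∀ {i j : 𝒱.I₀} (f : i ⟶ j), IsOpenImmersion ((vF a p 𝒱 U u q hpb τ hτ).map f) :=
    fun f => vtau_open a p 𝒱 U u q hpb τ hτ f
  have hld : ((vF a p 𝒱 U u q hpb τ hτ) ⋙ Scheme.forget).IsLocallyDirected :=
    vF_locDir a p 𝒱 U u q hpb τ hτ
  have hcompat : ∀ {i j : 𝒱.I₀} (hij : i ⟶ j),
      𝒱.trans hij ≫ q j ≫ colimit.ι (vF a p 𝒱 U u q hpb τ hτ) j =
        q i ≫ colimit.ι (vF a p 𝒱 U u q hpb τ hτ) i := by
    intro i j hij
    rw [← Category.assoc, ← hτ hij, Category.assoc]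
    congr 1
    exact colimit.w (vF a p 𝒱 U u q hpb τ hτ) hij
  obtain ⟨q', hq'⟩ : ∃ q' : V ⟶ colimit (vF a p 𝒱 U u q hpb τ hτ), ∀ i,
      𝒱.f i ≫ q' = q i ≫ colimit.ι (vF a p 𝒱 U u q hpb τ hτ) i :=
    ⟨Scheme.OpenCover.glueMorphismsOfLocallyDirected 𝒱
      (fun i => q i ≫ colimit.ι (vF a p 𝒱 U u q hpb τ hτ) i) (fun {i j} hij => hcompat hij),
      fun i => Scheme.OpenCover.map_glueMorphismsOfLocallyDirected 𝒱 _ _ i⟩
  obtain ⟨u', hu'⟩ : ∃ u' : colimit (vF a p 𝒱 U u q hpb τ hτ) ⟶ S, ∀ i,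
      colimit.ι (vF a p 𝒱 U u q hpb τ hτ) i ≫ u' = u i :=
    ⟨colimit.desc (vF a p 𝒱 U u q hpb τ hτ)
      { pt := S
        ι := { app := u
               naturality := fun {i j} hij => by
                 change τ hij ≫ u j = u i ≫ 𝟙 S
                 rw [Category.comp_id, vtau_u a p 𝒱 U u q hpb τ hτ hij] } },
      fun i => colimit.ι_desc _ i⟩
  have hw : a ≫ p = q' ≫ u' := by
    apply Scheme.Cover.hom_ext 𝒱
    intro i
    rw [← Category.assoc, (hpb i).w, ← Category.assoc, hq' i, Category.assoc, hu' i]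
  refine ⟨colimit (vF a p 𝒱 U u q hpb τ hτ), u', q', ?_,
    fun i => ⟨colimit.ι (vF a p 𝒱 U u q hpb τ hτ) i, hq' i⟩⟩
  have hpre : ∀ i, q' ⁻¹ᵁ (colimit.ι (vF a p 𝒱 U u q hpb τ hτ) i).opensRange =
      (𝒱.f i).opensRange := by
    intro i
    ext v
    constructor
    · rintro ⟨x, hx⟩
      obtain ⟨j, y, rfl⟩ := 𝒱.exists_eq v
      have e1 : q' (𝒱.f j y) = colimit.ι (vF a p 𝒱 U u q hpb τ hτ) j (q j y) := by
        rw [← Scheme.Hom.comp_apply, hq' j]
        rfl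
      have e2 : colimit.ι (vF a p 𝒱 U u q hpb τ hτ) i x =
          colimit.ι (vF a p 𝒱 U u q hpb τ hτ) j (q j y) := hx.trans e1
      obtain ⟨k, fi, fj, z, hz1, hz2⟩ := (Scheme.IsLocallyDirected.ι_eq_ι_iff (vF a p 𝒱 U u q hpb τ hτ)).mp e2
      have hz2' : q j y = τ fj z := hz2.symm
      obtain ⟨w, hw1, hw2⟩ := Scheme.exists_preimage_of_isPullback
        (vtau_cart a p 𝒱 U u q hpb τ hτ fj) y z hz2'
      refine ⟨𝒱.trans fi w, ?_⟩
      rw [← Scheme.Hom.comp_apply, 𝒱.trans_map, ← hw1, ← Scheme.Hom.comp_apply, 𝒱.trans_map]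
    · rintro ⟨y, rfl⟩
      refine ⟨q i y, ?_⟩
      rw [← Scheme.Hom.comp_apply, hq' i]
      rfl
  refine isPullback_of_local_target a q' p u' hw
    (Scheme.IsLocallyDirected.openCover (vF a p 𝒱 U u q hpb τ hτ)) (fun i => 𝒱.X i)
    (fun i => 𝒱.f i) (fun i => q i) (fun i => ?_) (fun i => ?_)
  · exact (IsOpenImmersion.isPullback (q i) (𝒱.f i)
      (colimit.ι (vF a p 𝒱 U u q hpb τ hτ) i) q' (hq' i) (hpre i)).flip
  · change IsPullback (𝒱.f i ≫ a) (q i) p (colimit.ι (vF a p 𝒱 U u q hpb τ hτ) i ≫ u')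
    rw [hu' i]
    exact hpb i

end Data

theorem glueV {V X S : Scheme.{u}} (a : V ⟶ X) (p : X ⟶ S) [Flat p] [Surjective p] [QuasiCompact p]
    (𝒱 : V.OpenCover) [Category 𝒱.I₀] [𝒱.LocallyDirected] [Small.{u} 𝒱.I₀] [Quiver.IsThin 𝒱.I₀]
    (U : 𝒱.I₀ → Scheme.{u}) (u : ∀ i, U i ⟶ S) (q : ∀ i, 𝒱.X i ⟶ U i)
    (hpb : ∀ i, IsPullback (𝒱.f i ≫ a) (q i) p (u i))
    (hτ : ∀ {i j : 𝒱.I₀} (hij : i ⟶ j), ∃ τ : U i ⟶ U j, q i ≫ τ = 𝒱.trans hij ≫ q j) :
    ∃ (U' : Scheme.{u}) (u' : U' ⟶ S) (q' : V ⟶ U'), IsPullback a q' p u' ∧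
      ∀ i, ∃ ι : U i ⟶ U', 𝒱.f i ≫ q' = q i ≫ ι := by
  choose τ hτ using @hτ
  exact glueV_aux a p 𝒱 U u q hpb (fun {i j} hij => τ hij) (fun {i j} hij => hτ hij)

end Groth.Agent.Lib.Helper28.EffDesc
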