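import Groth.Agent.Lib.Helper28.EffDesc.Basic

/-!
# Effective descent (helper28): stable opens of a descent datum, restriction; the universally injective case
-/

set_option autoImplicit false
set_option maxHeartbeats 1600000
set_option backward.isDefEq.respectTransparency false
set_option backward.isDefEq.respectTransparency.types false
universe u
open CategoryTheory CategoryTheory.Limits AlgebraicGeometry

namespace Groth.Agent.Lib.Helper28.EffDesc

open Desc

variable {X S : Scheme.{u}} {p : X ⟶ S}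

/-- an open of the total space stable under the gluing bijections -/
def Stable (D : SchDD p) (O : D.obj.left.Opens) : Prop :=
  ∀ ⦃T : Scheme.{u}⦄ (x₀ x₁ : T ⟶ X) (h : x₀ ≫ p = x₁ ≫ p) (v : Lifts D.obj x₀),
    Set.range v.1 ⊆ (O : Set D.obj.left) → Set.range (D.φ x₀ x₁ h v).1 ⊆ (O : Set D.obj.left)

section Restrict

variable (D : SchDD p) (O : D.obj.left.Opens) (hO : Stable D O)

theorem range_comp_ι {T : Scheme.{u}} (v : T ⟶ (O : Scheme.{u})) :
    Set.range (v ≫ O.ι) ⊆ (O : Set D.obj.left) := by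
  rintro _ ⟨t, rfl⟩
  rw [Scheme.Hom.comp_apply]
  exact (v t).2

/-- the point of `D` attached to a point of the open `O` -/
def toLifts {T : Scheme.{u}} {x : T ⟶ X} (v : Lifts (Over.mk (O.ι ≫ D.obj.hom)) x) : Lifts D.obj x :=
  ⟨v.1 ≫ O.ι, by rw [Category.assoc]; exact v.2⟩

@[simp] theorem toLifts_val {T : Scheme.{u}} {x : T ⟶ X} (v : Lifts (Over.mk (O.ι ≫ D.obj.hom)) x) :
    (toLifts D O v).1 = v.1 ≫ O.ι := rfl

include hO in
theorem range_phi_toLifts {T : Scheme.{u}} (x₀ x₁ : T ⟶ X) (h : x₀ ≫ p = x₁ ≫ p)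
    (v : Lifts (Over.mk (O.ι ≫ D.obj.hom)) x₀) :
    Set.range (D.φ x₀ x₁ h (toLifts D O v)).1 ⊆ Set.range O.ι := by
  rw [Scheme.Opens.range_ι]
  exact hO x₀ x₁ h (toLifts D O v) (range_comp_ι D O v.1)

/-- the restricted gluing map -/
noncomputable def resMap {T : Scheme.{u}} (x₀ x₁ : T ⟶ X) (h : x₀ ≫ p = x₁ ≫ p)
    (v : Lifts (Over.mk (O.ι ≫ D.obj.hom)) x₀) : Lifts (Over.mk (O.ι ≫ D.obj.hom)) x₁ :=
  ⟨IsOpenImmersion.lift O.ι (D.φ x₀ x₁ h (toLifts D O v)).1 (range_phi_toLifts D O hO x₀ x₁ h v), by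
    change IsOpenImmersion.lift O.ι _ _ ≫ O.ι ≫ D.obj.hom = x₁
    rw [IsOpenImmersion.lift_fac_assoc]
    exact phi_hom D x₀ x₁ h _⟩

theorem resMap_ι {T : Scheme.{u}} (x₀ x₁ : T ⟶ X) (h : x₀ ≫ p = x₁ ≫ p)
    (v : Lifts (Over.mk (O.ι ≫ D.obj.hom)) x₀) :
    (resMap D O hO x₀ x₁ h v).1 ≫ O.ι = (D.φ x₀ x₁ h (toLifts D O v)).1 :=
  IsOpenImmersion.lift_fac _ _ _

theorem toLifts_resMap {T : Scheme.{u}} (x₀ x₁ : T ⟶ X) (h : x₀ ≫ p = x₁ ≫ p)
    (v : Lifts (Over.mk (O.ι ≫ D.obj.hom)) x₀) :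
    toLifts D O (resMap D O hO x₀ x₁ h v) = D.φ x₀ x₁ h (toLifts D O v) :=
  Subtype.ext (resMap_ι D O hO x₀ x₁ h v)

theorem lifts_ext {T : Scheme.{u}} {x : T ⟶ X} (v w : Lifts (Over.mk (O.ι ≫ D.obj.hom)) x)
    (h : toLifts D O v = toLifts D O w) : v = w := by
  apply Subtype.ext
  have := congrArg Subtype.val h
  simp only [toLifts_val] at this
  exact (cancel_mono O.ι).mp this

/-- the restriction of a descent datum to a stable open -/
noncomputable def restrictDD : SchDD p where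
  obj := Over.mk (O.ι ≫ D.obj.hom)
  φ T x₀ x₁ h :=
    { toFun := resMap D O hO x₀ x₁ h
      invFun := resMap D O hO x₁ x₀ h.symm
      left_inv := fun v => by
        apply lifts_ext D O
        rw [toLifts_resMap, toLifts_resMap, D.φ_comp, D.φ_self]
      right_inv := fun v => by
        apply lifts_ext D O
        rw [toLifts_resMap, toLifts_resMap, D.φ_comp, D.φ_self] }
  φ_natural := fun T T' g x₀ x₁ h h' v v' hv' => by
    change (resMap D O hO (g ≫ x₀) (g ≫ x₁) h' v').1 = g ≫ (resMap D O hO x₀ x₁ h v).1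
    rw [← cancel_mono O.ι, Category.assoc, resMap_ι, resMap_ι]
    refine D.φ_natural g x₀ x₁ h h' (toLifts D O v) (toLifts D O v') ?_
    rw [toLifts_val, toLifts_val, hv', Category.assoc]
  φ_self := fun T x v => by
    change resMap D O hO x x rfl v = v
    apply lifts_ext D O
    rw [toLifts_resMap, D.φ_self]
  φ_comp := fun T x₀ x₁ x₂ h₀₁ h₁₂ v => by
    change resMap D O hO x₁ x₂ h₁₂ (resMap D O hO x₀ x₁ h₀₁ v) = resMap D O hO x₀ x₂ _ v
    apply lifts_ext D O
    rw [toLifts_resMap, toLifts_resMap, toLifts_resMap, D.φ_comp]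

theorem restrictDD_hom : (restrictDD D O hO).obj.hom = O.ι ≫ D.obj.hom := rfl

theorem restrictDD_phi_ι {T : Scheme.{u}} (x₀ x₁ : T ⟶ X) (h : x₀ ≫ p = x₁ ≫ p)
    (v : Lifts (restrictDD D O hO).obj x₀) :
    ((restrictDD D O hO).φ x₀ x₁ h v).1 ≫ O.ι = (D.φ x₀ x₁ h (toLifts D O v)).1 :=
  resMap_ι D O hO x₀ x₁ h v

end Restrict

/-- for a universally injective `p`, every open is stable -/
theorem stable_of_universallyInjective [UniversallyInjective p] (D : SchDD p)
    (O : D.obj.left.Opens) : Stable D O := by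
  intro T x₀ x₁ h v hv
  rintro _ ⟨t, rfl⟩
  have h' : (T.fromSpecResidueField t ≫ x₀) ≫ p = (T.fromSpecResidueField t ≫ x₁) ≫ p := by
    rw [Category.assoc, Category.assoc, h]
  have hiff : UniversallyInjective p ↔ ∀ (K : Type u) [Field K],
      Function.Injective (fun g : Spec (.of K) ⟶ X ↦ g ≫ p) := (tfae_universallyInjective p).out 0 1
  have hinj := hiff.mp ‹UniversallyInjective p› (T.residueField t)
  have e : T.fromSpecResidueField t ≫ x₀ = T.fromSpecResidueField t ≫ x₁ := hinj h'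
  obtain ⟨v', hv'⟩ : ∃ v' : Lifts D.obj (T.fromSpecResidueField t ≫ x₀),
      v'.1 = T.fromSpecResidueField t ≫ v.1 :=
    ⟨⟨T.fromSpecResidueField t ≫ v.1, by rw [Category.assoc, v.2]⟩, rfl⟩
  have hnat : (D.φ _ _ h' v').1 = T.fromSpecResidueField t ≫ (D.φ x₀ x₁ h v).1 :=
    D.φ_natural _ x₀ x₁ h h' v v' hv'
  have hself : (D.φ _ _ h' v').1 = v'.1 := phi_self' D _ _ e h' v'
  have key : T.fromSpecResidueField t ≫ (D.φ x₀ x₁ h v).1 = T.fromSpecResidueField t ≫ v.1 := by
    rw [← hnat, hself, hv']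
  have e1 := congrArg (fun m : Spec (T.residueField t) ⟶ D.obj.left => m (IsLocalRing.closedPoint _)) key
  simp only [Scheme.Hom.comp_apply, Scheme.fromSpecResidueField_apply] at e1
  change (D.φ x₀ x₁ h v).1 t ∈ (O : Set D.obj.left)
  rw [e1]
  exact hv ⟨t, rfl⟩

/-- a flat, surjective, quasi-compact and universally injective morphism is affine -/
theorem isAffineHom_of_radicial [Flat p] [Surjective p] [QuasiCompact p] [UniversallyInjective p] :
    IsAffineHom p := by
  have hq : Topology.IsQuotientMap p := Flat.isQuotientMap_of_surjective p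
  have hh : IsHomeomorph p := isHomeomorph_iff_isQuotientMap_injective.mpr ⟨hq, p.injective⟩
  refine isAffineHom_of_isInducing p hh.isInducing ?_
  rw [p.surjective.range_eq]
  exact isClosed_univ

end Groth.Agent.Lib.Helper28.EffDesc
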