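import Groth.Agent.Lib.Helper28.EffDesc.Glue
import Groth.Agent.Lib.Helper28.EffDesc.GlueV
import Groth.Agent.Lib.Helper28.EffDesc.Restrict

/-!
# Effective descent (helper28): every descent datum relative to a flat, surjective, quasi-compact and universally
injective morphism is effective
-/

set_option autoImplicit false
set_option maxHeartbeats 1600000
set_option backward.isDefEq.respectTransparency false
set_option backward.isDefEq.respectTransparency.types false
universe u
open CategoryTheory CategoryTheory.Limits AlgebraicGeometry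

namespace Groth.Agent.Lib.Helper28.EffDesc

open Desc

variable {X S : Scheme.{u}} {p : X ⟶ S}

/-- the affine case: `X` affine -/
theorem exists_quot_of_radicial_affine [Flat p] [Surjective p] [QuasiCompact p]
    [UniversallyInjective p] [IsAffine X] (D : SchDD p) :
    ∃ (U : Scheme.{u}) (u : U ⟶ S) (q : D.obj.left ⟶ U), IsPullback D.obj.hom q p u ∧ IsInv D q := by
  have hst := stable_of_universallyInjective D
  have hex : ∀ O : D.obj.left.affineOpens, ∃ (U : Scheme.{u}) (u : U ⟶ S)
      (q : (O.1 : Scheme.{u}) ⟶ U), IsPullback (O.1.ι ≫ D.obj.hom) q p u ∧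
      IsInv (restrictDD D O.1 (hst O.1)) q := by
    intro O
    haveI : IsAffine (O.1 : Scheme.{u}) := O.2
    haveI : IsAffineHom (restrictDD D O.1 (hst O.1)).obj.hom := by
      change IsAffineHom (O.1.ι ≫ D.obj.hom)
      infer_instance
    exact exists_quot_of_local (restrictDD D O.1 (hst O.1)) (fun W => localQuot_affineOpen _ W.2)
  choose U u q hpb hinv using hex
  have : Small.{u} D.obj.left.directedAffineCover.I₀ :=
    inferInstanceAs (Small.{u} D.obj.left.affineOpens)
  -- comparison of the restricted gluing maps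
  have hres : ∀ {i j : D.obj.left.directedAffineCover.I₀} (hij : i ⟶ j) {T : Scheme.{u}}
      (x₀ x₁ : T ⟶ X) (h : x₀ ≫ p = x₁ ≫ p) (v : Lifts (restrictDD D i.1 (hst i.1)).obj x₀)
      (vj : Lifts (restrictDD D j.1 (hst j.1)).obj x₀),
      vj.1 = v.1 ≫ D.obj.left.directedAffineCover.trans hij →
      ((restrictDD D j.1 (hst j.1)).φ x₀ x₁ h vj).1 =
        ((restrictDD D i.1 (hst i.1)).φ x₀ x₁ h v).1 ≫ D.obj.left.directedAffineCover.trans hij := by
    intro i j hij T x₀ x₁ h v vj hvj
    have htm : D.obj.left.directedAffineCover.trans hij ≫ j.1.ι = i.1.ι :=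
      D.obj.left.directedAffineCover.trans_map hij
    rw [← cancel_mono j.1.ι, Category.assoc, htm, restrictDD_phi_ι, restrictDD_phi_ι]
    refine phi_congr D rfl rfl h h _ _ ?_
    rw [toLifts_val, toLifts_val, hvj, Category.assoc, htm]
  have hτ : ∀ {i j : D.obj.left.directedAffineCover.I₀} (hij : i ⟶ j), ∃ τ : U i ⟶ U j,
      q i ≫ τ = D.obj.left.directedAffineCover.trans hij ≫ q j := by
    intro i j hij
    refine exists_desc (restrictDD D i.1 (hst i.1)) (u i) (q i) (hpb i) (hinv i) _ ?_
    intro T x₀ x₁ h v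
    have htm : D.obj.left.directedAffineCover.trans hij ≫ j.1.ι = i.1.ι :=
      D.obj.left.directedAffineCover.trans_map hij
    obtain ⟨vj, hvj⟩ : ∃ vj : Lifts (restrictDD D j.1 (hst j.1)).obj x₀,
        vj.1 = v.1 ≫ D.obj.left.directedAffineCover.trans hij := by
      refine ⟨⟨v.1 ≫ D.obj.left.directedAffineCover.trans hij, ?_⟩, rfl⟩
      change (v.1 ≫ D.obj.left.directedAffineCover.trans hij) ≫ j.1.ι ≫ D.obj.hom = x₀
      rw [Category.assoc, ← Category.assoc (D.obj.left.directedAffineCover.trans hij), htm]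
      exact v.2
    have e1 := hres hij x₀ x₁ h v vj hvj
    have e2 := hinv j x₀ x₁ h vj
    rw [e1, hvj, Category.assoc, Category.assoc] at e2
    exact e2
  obtain ⟨U', u', q', hPB, hι⟩ :=
    glueV D.obj.hom p D.obj.left.directedAffineCover U u q hpb hτ
  refine ⟨U', u', q', hPB, ?_⟩
  intro T x₀ x₁ h v
  apply Scheme.Cover.hom_ext (D.obj.left.directedAffineCover.pullback₁ v.1)
  intro i
  obtain ⟨ι, hιi⟩ := hι i
  have hιi' : i.1.ι ≫ q' = q i ≫ ι := hιi
  change pullback.fst v.1 i.1.ι ≫ (D.φ x₀ x₁ h v).1 ≫ q' = pullback.fst v.1 i.1.ι ≫ v.1 ≫ q'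
  have h' : (pullback.fst v.1 i.1.ι ≫ x₀) ≫ p = (pullback.fst v.1 i.1.ι ≫ x₁) ≫ p := by
    rw [Category.assoc, Category.assoc, h]
  obtain ⟨vi, hvi⟩ : ∃ vi : Lifts (restrictDD D i.1 (hst i.1)).obj (pullback.fst v.1 i.1.ι ≫ x₀),
      vi.1 = pullback.snd v.1 i.1.ι := by
    refine ⟨⟨pullback.snd v.1 i.1.ι, ?_⟩, rfl⟩
    change pullback.snd v.1 i.1.ι ≫ i.1.ι ≫ D.obj.hom = pullback.fst v.1 i.1.ι ≫ x₀
    rw [← Category.assoc, ← pullback.condition, Category.assoc, v.2]
  have hnat : (D.φ _ _ h' (toLifts D i.1 vi)).1 = pullback.fst v.1 i.1.ι ≫ (D.φ x₀ x₁ h v).1 := by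
    refine D.φ_natural _ x₀ x₁ h h' v (toLifts D i.1 vi) ?_
    rw [toLifts_val, hvi, pullback.condition]
  have e1 := restrictDD_phi_ι D i.1 (hst i.1) _ _ h' vi
  have e2 := hinv i _ _ h' vi
  calc pullback.fst v.1 i.1.ι ≫ (D.φ x₀ x₁ h v).1 ≫ q'
      = ((restrictDD D i.1 (hst i.1)).φ _ _ h' vi).1 ≫ i.1.ι ≫ q' := by
        rw [← Category.assoc, ← hnat, ← e1, Category.assoc]
    _ = ((restrictDD D i.1 (hst i.1)).φ _ _ h' vi).1 ≫ q i ≫ ι := by rw [hιi']
    _ = vi.1 ≫ q i ≫ ι := by rw [← Category.assoc, e2, Category.assoc]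
    _ = vi.1 ≫ i.1.ι ≫ q' := by rw [hιi']
    _ = pullback.fst v.1 i.1.ι ≫ v.1 ≫ q' := by
        rw [hvi, ← Category.assoc, ← pullback.condition, Category.assoc]

/-- a quotient exists for every descent datum relative to a universally injective fpqc morphism -/
theorem exists_quot_of_radicial [Flat p] [Surjective p] [QuasiCompact p] [UniversallyInjective p]
    (D : SchDD p) :
    ∃ (U : Scheme.{u}) (u : U ⟶ S) (q : D.obj.left ⟶ U), IsPullback D.obj.hom q p u ∧ IsInv D q := by
  haveI : IsAffineHom p := isAffineHom_of_radicial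
  refine exists_quot_of_local D (fun W => ?_)
  have w : pullback.snd p W.1.ι ≫ W.1.ι = pullback.fst p W.1.ι ≫ p := pullback.condition.symm
  haveI : IsAffine (W.1 : Scheme.{u}) := W.2
  haveI : IsAffine (pullback p W.1.ι) := inferInstance
  haveI : Flat (pullback.snd p W.1.ι) := MorphismProperty.pullback_snd (P := @Flat) _ _ inferInstance
  haveI : Surjective (pullback.snd p W.1.ι) :=
    MorphismProperty.pullback_snd (P := @Surjective) _ _ inferInstance
  haveI : QuasiCompact (pullback.snd p W.1.ι) :=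
    MorphismProperty.pullback_snd (P := @QuasiCompact) _ _ inferInstance
  haveI : UniversallyInjective (pullback.snd p W.1.ι) :=
    MorphismProperty.pullback_snd (P := @UniversallyInjective) _ _ inferInstance
  obtain ⟨U', u', q', hpb', hinv'⟩ :=
    exists_quot_of_radicial_affine (pullDD (pullback.fst p W.1.ι) W.1.ι w D)
  exact transfer (pullback.fst p W.1.ι) W.1.ι w D (𝟙 _) (Category.id_comp _) (Category.id_comp _)
    u' q' hpb' hinv'

/-- **Every descent datum relative to a universally injective fpqc morphism is effective.** -/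
theorem schDD_effective_of_radicial [Flat p] [Surjective p] [QuasiCompact p] [UniversallyInjective p]
    (D : SchDD p) : ∃ U : Over S, Nonempty ((Desc.toDD p).obj U ≅ D) := by
  obtain ⟨U, u, q, hpb, hinv⟩ := exists_quot_of_radicial D
  exact ⟨Over.mk u, effective_of_quot D u q hpb hinv⟩

end Groth.Agent.Lib.Helper28.EffDesc
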