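import Groth.Agent.Lib.Helper28.EffDesc.Etale
import Groth.Agent.Lib.Helper28.EffDesc.Radicial
import Groth.Agent.S0076
import Groth.Prelude.Def_EtBase

/-!
# Effective descent (helper28): étale schemes over a radicial fpqc cover

For `g : S' ⟶ S` flat, surjective, quasi-compact and universally injective, base change along `g` is an equivalence
between étale `S`-schemes and étale `S'`-schemes.  Every étale `X' ⟶ S'` carries a canonical descent datum: two
points are glued when they agree after a surjective base change (unique lifting of étale morphisms along universal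
homeomorphisms); all descent data relative to `g` are effective (`schDD_effective_of_radicial`).
-/

set_option autoImplicit false
set_option maxHeartbeats 1600000
set_option backward.isDefEq.respectTransparency false
set_option backward.isDefEq.respectTransparency.types false
universe u
open CategoryTheory CategoryTheory.Limits AlgebraicGeometry

namespace Groth.Agent.Lib.Helper28.EffDesc

open Desc

/-- lifting of points of an étale scheme along an integral universally injective surjective morphism -/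
theorem exists_lift_of_uh {T₀ T S' X' : Scheme.{u}} (i : T₀ ⟶ T) [IsIntegralHom i]
    [UniversallyInjective i] [Surjective i] (a : X' ⟶ S') [Etale a] (x : T ⟶ S') (w₀ : T₀ ⟶ X')
    (hw₀ : w₀ ≫ a = i ≫ x) : ∃ w : T ⟶ X', w ≫ a = x ∧ i ≫ w = w₀ := by
  have : Etale (pullback.snd a x) := MorphismProperty.pullback_snd (P := @Etale) _ _ inferInstance
  obtain ⟨s₀, hs₀1, hs₀2⟩ : ∃ s₀ : T₀ ⟶ pullback a x, s₀ ≫ pullback.fst a x = w₀ ∧
      s₀ ≫ pullback.snd a x = i :=
    ⟨pullback.lift w₀ i hw₀, pullback.lift_fst _ _ _, pullback.lift_snd _ _ _⟩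
  obtain ⟨ψ, hψ1, hψ2⟩ : ∃ ψ : pullback (𝟙 T) i ⟶ pullback (pullback.snd a x) i,
      ψ ≫ pullback.fst (pullback.snd a x) i = pullback.snd (𝟙 T) i ≫ s₀ ∧
      ψ ≫ pullback.snd (pullback.snd a x) i = pullback.snd (𝟙 T) i :=
    ⟨pullback.lift (pullback.snd (𝟙 T) i ≫ s₀) (pullback.snd (𝟙 T) i)
      (by rw [Category.assoc, hs₀2]), pullback.lift_fst _ _ _, pullback.lift_snd _ _ _⟩
  obtain ⟨φ, hφ1, hφ2⟩ := Groth.Agent.S0076.exists_descent i (pullback.snd a x) (𝟙 T) ψ hψ2
  refine ⟨φ ≫ pullback.fst a x, ?_, ?_⟩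
  · rw [Category.assoc, pullback.condition, ← Category.assoc, hφ1, Category.id_comp]
  · obtain ⟨σ, hσ1, hσ2⟩ : ∃ σ : T₀ ⟶ pullback (𝟙 T) i, σ ≫ pullback.fst (𝟙 T) i = i ∧
        σ ≫ pullback.snd (𝟙 T) i = 𝟙 T₀ :=
      ⟨pullback.lift i (𝟙 T₀) (by rw [Category.comp_id, Category.id_comp]),
        pullback.lift_fst _ _ _, pullback.lift_snd _ _ _⟩
    have e : i ≫ φ = s₀ := by
      calc i ≫ φ = σ ≫ pullback.fst (𝟙 T) i ≫ φ := by rw [← Category.assoc, hσ1]
        _ = σ ≫ ψ ≫ pullback.fst (pullback.snd a x) i := by rw [hφ2]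
        _ = σ ≫ pullback.snd (𝟙 T) i ≫ s₀ := by rw [hψ1]
        _ = s₀ := by rw [← Category.assoc, hσ2, Category.id_comp]
    rw [← Category.assoc, e, hs₀1]

section Rel

variable {S' X' : Scheme.{u}} (a : X' ⟶ S')

/-- two points of `X'` agree after a surjective base change -/
def Rel {T : Scheme.{u}} (v w : T ⟶ X') : Prop :=
  ∃ (T' : Scheme.{u}) (π : T' ⟶ T), Surjective π ∧ π ≫ v = π ≫ w

theorem Rel.refl {T : Scheme.{u}} (v : T ⟶ X') : Rel v v := ⟨T, 𝟙 T, inferInstance, rfl⟩

theorem Rel.symm {T : Scheme.{u}} {v w : T ⟶ X'} (h : Rel v w) : Rel w v := by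
  obtain ⟨T', π, hs, e⟩ := h
  exact ⟨T', π, hs, e.symm⟩

theorem Rel.trans {T : Scheme.{u}} {v w z : T ⟶ X'} (h₁ : Rel v w) (h₂ : Rel w z) : Rel v z := by
  obtain ⟨T₁, π₁, hs₁, e₁⟩ := h₁
  obtain ⟨T₂, π₂, hs₂, e₂⟩ := h₂
  have : Surjective (pullback.fst π₁ π₂) :=
    MorphismProperty.pullback_fst (P := @Surjective) _ _ hs₂
  refine ⟨pullback π₁ π₂, pullback.fst π₁ π₂ ≫ π₁, inferInstance, ?_⟩
  calc (pullback.fst π₁ π₂ ≫ π₁) ≫ v = pullback.fst π₁ π₂ ≫ π₁ ≫ w := by rw [Category.assoc, e₁]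
    _ = (pullback.snd π₁ π₂ ≫ π₂) ≫ w := by rw [← Category.assoc, pullback.condition]
    _ = pullback.snd π₁ π₂ ≫ π₂ ≫ z := by rw [Category.assoc, e₂]
    _ = (pullback.fst π₁ π₂ ≫ π₁) ≫ z := by rw [← Category.assoc, pullback.condition]

theorem Rel.comp {T T'' : Scheme.{u}} (k : T'' ⟶ T) {v w : T ⟶ X'} (h : Rel v w) :
    Rel (k ≫ v) (k ≫ w) := by
  obtain ⟨T₁, π, hs, e⟩ := h
  refine ⟨pullback π k, pullback.snd π k, MorphismProperty.pullback_snd (P := @Surjective) _ _ hs, ?_⟩
  have e1 : ∀ z : T ⟶ X', pullback.snd π k ≫ k ≫ z = pullback.fst π k ≫ π ≫ z := fun z => by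
    rw [← Category.assoc, ← pullback.condition, Category.assoc]
  rw [e1, e1, e]

theorem Rel.unique [Etale a] {T : Scheme.{u}} {v w w' : T ⟶ X'} (h : Rel v w) (h' : Rel v w')
    (hw : w ≫ a = w' ≫ a) : w = w' := by
  obtain ⟨T₁, π, hs, e⟩ := h.symm.trans h'
  exact Groth.Agent.S0076.eq_of_comp_surjective a π w w' hw e

variable {S : Scheme.{u}} (g : S' ⟶ S)

theorem exists_rel [IsSeparated g] [UniversallyInjective g] [Etale a] {T : Scheme.{u}}
    (x₀ x₁ : T ⟶ S') (h : x₀ ≫ g = x₁ ≫ g) (v : T ⟶ X') (hv : v ≫ a = x₀) :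
    ∃ w : T ⟶ X', w ≫ a = x₁ ∧ Rel v w := by
  have : Surjective (pullback.diagonal g) := (UniversallyInjective.iff_diagonal g).mp inferInstance
  obtain ⟨T₀, i, d, hid⟩ : ∃ (T₀ : Scheme.{u}) (i : T₀ ⟶ T) (d : T₀ ⟶ S'),
      IsPullback i d (pullback.lift x₀ x₁ h) (pullback.diagonal g) :=
    ⟨_, _, _, IsPullback.of_hasPullback _ _⟩
  have : IsClosedImmersion i :=
    MorphismProperty.of_isPullback (P := @IsClosedImmersion) hid.flip inferInstance
  have : Surjective i := MorphismProperty.of_isPullback (P := @Surjective) hid.flip inferInstance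
  have hi0 : i ≫ x₀ = d := by
    have := congrArg (fun m => m ≫ pullback.fst g g) hid.w
    simpa only [Category.assoc, pullback.lift_fst, pullback.diagonal_fst, Category.comp_id] using this
  have hi1 : i ≫ x₁ = d := by
    have := congrArg (fun m => m ≫ pullback.snd g g) hid.w
    simpa only [Category.assoc, pullback.lift_snd, pullback.diagonal_snd, Category.comp_id] using this
  obtain ⟨w, hw1, hw2⟩ := exists_lift_of_uh i a x₁ (i ≫ v) (by rw [Category.assoc, hv, hi0, hi1])
  exact ⟨w, hw1, T₀, i, inferInstance, hw2.symm⟩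

variable [IsSeparated g] [UniversallyInjective g] [Etale a]

/-- the gluing map of the canonical descent datum -/
noncomputable def radMap {T : Scheme.{u}} (x₀ x₁ : T ⟶ S') (h : x₀ ≫ g = x₁ ≫ g)
    (v : Lifts (Over.mk a) x₀) : Lifts (Over.mk a) x₁ :=
  ⟨(exists_rel a g x₀ x₁ h v.1 v.2).choose, (exists_rel a g x₀ x₁ h v.1 v.2).choose_spec.1⟩

theorem radMap_rel {T : Scheme.{u}} (x₀ x₁ : T ⟶ S') (h : x₀ ≫ g = x₁ ≫ g)
    (v : Lifts (Over.mk a) x₀) : Rel v.1 (radMap a g x₀ x₁ h v).1 :=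
  (exists_rel a g x₀ x₁ h v.1 v.2).choose_spec.2

theorem radMap_unique {T : Scheme.{u}} (x₀ x₁ : T ⟶ S') (h : x₀ ≫ g = x₁ ≫ g)
    (v : Lifts (Over.mk a) x₀) (w : Lifts (Over.mk a) x₁) (hr : Rel v.1 w.1) :
    radMap a g x₀ x₁ h v = w := by
  apply Subtype.ext
  refine Rel.unique a (radMap_rel a g x₀ x₁ h v) hr ?_
  have e1 : (radMap a g x₀ x₁ h v).1 ≫ a = x₁ := (radMap a g x₀ x₁ h v).2
  have e2 : w.1 ≫ a = x₁ := w.2
  rw [e1, e2]

/-- the canonical descent datum on an étale scheme over a radicial cover -/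
noncomputable def radDD : SchDD g where
  obj := Over.mk a
  φ T x₀ x₁ h :=
    { toFun := radMap a g x₀ x₁ h
      invFun := radMap a g x₁ x₀ h.symm
      left_inv := fun v => radMap_unique a g _ _ _ _ _ (radMap_rel a g x₀ x₁ h v).symm
      right_inv := fun v => radMap_unique a g _ _ _ _ _ (radMap_rel a g x₁ x₀ h.symm v).symm }
  φ_natural := fun T T' k x₀ x₁ h h' v v' hv' => by
    change (radMap a g (k ≫ x₀) (k ≫ x₁) h' v').1 = k ≫ (radMap a g x₀ x₁ h v).1
    obtain ⟨w, hw⟩ : ∃ w : Lifts (Over.mk a) (k ≫ x₁), w.1 = k ≫ (radMap a g x₀ x₁ h v).1 := by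
      refine ⟨⟨k ≫ (radMap a g x₀ x₁ h v).1, ?_⟩, rfl⟩
      have e1 : (radMap a g x₀ x₁ h v).1 ≫ a = x₁ := (radMap a g x₀ x₁ h v).2
      change (k ≫ (radMap a g x₀ x₁ h v).1) ≫ a = k ≫ x₁
      rw [Category.assoc, e1]
    rw [← hw]
    refine congrArg Subtype.val (radMap_unique a g _ _ h' v' w ?_)
    rw [hw, hv']
    exact Rel.comp k (radMap_rel a g x₀ x₁ h v)
  φ_self := fun T x v => radMap_unique a g x x rfl v v (Rel.refl _)
  φ_comp := fun T x₀ x₁ x₂ h₀₁ h₁₂ v => by
    change radMap a g x₁ x₂ h₁₂ (radMap a g x₀ x₁ h₀₁ v) = radMap a g x₀ x₂ (h₀₁.trans h₁₂) v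
    exact (radMap_unique a g x₀ x₂ (h₀₁.trans h₁₂) v _
      ((radMap_rel a g x₀ x₁ h₀₁ v).trans (radMap_rel a g x₁ x₂ h₁₂ _))).symm

theorem radDD_hom : (radDD a g).obj.hom = a := rfl

end Rel

/-- **Base change along a radicial fpqc morphism is an equivalence on étale schemes.** -/
theorem bc_isEquivalence_of_radicial {S S' : Scheme.{u}} (g : S' ⟶ S) [Flat g] [Surjective g]
    [QuasiCompact g] [UniversallyInjective g] : (EtCoh.bc g).IsEquivalence := by
  have : IsAffineHom g := isAffineHom_of_radicial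
  have : UniversallyClosed g := by
    rw [universallyClosed_eq]
    intro X' Y' i₁ i₂ g' hg'
    have : Flat g' := MorphismProperty.of_isPullback (P := @Flat) hg'.flip inferInstance
    have : Surjective g' := MorphismProperty.of_isPullback (P := @Surjective) hg'.flip inferInstance
    have : QuasiCompact g' :=
      MorphismProperty.of_isPullback (P := @QuasiCompact) hg'.flip inferInstance
    have : UniversallyInjective g' :=
      MorphismProperty.of_isPullback (P := @UniversallyInjective) hg'.flip inferInstance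
    have hq : Topology.IsQuotientMap g' := Flat.isQuotientMap_of_surjective g'
    have hh : IsHomeomorph g' := isHomeomorph_iff_isQuotientMap_injective.mpr ⟨hq, g'.injective⟩
    exact hh.isClosedMap
  have : IsIntegralHom g := IsIntegralHom.iff_universallyClosed_and_isAffineHom.mpr
    ⟨inferInstance, inferInstance⟩
  have : IsSeparated g := inferInstance
  refine { faithful := ⟨?_⟩, full := ⟨?_⟩, essSurj := ⟨?_⟩ }
  · intro U V φ₁ φ₂ h
    apply MorphismProperty.Over.Hom.ext
    have : Surjective (pullback.fst U.hom g) :=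
      MorphismProperty.pullback_fst (P := @Surjective) _ _ inferInstance
    have h1 := (EtCoh.isPullback_bc_map g φ₁).w
    have h2 := (EtCoh.isPullback_bc_map g φ₂).w
    rw [h] at h1
    have h3 : pullback.fst U.hom g ≫ φ₁.left = pullback.fst U.hom g ≫ φ₂.left := h1.symm.trans h2
    refine Groth.Agent.S0076.eq_of_comp_surjective V.hom (pullback.fst U.hom g) φ₁.left φ₂.left ?_ h3
    rw [MorphismProperty.Over.w, MorphismProperty.Over.w]
  · intro U V ψ
    have hψ : ψ.left ≫ pullback.snd V.hom g = pullback.snd U.hom g := MorphismProperty.Over.w ψ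
    obtain ⟨φ, hφ1, hφ2⟩ := Groth.Agent.S0076.exists_descent g V.hom U.hom ψ.left hψ
    refine ⟨MorphismProperty.Over.homMk φ hφ1 trivial, ?_⟩
    apply MorphismProperty.Over.Hom.ext
    apply pullback.hom_ext
    · have h1 := (EtCoh.isPullback_bc_map g (MorphismProperty.Over.homMk φ hφ1 trivial : U ⟶ V)).w
      exact h1.trans hφ2
    · have h2 : ((EtCoh.bc g).map (MorphismProperty.Over.homMk φ hφ1 trivial : U ⟶ V)).left ≫
          pullback.snd V.hom g = pullback.snd U.hom g := MorphismProperty.Over.w _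
      exact h2.trans hψ.symm
  · intro X'
    obtain ⟨U, ⟨e⟩⟩ := schDD_effective_of_radicial (radDD X'.hom g)
    haveI := Groth.Agent.S0079.result.{u}
    haveI := Groth.Agent.S0081.result.{u}
    have hU : Etale U.hom :=
      prop_of_effective (P := @Etale) (radDD X'.hom g) U e (inferInstance : Etale X'.hom)
    have hw : e.hom.hom.left ≫ X'.hom = pullback.fst g U.hom := Over.w e.hom.hom
    have hk1 : e.inv.hom.left ≫ e.hom.hom.left = 𝟙 _ := by
      have := congrArg (fun f : radDD X'.hom g ⟶ radDD X'.hom g => f.hom.left) e.inv_hom_id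
      exact this
    have hk2 : e.hom.hom.left ≫ e.inv.hom.left = 𝟙 _ := by
      have := congrArg (fun f : (toDD g).obj U ⟶ (toDD g).obj U => f.hom.left) e.hom_inv_id
      exact this
    obtain ⟨k, hk⟩ : ∃ k : pullback g U.hom ≅ X'.left, k.hom = e.hom.hom.left :=
      ⟨⟨e.hom.hom.left, e.inv.hom.left, hk2, hk1⟩, rfl⟩
    refine ⟨MorphismProperty.Over.mk ⊤ U.hom hU,
      ⟨MorphismProperty.Over.isoMk (pullbackSymmetry U.hom g ≪≫ k) ?_⟩⟩
    change (pullbackSymmetry U.hom g ≪≫ k).hom ≫ X'.hom = pullback.snd U.hom g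
    rw [Iso.trans_hom, hk, Category.assoc, hw, pullbackSymmetry_hom_comp_fst]

end Groth.Agent.Lib.Helper28.EffDesc
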