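import Groth.Agent.Lib.Helper28.EffDesc.RadicialEt
import Groth.Agent.S0084
import Groth.Prelude.Def_FEt

/-!
# Effective descent (helper28): finite étale covers over a radicial fpqc cover; the perfect closure of a field
-/

set_option autoImplicit false
set_option maxHeartbeats 1600000
set_option backward.isDefEq.respectTransparency false
set_option backward.isDefEq.respectTransparency.types false
universe u
open CategoryTheory CategoryTheory.Limits AlgebraicGeometry

namespace Groth.Agent.Lib.Helper28.EffDesc

open Desc

/-- **Base change along a radicial fpqc morphism is an equivalence on finite étale covers.** -/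
theorem fet_restrict_isEquivalence_of_radicial {S S' : Scheme.{u}} (g : S' ⟶ S) [Flat g]
    [Surjective g] [QuasiCompact g] [UniversallyInjective g] : (FEt.restrict g).IsEquivalence := by
  have : IsAffineHom g := isAffineHom_of_radicial
  have : UniversallyClosed g := by
    rw [universallyClosed_eq]
    intro X' Y' i₁ i₂ g' hg'
    have : Flat g' := MorphismProperty.of_isPullback (P := @Flat) hg'.flip inferInstance
    have : Surjective g' := MorphismProperty.of_isPullback (P := @Surjective) hg'.flip inferInstance
    have : QuasiCompact g' :=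
      MorphismProperty.of_isPullback (P := @QuasiCompact) hg'.flip inferInstance
    have : UniversallyInjective g' :=
      MorphismProperty.of_isPullback (P := @UniversallyInjective) hg'.flip inferInstance
    have hq : Topology.IsQuotientMap g' := Flat.isQuotientMap_of_surjective g'
    have hh : IsHomeomorph g' := isHomeomorph_iff_isQuotientMap_injective.mpr ⟨hq, g'.injective⟩
    exact hh.isClosedMap
  have : IsIntegralHom g := IsIntegralHom.iff_universallyClosed_and_isAffineHom.mpr
    ⟨inferInstance, inferInstance⟩
  have : IsSeparated g := inferInstance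
  have hmap : ∀ {U V : FEt.Cat S} (φ : U ⟶ V),
      ((FEt.restrict g).map φ).left ≫ pullback.fst V.hom g = pullback.fst U.hom g ≫ φ.left := by
    intro U V φ
    exact pullback.lift_fst _ _ _
  refine { faithful := ⟨?_⟩, full := ⟨?_⟩, essSurj := ⟨?_⟩ }
  · intro U V φ₁ φ₂ h
    apply MorphismProperty.Over.Hom.ext
    have : Etale V.hom := V.prop.2
    have : Surjective (pullback.fst U.hom g) :=
      MorphismProperty.pullback_fst (P := @Surjective) _ _ inferInstance
    have h1 := hmap φ₁
    have h2 := hmap φ₂
    rw [h] at h1
    have h3 : pullback.fst U.hom g ≫ φ₁.left = pullback.fst U.hom g ≫ φ₂.left := h1.symm.trans h2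
    refine Groth.Agent.S0076.eq_of_comp_surjective V.hom (pullback.fst U.hom g) φ₁.left φ₂.left ?_ h3
    rw [MorphismProperty.Over.w, MorphismProperty.Over.w]
  · intro U V ψ
    have : Etale V.hom := V.prop.2
    have hψ : ψ.left ≫ pullback.snd V.hom g = pullback.snd U.hom g := MorphismProperty.Over.w ψ
    obtain ⟨φ, hφ1, hφ2⟩ := Groth.Agent.S0076.exists_descent g V.hom U.hom ψ.left hψ
    refine ⟨MorphismProperty.Over.homMk φ hφ1 trivial, ?_⟩
    apply MorphismProperty.Over.Hom.ext
    apply pullback.hom_ext
    · have h1 := hmap (MorphismProperty.Over.homMk φ hφ1 trivial : U ⟶ V)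
      exact h1.trans hφ2
    · have h2 : ((FEt.restrict g).map (MorphismProperty.Over.homMk φ hφ1 trivial : U ⟶ V)).left ≫
          pullback.snd V.hom g = pullback.snd U.hom g := MorphismProperty.Over.w _
      exact h2.trans hψ.symm
  · intro X'
    have hX'et : Etale X'.hom := X'.prop.2
    obtain ⟨U, ⟨e⟩⟩ := schDD_effective_of_radicial (radDD X'.hom g)
    have := Groth.Agent.S0079.result.{u}
    have := Groth.Agent.S0081.result.{u}
    have := Groth.Agent.S0084.result.{u}
    have hU : Etale U.hom :=
      prop_of_effective (P := @Etale) (radDD X'.hom g) U e hX'et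
    have hUf : IsFinite U.hom :=
      prop_of_effective (P := @IsFinite) (radDD X'.hom g) U e X'.prop.1
    have hw : e.hom.hom.left ≫ X'.hom = pullback.fst g U.hom := Over.w e.hom.hom
    have hk1 : e.inv.hom.left ≫ e.hom.hom.left = 𝟙 _ := by
      have := congrArg (fun f : radDD X'.hom g ⟶ radDD X'.hom g => f.hom.left) e.inv_hom_id
      exact this
    have hk2 : e.hom.hom.left ≫ e.inv.hom.left = 𝟙 _ := by
      have := congrArg (fun f : (toDD g).obj U ⟶ (toDD g).obj U => f.hom.left) e.hom_inv_id
      exact this
    obtain ⟨k, hk⟩ : ∃ k : pullback g U.hom ≅ X'.left, k.hom = e.hom.hom.left :=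
      ⟨⟨e.hom.hom.left, e.inv.hom.left, hk2, hk1⟩, rfl⟩
    refine ⟨MorphismProperty.Over.mk ⊤ U.hom ⟨hUf, hU⟩,
      ⟨MorphismProperty.Over.isoMk (pullbackSymmetry U.hom g ≪≫ k) ?_⟩⟩
    change (pullbackSymmetry U.hom g ≪≫ k).hom ≫ X'.hom = pullback.snd U.hom g
    rw [Iso.trans_hom, hk, Category.assoc, hw, pullbackSymmetry_hom_comp_fst]

/-- pulling back finite étale covers to the perfect closure of the base field is an equivalence -/
theorem fet_restrict_perfectClosure (k : Type u) [Field k] (p : ℕ) [Fact p.Prime] [CharP k p]
    {X : Scheme.{u}} (f : X ⟶ Spec (CommRingCat.of k)) :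
    (FEt.restrict (pullback.fst f
      (Spec.map (CommRingCat.ofHom (PerfectClosure.of k p))))).IsEquivalence := by
  letI : Algebra k (PerfectClosure k p) := (PerfectClosure.of k p).toAlgebra
  have hπ : Spec.map (CommRingCat.ofHom (PerfectClosure.of k p)) =
      Spec.map (CommRingCat.ofHom (algebraMap k (PerfectClosure k p))) := rfl
  have : ExpChar k p := ExpChar.prime Fact.out
  have hrad : IsPRadical (algebraMap k (PerfectClosure k p)) p := PerfectClosure.isPRadical k p
  have hpi : IsPurelyInseparable k (PerfectClosure k p) :=
    IsPRadical.isPurelyInseparable k (PerfectClosure k p) p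
  have h1 : Flat (Spec.map (CommRingCat.ofHom (algebraMap k (PerfectClosure k p)))) := by
    rw [HasRingHomProperty.Spec_iff (P := @Flat)]
    simp only [CommRingCat.hom_ofHom]
    exact RingHom.flat_algebraMap_iff.mpr inferInstance
  have h2 : Surjective (Spec.map (CommRingCat.ofHom (algebraMap k (PerfectClosure k p)))) := by
    refine ⟨fun x => ?_⟩
    have : Subsingleton (Spec (CommRingCat.of k)) := inferInstanceAs (Subsingleton (PrimeSpectrum k))
    have : Nonempty (Spec (CommRingCat.of (PerfectClosure k p))) :=
      inferInstanceAs (Nonempty (PrimeSpectrum (PerfectClosure k p)))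
    obtain ⟨z⟩ := ‹Nonempty (Spec (CommRingCat.of (PerfectClosure k p)))›
    exact ⟨z, Subsingleton.elim _ _⟩
  have h3 : UniversallyInjective
      (Spec.map (CommRingCat.ofHom (algebraMap k (PerfectClosure k p)))) := by
    have := (tfae_universallyInjective
      (Spec.map (CommRingCat.ofHom (algebraMap k (PerfectClosure k p))))).out 0 1
    rw [this]
    intro F _ g₁ g₂ hg
    have e1 : Spec.map (Spec.preimage g₁) = g₁ := Spec.map_preimage g₁
    have e2 : Spec.map (Spec.preimage g₂) = g₂ := Spec.map_preimage g₂
    have hcomp : CommRingCat.ofHom (algebraMap k (PerfectClosure k p)) ≫ Spec.preimage g₁ =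
        CommRingCat.ofHom (algebraMap k (PerfectClosure k p)) ≫ Spec.preimage g₂ := by
      apply Spec.map_injective
      rw [Spec.map_comp, Spec.map_comp, e1, e2]
      exact hg
    have hinj := IsPurelyInseparable.injective_comp_algebraMap k (PerfectClosure k p) F
    have e3 : (Spec.preimage g₁).hom = (Spec.preimage g₂).hom :=
      hinj (congrArg CommRingCat.Hom.hom hcomp)
    rw [← e1, ← e2, CommRingCat.hom_ext e3]
  rw [hπ]
  have : Flat (pullback.fst f (Spec.map (CommRingCat.ofHom (algebraMap k (PerfectClosure k p))))) :=
    MorphismProperty.pullback_fst (P := @Flat) _ _ h1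
  have : Surjective
      (pullback.fst f (Spec.map (CommRingCat.ofHom (algebraMap k (PerfectClosure k p))))) :=
    MorphismProperty.pullback_fst (P := @Surjective) _ _ h2
  have : UniversallyInjective
      (pullback.fst f (Spec.map (CommRingCat.ofHom (algebraMap k (PerfectClosure k p))))) :=
    MorphismProperty.pullback_fst (P := @UniversallyInjective) _ _ h3
  have : QuasiCompact
      (pullback.fst f (Spec.map (CommRingCat.ofHom (algebraMap k (PerfectClosure k p))))) :=
    MorphismProperty.pullback_fst (P := @QuasiCompact) _ _ inferInstance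
  exact fet_restrict_isEquivalence_of_radicial _

end Groth.Agent.Lib.Helper28.EffDesc
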