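import Groth.Agent.Lib.Helper28.EffDesc.Section

/-!
# Effective descent (helper28): saturation of opens of the total space of a descent datum

For a descent datum `D` on `a : V ⟶ X` relative to `p : X ⟶ S`, the transport map `σ : V ×_S X ⟶ V`,
`(v, x) ↦ φ_{a v, x}(v)` is a base change of `p`.  When `p` is flat and locally of finite presentation, `σ` is open and
the saturation `σ(pr₁⁻¹ O)` of an open `O` is a stable open containing `O`, quasi-compact when `O` and `p` are.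
-/

set_option autoImplicit false
set_option maxHeartbeats 1600000
set_option backward.isDefEq.respectTransparency false
set_option backward.isDefEq.respectTransparency.types false
universe u
open CategoryTheory CategoryTheory.Limits AlgebraicGeometry

namespace Groth.Agent.Lib.Helper28.EffDesc

open Desc

variable {X S : Scheme.{u}} {p : X ⟶ S} (D : SchDD p)

theorem sat_cond : (pullback.fst (D.obj.hom ≫ p) p ≫ D.obj.hom) ≫ p =
    pullback.snd (D.obj.hom ≫ p) p ≫ p := by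
  rw [Category.assoc]
  exact pullback.condition

/-- the transport map `(v, x) ↦ φ_{a v, x}(v)` -/
noncomputable def sigma : pullback (D.obj.hom ≫ p) p ⟶ D.obj.left :=
  (D.φ (pullback.fst (D.obj.hom ≫ p) p ≫ D.obj.hom) (pullback.snd (D.obj.hom ≫ p) p) (sat_cond D)
    ⟨pullback.fst (D.obj.hom ≫ p) p, rfl⟩).1

theorem sigma_hom : sigma D ≫ D.obj.hom = pullback.snd (D.obj.hom ≫ p) p :=
  phi_hom D _ _ (sat_cond D) _

theorem comp_sigma {T : Scheme.{u}} (t : T ⟶ pullback (D.obj.hom ≫ p) p) (x₀ x₁ : T ⟶ X)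
    (h : x₀ ≫ p = x₁ ≫ p) (v : Lifts D.obj x₀)
    (hv : t ≫ pullback.fst (D.obj.hom ≫ p) p = v.1)
    (hx₁ : t ≫ pullback.snd (D.obj.hom ≫ p) p = x₁) : t ≫ sigma D = (D.φ x₀ x₁ h v).1 := by
  have hx₀ : t ≫ pullback.fst (D.obj.hom ≫ p) p ≫ D.obj.hom = x₀ := by
    rw [← Category.assoc, hv]
    exact v.2
  exact (phi_natural' D t _ _ (sat_cond D) x₀ x₁ hx₀ hx₁ h ⟨pullback.fst (D.obj.hom ≫ p) p, rfl⟩ v
    hv.symm).symm

/-- `σ` is a base change of `p` -/
theorem isPullback_sigma : IsPullback (sigma D) (pullback.fst (D.obj.hom ≫ p) p ≫ D.obj.hom)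
    (D.obj.hom ≫ p) p := by
  refine isPullback_of_ex_uniq ?_ ?_ ?_
  · rw [← Category.assoc, sigma_hom]
    exact (sat_cond D).symm
  · intro T v' x₀ hvx
    have h' : (v' ≫ D.obj.hom) ≫ p = x₀ ≫ p := by
      rw [Category.assoc]
      exact hvx
    obtain ⟨w, hw⟩ : ∃ w : Lifts D.obj x₀, w = D.φ (v' ≫ D.obj.hom) x₀ h' ⟨v', rfl⟩ := ⟨_, rfl⟩
    have hc : w.1 ≫ D.obj.hom ≫ p = (v' ≫ D.obj.hom) ≫ p := by
      have e : w.1 ≫ D.obj.hom = x₀ := w.2
      rw [← Category.assoc, e, h']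
    obtain ⟨l, hl1, hl2⟩ : ∃ l : T ⟶ pullback (D.obj.hom ≫ p) p,
        l ≫ pullback.fst (D.obj.hom ≫ p) p = w.1 ∧
        l ≫ pullback.snd (D.obj.hom ≫ p) p = v' ≫ D.obj.hom :=
      ⟨pullback.lift w.1 (v' ≫ D.obj.hom) hc, pullback.lift_fst _ _ _, pullback.lift_snd _ _ _⟩
    refine ⟨l, ?_, ?_⟩
    · rw [comp_sigma D l x₀ (v' ≫ D.obj.hom) h'.symm w hl1 hl2, hw, D.φ_comp, D.φ_self]
    · rw [← Category.assoc, hl1]
      exact w.2
  · intro T l l' h1 h2
    have hsnd : l ≫ pullback.snd (D.obj.hom ≫ p) p = l' ≫ pullback.snd (D.obj.hom ≫ p) p := by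
      have := congrArg (fun m => m ≫ D.obj.hom) h1
      simpa only [Category.assoc, sigma_hom] using this
    have hp1 : (l ≫ pullback.fst (D.obj.hom ≫ p) p ≫ D.obj.hom) ≫ p =
        (l ≫ pullback.snd (D.obj.hom ≫ p) p) ≫ p := by
      simp only [Category.assoc]
      rw [pullback.condition]
    obtain ⟨v, hv⟩ : ∃ v : Lifts D.obj (l ≫ pullback.fst (D.obj.hom ≫ p) p ≫ D.obj.hom),
        v.1 = l ≫ pullback.fst (D.obj.hom ≫ p) p := ⟨⟨_, Category.assoc _ _ _⟩, rfl⟩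
    obtain ⟨v', hv'⟩ : ∃ v' : Lifts D.obj (l ≫ pullback.fst (D.obj.hom ≫ p) p ≫ D.obj.hom),
        v'.1 = l' ≫ pullback.fst (D.obj.hom ≫ p) p :=
      ⟨⟨_, by rw [Category.assoc]; exact h2.symm⟩, rfl⟩
    have e1 := comp_sigma D l _ _ hp1 v hv.symm rfl
    have e2 := comp_sigma D l' _ _ hp1 v' hv'.symm hsnd.symm
    have e3 : D.φ _ _ hp1 v = D.φ _ _ hp1 v' := Subtype.ext (e1.symm.trans (h1.trans e2))
    have e4 : v = v' := (D.φ _ _ hp1).injective e3
    apply pullback.hom_ext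
    · rw [← hv, ← hv', e4]
    · exact hsnd

instance sigma_flat [Flat p] : Flat (sigma D) :=
  MorphismProperty.of_isPullback (P := @Flat) (isPullback_sigma D).flip inferInstance

instance sigma_lfp [LocallyOfFinitePresentation p] : LocallyOfFinitePresentation (sigma D) :=
  MorphismProperty.of_isPullback (P := @LocallyOfFinitePresentation) (isPullback_sigma D).flip
    inferInstance

/-- the section `v ↦ (v, a v)` of the first projection -/
noncomputable def delta : D.obj.left ⟶ pullback (D.obj.hom ≫ p) p :=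
  pullback.lift (𝟙 _) D.obj.hom (Category.id_comp _)

theorem delta_fst : delta D ≫ pullback.fst (D.obj.hom ≫ p) p = 𝟙 _ := pullback.lift_fst _ _ _

theorem delta_snd : delta D ≫ pullback.snd (D.obj.hom ≫ p) p = D.obj.hom := pullback.lift_snd _ _ _

theorem delta_sigma : delta D ≫ sigma D = 𝟙 _ := by
  rw [comp_sigma D (delta D) D.obj.hom D.obj.hom rfl ⟨𝟙 _, Category.id_comp _⟩ (delta_fst D)
    (delta_snd D), D.φ_self]

section Sat

variable [Flat p] [LocallyOfFinitePresentation p]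

/-- the saturation of an open of the total space -/
noncomputable def sat (O : D.obj.left.Opens) : D.obj.left.Opens :=
  ⟨(sigma D) '' ((pullback.fst (D.obj.hom ≫ p) p) ⁻¹' (O : Set D.obj.left)),
    (sigma D).isOpenMap _ ((pullback.fst (D.obj.hom ≫ p) p).continuous.isOpen_preimage _ O.2)⟩

theorem mem_sat (O : D.obj.left.Opens) (v : D.obj.left) :
    v ∈ sat D O ↔ ∃ z : ↥(pullback (D.obj.hom ≫ p) p),
      pullback.fst (D.obj.hom ≫ p) p z ∈ O ∧ sigma D z = v := Iff.rfl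

theorem le_sat (O : D.obj.left.Opens) : O ≤ sat D O := by
  intro v hv
  rw [mem_sat]
  refine ⟨delta D v, ?_, ?_⟩
  · rw [← Scheme.Hom.comp_apply, delta_fst]
    exact hv
  · rw [← Scheme.Hom.comp_apply, delta_sigma]
    rfl

theorem isCompact_sat [QuasiCompact p] (O : D.obj.left.Opens) (hO : IsCompact (O : Set D.obj.left)) :
    IsCompact (sat D O : Set D.obj.left) := by
  have : QuasiCompact (pullback.fst (D.obj.hom ≫ p) p) :=
    MorphismProperty.pullback_fst (P := @QuasiCompact) _ _ inferInstance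
  have h1 : IsCompact ((pullback.fst (D.obj.hom ≫ p) p) ⁻¹' (O : Set D.obj.left)) :=
    QuasiCompact.isCompact_preimage _ O.2 hO
  exact h1.image (sigma D).continuous

theorem stable_sat (O : D.obj.left.Opens) : Stable D (sat D O) := by
  intro T x₀ x₁ h v hv
  rintro _ ⟨t, rfl⟩
  obtain ⟨z, hzO, hz⟩ : ∃ z : ↥(pullback (D.obj.hom ≫ p) p),
      pullback.fst (D.obj.hom ≫ p) p z ∈ O ∧ sigma D z = v.1 t := (mem_sat D O _).mp (hv ⟨t, rfl⟩)
  obtain ⟨y, hy1, hy2⟩ := Scheme.Pullback.exists_preimage_pullback (f := sigma D) (g := v.1) z t hz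
  obtain ⟨T', t', t₀, ht'⟩ : ∃ (T' : Scheme.{u}) (t' : T' ⟶ pullback (sigma D) v.1) (_ : T'),
      ∀ s : T', t' s = y :=
    ⟨Spec ((pullback (sigma D) v.1).residueField y), (pullback (sigma D) v.1).fromSpecResidueField y,
      IsLocalRing.closedPoint _, fun s => Scheme.fromSpecResidueField_apply _ s⟩
  obtain ⟨z', hz'⟩ : ∃ z' : T' ⟶ pullback (D.obj.hom ≫ p) p,
      z' = t' ≫ pullback.fst (sigma D) v.1 := ⟨_, rfl⟩
  obtain ⟨τ, hτ⟩ : ∃ τ : T' ⟶ T, τ = t' ≫ pullback.snd (sigma D) v.1 := ⟨_, rfl⟩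
  have hz'τ : z' ≫ sigma D = τ ≫ v.1 := by
    rw [hz', hτ, Category.assoc, Category.assoc, pullback.condition]
  have hv2 : v.1 ≫ D.obj.hom = x₀ := v.2
  have hx : z' ≫ pullback.snd (D.obj.hom ≫ p) p = τ ≫ x₀ := by
    rw [← sigma_hom, ← Category.assoc, hz'τ, Category.assoc, hv2]
  have h1 : (z' ≫ pullback.fst (D.obj.hom ≫ p) p ≫ D.obj.hom) ≫ p = (τ ≫ x₀) ≫ p := by
    rw [← hx]
    simp only [Category.assoc]
    rw [pullback.condition]
  have h' : (τ ≫ x₀) ≫ p = (τ ≫ x₁) ≫ p := by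
    rw [Category.assoc, Category.assoc, h]
  have hc : (z' ≫ pullback.fst (D.obj.hom ≫ p) p) ≫ D.obj.hom ≫ p = (τ ≫ x₁) ≫ p := by
    rw [← h', ← h1]
    simp only [Category.assoc]
  obtain ⟨z'', hz''1, hz''2⟩ : ∃ z'' : T' ⟶ pullback (D.obj.hom ≫ p) p,
      z'' ≫ pullback.fst (D.obj.hom ≫ p) p = z' ≫ pullback.fst (D.obj.hom ≫ p) p ∧
      z'' ≫ pullback.snd (D.obj.hom ≫ p) p = τ ≫ x₁ :=
    ⟨pullback.lift _ _ hc, pullback.lift_fst _ _ _, pullback.lift_snd _ _ _⟩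
  obtain ⟨w, hw⟩ : ∃ w : Lifts D.obj (z' ≫ pullback.fst (D.obj.hom ≫ p) p ≫ D.obj.hom),
      w.1 = z' ≫ pullback.fst (D.obj.hom ≫ p) p := ⟨⟨_, Category.assoc _ _ _⟩, rfl⟩
  have e1 : z' ≫ sigma D = (D.φ _ _ h1 w).1 := comp_sigma D z' _ _ h1 w hw.symm hx
  have e2 : z'' ≫ sigma D = (D.φ _ _ (h1.trans h') w).1 :=
    comp_sigma D z'' _ _ (h1.trans h') w (hz''1.trans hw.symm) hz''2
  have e3 : (D.φ _ _ h' (D.φ _ _ h1 w)).1 = τ ≫ (D.φ x₀ x₁ h v).1 :=
    D.φ_natural τ x₀ x₁ h h' v (D.φ _ _ h1 w) (e1.symm.trans hz'τ)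
  have key : z'' ≫ sigma D = τ ≫ (D.φ x₀ x₁ h v).1 := by
    rw [e2, ← e3, D.φ_comp]
  have hτt : τ t₀ = t := by
    rw [hτ, Scheme.Hom.comp_apply, ht' t₀, hy2]
  have hz't : z' t₀ = z := by
    rw [hz', Scheme.Hom.comp_apply, ht' t₀, hy1]
  refine (mem_sat D O _).mpr ⟨z'' t₀, ?_, ?_⟩
  · rw [← Scheme.Hom.comp_apply, hz''1, Scheme.Hom.comp_apply, hz't]
    exact hzO
  · rw [← Scheme.Hom.comp_apply, key, Scheme.Hom.comp_apply, hτt]

end Sat

end Groth.Agent.Lib.Helper28.EffDesc
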